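import Mathlib

set_option autoImplicit false

namespace Cfsg.Agent.Helper88

open Polynomial in
/-- An endomorphism of a finite nonzero `𝔽_p`-space with `f ^ (p - 1) = 1` has an eigenvector. -/
theorem exists_eigenvector_of_pow {p : ℕ} [Fact p.Prime] {M : Type*} [AddCommGroup M] [Module (ZMod p) M]
    [Finite M] [Nontrivial M] (f : Module.End (ZMod p) M) (hf : f ^ (p - 1) = 1) :
    ∃ (μ : ZMod p) (v : M), v ≠ 0 ∧ f v = μ • v := by
  have hp : p.Prime := Fact.out
  have hint : IsIntegral (ZMod p) f := IsIntegral.of_finite (ZMod p) f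
  have hdvd : minpoly (ZMod p) f ∣ (X ^ (p - 1) - 1 : (ZMod p)[X]) := by
    apply minpoly.dvd
    simp [hf]
  have hsplit : (X ^ p - X : (ZMod p)[X]).Splits := by
    have := FiniteField.splits_X_pow_card_sub_X (p := p) (K := ZMod p)
    rw [ZMod.card, Algebra.algebraMap_self, Polynomial.map_id] at this
    exact this
  have hdvd2 : (X ^ (p - 1) - 1 : (ZMod p)[X]) ∣ X ^ p - X := by
    refine ⟨X, ?_⟩
    have e : (X : (ZMod p)[X]) ^ p = X ^ (p - 1) * X := by
      rw [← pow_succ, Nat.sub_add_cancel hp.pos]
    rw [e]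
    ring
  have hne : (X ^ p - X : (ZMod p)[X]) ≠ 0 := FiniteField.X_pow_card_sub_X_ne_zero (ZMod p) hp.one_lt
  have hms : (minpoly (ZMod p) f).Splits := hsplit.of_dvd hne (hdvd.trans hdvd2)
  have hdeg : (minpoly (ZMod p) f).degree ≠ 0 := (minpoly.degree_pos hint).ne'
  obtain ⟨μ, hμ⟩ := hms.exists_eval_eq_zero hdeg
  have hev : f.HasEigenvalue μ := Module.End.hasEigenvalue_of_isRoot hμ
  obtain ⟨v, hv⟩ := hev.exists_hasEigenvector
  exact ⟨μ, v, hv.2, hv.apply_eq_smul⟩

/-- An endomorphism `a` with `a ^ (p - 1) = 1` of a nontrivial finite abelian group of exponent `p`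
(given with its `𝔽_p`-module structure) has an "eigenvector". -/
theorem exists_eigen_of_module {V : Type*} [CommGroup V] [Finite V] [Nontrivial V] {p : ℕ} [Fact p.Prime]
    [Module (ZMod p) (Additive V)] (a : V →* V) (hap : ∀ x : V, a^[p - 1] x = x) :
    ∃ (k : ℕ) (u : V), u ≠ 1 ∧ a u = u ^ k := by
  let f : Additive V →ₗ[ZMod p] Additive V := (MonoidHom.toAdditive a).toZModLinearMap p
  have hfa : ∀ x : Additive V, Additive.toMul (f x) = a (Additive.toMul x) := fun x => rfl
  have hpow : ∀ (k : ℕ) (x : Additive V), Additive.toMul ((f ^ k) x) = a^[k] (Additive.toMul x) := by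
    intro k
    induction k with
    | zero => intro x; rfl
    | succ k ih =>
      intro x
      rw [pow_succ', Module.End.mul_apply, hfa, ih, Function.iterate_succ_apply']
  have hf : f ^ (p - 1) = 1 := by
    apply LinearMap.ext
    intro x
    apply Additive.toMul.injective
    rw [hpow, Module.End.one_apply]
    exact hap _
  have : Nontrivial (Additive V) := inferInstanceAs (Nontrivial V)
  have : Finite (Additive V) := inferInstanceAs (Finite V)
  obtain ⟨μ, v, hv, hfv⟩ := exists_eigenvector_of_pow f hf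
  refine ⟨μ.val, Additive.toMul v, ?_, ?_⟩
  · intro h
    apply hv
    apply Additive.toMul.injective
    exact h
  · rw [← hfa, hfv]
    have e : μ • v = μ.val • v := by
      rw [← Nat.cast_smul_eq_nsmul (ZMod p), ZMod.natCast_zmod_val]
    rw [e, toMul_nsmul]

theorem exists_eigen_commGroup {V : Type*} [CommGroup V] [Finite V] [Nontrivial V] {p : ℕ} [Fact p.Prime]
    (hexp : ∀ x : V, x ^ p = 1) (a : V →* V) (hap : ∀ x : V, a^[p - 1] x = x) :
    ∃ (k : ℕ) (u : V), u ≠ 1 ∧ a u = u ^ k :=
  @exists_eigen_of_module V _ _ _ p _ (AddCommGroup.zmodModule (n := p) (fun x => by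
    apply Additive.toMul.injective
    rw [toMul_nsmul, toMul_zero]
    exact hexp _)) a hap

/-- An automorphism `a` with `a ^ (p - 1) = 1` on an invariant nontrivial abelian subgroup `W` of exponent `p`
has an "eigenvector" in `W`. -/
theorem exists_eigen_in_subgroup {G : Type*} [Group G] {p : ℕ} [Fact p.Prime] (W : Subgroup G) [Finite W]
    (hW : W ≠ ⊥) (hcomm : ∀ x ∈ W, ∀ y ∈ W, x * y = y * x) (hexp : ∀ x ∈ W, x ^ p = 1)
    (a : MulAut G) (ha : ∀ x ∈ W, a x ∈ W) (hap : ∀ x ∈ W, (a ^ (p - 1)) x = x) :
    ∃ (k : ℕ) (u : G), u ∈ W ∧ u ≠ 1 ∧ a u = u ^ k := by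
  have hnt : Nontrivial W := by
    obtain ⟨w, hw1⟩ := (Subgroup.ne_bot_iff_exists_ne_one).mp hW
    exact ⟨⟨w, 1, hw1⟩⟩
  have hiter : ∀ (k : ℕ) (x : W),
      ((((a.toMonoidHom.comp W.subtype).codRestrict W (fun x => ha x x.2))^[k] x : W) : G) = (a ^ k) (x : G) := by
    intro k
    induction k with
    | zero => intro x; rfl
    | succ k ih =>
      intro x
      rw [Function.iterate_succ_apply', pow_succ', MulAut.mul_apply, ← ih]
      rfl
  obtain ⟨k, u, hu1, hau⟩ := @exists_eigen_commGroup W
    { (inferInstance : Group W) with mul_comm := fun x y => Subtype.ext (hcomm x x.2 y y.2) } _ hnt p _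
    (fun x => Subtype.ext (hexp x x.2))
    ((a.toMonoidHom.comp W.subtype).codRestrict W (fun x => ha x x.2))
    (fun x => Subtype.ext ((hiter _ x).trans (hap x x.2)))
  refine ⟨k, u, u.2, fun h => hu1 (Subtype.ext h), ?_⟩
  exact congrArg Subtype.val hau

/-- A commuting family of automorphisms of exponent dividing `p - 1` has a common "eigenvector" in every
nontrivial invariant abelian subgroup of exponent `p`. -/
theorem exists_common_eigen {G : Type*} [Group G] [Finite G] {p : ℕ} [Fact p.Prime] (H : Subgroup (MulAut G))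
    (hcomm : ∀ a ∈ H, ∀ b ∈ H, a * b = b * a) (hexp : ∀ a ∈ H, a ^ (p - 1) = 1) :
    ∀ (n : ℕ) (W : Subgroup G), Nat.card W = n → W ≠ ⊥ → (∀ x ∈ W, ∀ y ∈ W, x * y = y * x) →
      (∀ x ∈ W, x ^ p = 1) → (∀ a ∈ H, ∀ x ∈ W, a x ∈ W) →
      ∃ v ∈ W, v ≠ 1 ∧ ∀ a ∈ H, a v ∈ Subgroup.zpowers v := by
  intro n
  induction n using Nat.strong_induction_on with
  | _ n ih =>
    intro W hn hW hWc hWp hWH
    by_cases hall : ∀ a ∈ H, ∀ w ∈ W, a w ∈ Subgroup.zpowers w
    · obtain ⟨⟨w, hw⟩, hw1⟩ := (Subgroup.ne_bot_iff_exists_ne_one).mp hW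
      exact ⟨w, hw, fun h => hw1 (Subtype.ext h), fun a ha => hall a ha w hw⟩
    · push Not at hall
      obtain ⟨a, ha, w, hw, hwa⟩ := hall
      obtain ⟨k, u, hu, hu1, hau⟩ := exists_eigen_in_subgroup W hW hWc hWp a (hWH a ha)
        (fun x _ => by rw [hexp a ha]; rfl)
      let W' : Subgroup G :=
        { carrier := {x | x ∈ W ∧ a x = x ^ k}
          mul_mem' := by
            rintro x y ⟨hx, hax⟩ ⟨hy, hay⟩
            refine ⟨W.mul_mem hx hy, ?_⟩
            rw [map_mul, hax, hay, (show Commute x y from hWc x hx y hy).mul_pow]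
          one_mem' := ⟨W.one_mem, by rw [map_one, one_pow]⟩
          inv_mem' := by
            rintro x ⟨hx, hax⟩
            refine ⟨W.inv_mem hx, ?_⟩
            rw [map_inv, hax, inv_pow] }
      have hW'le : W' ≤ W := fun x hx => hx.1
      have hwW' : w ∉ W' := by
        intro h
        apply hwa
        rw [h.2]
        exact Subgroup.pow_mem _ (Subgroup.mem_zpowers w) k
      have hcard : Nat.card W' < n := by
        rw [← hn]
        by_contra hge
        have := Subgroup.eq_of_le_of_card_ge hW'le (not_lt.mp hge)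
        exact hwW' (this ▸ hw)
      have huW' : u ∈ W' := ⟨hu, hau⟩
      obtain ⟨v, hv, hv1, hva⟩ := ih _ hcard W' rfl
        (by
          intro h
          rw [h, Subgroup.mem_bot] at huW'
          exact hu1 huW')
        (fun x hx y hy => hWc x hx.1 y hy.1) (fun x hx => hWp x hx.1)
        (by
          intro b hb x hx
          refine ⟨hWH b hb x hx.1, ?_⟩
          have := congrArg (fun f : MulAut G => f x) (hcomm a ha b hb)
          simp only [MulAut.mul_apply] at this
          rw [this, hx.2, map_pow])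
      exact ⟨v, hW'le hv, hv1, hva⟩

universe u

/-- A finite `p`-group with a commuting family `H` of automorphisms of exponent dividing `p - 1` has a chain of
`H`-invariant normal subgroups with cyclic steps. -/
theorem exists_cyclic_chain {p : ℕ} [Fact p.Prime] :
    ∀ (n : ℕ) (P : Type u) [Group P] [Finite P], Nat.card P = n → IsPGroup p P →
      ∀ (H : Subgroup (MulAut P)), (∀ a ∈ H, ∀ b ∈ H, a * b = b * a) → (∀ a ∈ H, a ^ (p - 1) = 1) →
      ∃ (m : ℕ) (d : Fin (m + 1) → Subgroup P), d 0 = ⊥ ∧ d (Fin.last m) = ⊤ ∧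
        (∀ i, (d i).Normal ∧ ∀ a ∈ H, ∀ x ∈ d i, a x ∈ d i) ∧
        ∀ i : Fin m, d i.castSucc ≤ d i.succ ∧ ∃ x, d i.succ = d i.castSucc ⊔ Subgroup.zpowers x := by
  intro n
  induction n using Nat.strong_induction_on with
  | _ n ih =>
    intro P _ _ hn hP H hc he
    rcases subsingleton_or_nontrivial P with hsub | hnt
    · refine ⟨0, fun _ => ⊥, rfl, ?_, fun i => ⟨inferInstance, fun a _ x hx => ?_⟩, fun i => i.elim0⟩
      · ext x
        simp [Subsingleton.elim x 1]
      · rw [Subgroup.mem_bot] at hx ⊢
        rw [hx, map_one]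
    · have hZ : Nontrivial (Subgroup.center P) := hP.center_nontrivial
      let W₀ : Subgroup P :=
        { carrier := {z | z ∈ Subgroup.center P ∧ z ^ p = 1}
          mul_mem' := by
            rintro x y ⟨hx, hxp⟩ ⟨hy, hyp⟩
            refine ⟨Subgroup.mul_mem _ hx hy, ?_⟩
            have hcomm : Commute x y := Subgroup.mem_center_iff.mp hy x
            rw [hcomm.mul_pow, hxp, hyp, one_mul]
          one_mem' := ⟨Subgroup.one_mem _, one_pow _⟩
          inv_mem' := by
            rintro x ⟨hx, hxp⟩
            exact ⟨Subgroup.inv_mem _ hx, by rw [inv_pow, hxp, inv_one]⟩ }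
      have hW₀ : W₀ ≠ ⊥ := by
        have hZp : IsPGroup p (Subgroup.center P) := hP.to_subgroup _
        have hdvd : p ∣ Nat.card (Subgroup.center P) := by
          rcases hZp.card_eq_or_dvd with h1 | h1
          · exfalso
            have := Finite.one_lt_card (α := Subgroup.center P)
            omega
          · exact h1
        obtain ⟨z, hz⟩ := exists_prime_orderOf_dvd_card' p hdvd
        intro hbot
        have hzW : (z : P) ∈ W₀ := by
          refine ⟨z.2, ?_⟩
          rw [← Subgroup.coe_pow, ← hz, pow_orderOf_eq_one]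
          rfl
        rw [hbot, Subgroup.mem_bot] at hzW
        have : z = 1 := Subtype.ext hzW
        rw [this, orderOf_one] at hz
        exact (Fact.out : p.Prime).one_lt.ne' hz.symm
      obtain ⟨v, hvW, hv1, hvH⟩ := exists_common_eigen H hc he _ W₀ rfl hW₀
        (fun x hx y hy => Subgroup.mem_center_iff.mp hy.1 x)
        (fun x hx => hx.2)
        (by
          intro a ha x hx
          refine ⟨?_, by rw [← map_pow, hx.2, map_one]⟩
          rw [Subgroup.mem_center_iff]
          intro g
          have h1 := Subgroup.mem_center_iff.mp hx.1 (a⁻¹ g)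
          have h2 := congrArg a h1
          rw [map_mul, map_mul, MulAut.apply_inv_self] at h2
          exact h2)
      have hNc : Subgroup.zpowers v ≤ Subgroup.center P := by
        rw [Subgroup.zpowers_le]
        exact hvW.1
      have hNn : (Subgroup.zpowers v).Normal := by
        constructor
        intro n hn g
        have := Subgroup.mem_center_iff.mp (hNc hn) g
        rw [this, mul_inv_cancel_right]
        exact hn
      have hNH : ∀ a ∈ H, ∀ x ∈ Subgroup.zpowers v, a x ∈ Subgroup.zpowers v := by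
        intro a ha x hx
        obtain ⟨k, rfl⟩ := Subgroup.mem_zpowers_iff.mp hx
        rw [map_zpow]
        exact Subgroup.zpow_mem _ (hvH a ha) k
      have hcardQ : Nat.card (P ⧸ Subgroup.zpowers v) < n := by
        have h1 := Subgroup.card_eq_card_quotient_mul_card_subgroup (Subgroup.zpowers v)
        have h2 : 1 < Nat.card (Subgroup.zpowers v) := by
          have : Nontrivial (Subgroup.zpowers v) :=
            ⟨⟨⟨v, Subgroup.mem_zpowers v⟩, 1, fun h => hv1 (congrArg Subtype.val h)⟩⟩
          exact Finite.one_lt_card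
        have h3 : 0 < Nat.card (P ⧸ Subgroup.zpowers v) := Nat.card_pos
        rw [← hn, h1]
        nlinarith
      let H' : Subgroup (MulAut (P ⧸ Subgroup.zpowers v)) :=
        { carrier := {θ | ∃ h ∈ H, ∀ x : P, θ (QuotientGroup.mk x) = QuotientGroup.mk (h x)}
          mul_mem' := by
            rintro θ₁ θ₂ ⟨h₁, hh₁, e₁⟩ ⟨h₂, hh₂, e₂⟩
            exact ⟨h₁ * h₂, H.mul_mem hh₁ hh₂, fun x => by
              rw [MulAut.mul_apply, e₂, e₁, MulAut.mul_apply]⟩
          one_mem' := ⟨1, H.one_mem, fun x => rfl⟩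
          inv_mem' := by
            rintro θ ⟨h, hh, e⟩
            refine ⟨h⁻¹, H.inv_mem hh, fun x => ?_⟩
            apply θ.injective
            rw [MulAut.apply_inv_self, e, MulAut.apply_inv_self] }
      obtain ⟨m', d', hd0, hdtop, hdinv, hdstep⟩ := ih _ hcardQ (P ⧸ Subgroup.zpowers v) rfl
        (hP.to_quotient _) H'
        (by
          rintro θ₁ ⟨h₁, hh₁, e₁⟩ θ₂ ⟨h₂, hh₂, e₂⟩
          apply MulEquiv.ext
          intro q
          obtain ⟨x, rfl⟩ := QuotientGroup.mk_surjective q
          rw [MulAut.mul_apply, MulAut.mul_apply, e₂, e₁, e₁, e₂, ← MulAut.mul_apply, ← MulAut.mul_apply,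
            hc h₁ hh₁ h₂ hh₂])
        (by
          rintro θ ⟨h, hh, e⟩
          have hk : ∀ (k : ℕ) (x : P), (θ ^ k) (QuotientGroup.mk x) = QuotientGroup.mk ((h ^ k) x) := by
            intro k
            induction k with
            | zero => intro x; rfl
            | succ k ihk =>
              intro x
              rw [pow_succ', MulAut.mul_apply, ihk, e, pow_succ', MulAut.mul_apply]
          apply MulEquiv.ext
          intro q
          obtain ⟨x, rfl⟩ := QuotientGroup.mk_surjective q
          rw [hk, he h hh]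
          rfl)
      have hind : ∀ a ∈ H, ∃ θ ∈ H', ∀ x : P, θ (QuotientGroup.mk x) = QuotientGroup.mk (a x) := by
        intro a ha
        have hmap : (Subgroup.zpowers v).map (a : P ≃* P).toMonoidHom = Subgroup.zpowers v := by
          apply le_antisymm
          · rintro _ ⟨x, hx, rfl⟩
            exact hNH a ha x hx
          · intro x hx
            exact ⟨a⁻¹ x, hNH a⁻¹ (H.inv_mem ha) x hx, MulAut.apply_inv_self _ a x⟩
        refine ⟨QuotientGroup.congr _ _ a hmap, ⟨a, ha, fun x => ?_⟩, fun x => ?_⟩
        · rfl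
        · rfl
      refine ⟨m' + 1, Fin.cons ⊥ (fun i => (d' i).comap (QuotientGroup.mk' (Subgroup.zpowers v))),
        ?_, ?_, ?_, ?_⟩
      · rfl
      · rw [← Fin.succ_last, Fin.cons_succ, hdtop, Subgroup.comap_top]
      · intro i
        refine Fin.cases ?_ (fun j => ?_) i
        · rw [Fin.cons_zero]
          refine ⟨inferInstance, fun a _ x hx => ?_⟩
          rw [Subgroup.mem_bot] at hx ⊢
          rw [hx, map_one]
        · rw [Fin.cons_succ]
          refine ⟨(hdinv j).1.comap _, fun a ha x hx => ?_⟩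
          obtain ⟨θ, hθ, hθx⟩ := hind a ha
          rw [Subgroup.mem_comap] at hx ⊢
          have := (hdinv j).2 θ hθ _ hx
          rw [QuotientGroup.mk'_apply, hθx] at this
          exact this
      · intro i
        refine Fin.cases ?_ (fun j => ?_) i
        · rw [Fin.castSucc_zero, Fin.cons_zero, Fin.cons_succ, hd0]
          refine ⟨bot_le, v, ?_⟩
          rw [bot_sup_eq, MonoidHom.comap_bot, QuotientGroup.ker_mk']
        · rw [← Fin.succ_castSucc, Fin.cons_succ, Fin.cons_succ]
          obtain ⟨hle, xb, hxb⟩ := hdstep j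
          obtain ⟨x, rfl⟩ := QuotientGroup.mk_surjective xb
          refine ⟨Subgroup.comap_mono hle, x, ?_⟩
          rw [hxb]
          apply le_antisymm
          · intro y hy
            rw [Subgroup.mem_comap] at hy
            have hnorm := (hdinv j.castSucc).1
            rw [← SetLike.mem_coe, Subgroup.normal_mul, Set.mem_mul] at hy
            obtain ⟨n', hn', z, hz, hnz⟩ := hy
            obtain ⟨k, rfl⟩ := Subgroup.mem_zpowers_iff.mp hz
            have h1 : y * (x ^ k)⁻¹ ∈ (d' j.castSucc).comap (QuotientGroup.mk' (Subgroup.zpowers v)) := by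
              rw [Subgroup.mem_comap, map_mul, map_inv, map_zpow, ← hnz]
              rw [QuotientGroup.mk'_apply, mul_inv_cancel_right]
              exact hn'
            have e : y = (y * (x ^ k)⁻¹) * x ^ k := by group
            rw [e]
            exact Subgroup.mul_mem_sup h1 (Subgroup.zpow_mem _ (Subgroup.mem_zpowers x) k)
          · apply sup_le (Subgroup.comap_mono le_sup_left)
            rw [Subgroup.zpowers_le, Subgroup.mem_comap]
            exact Subgroup.mem_sup_right (Subgroup.mem_zpowers _)

end Cfsg.Agent.Helper88
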