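import Cfsg.Agent.S5118
import Cfsg.Agent.Helper88.Fusion
import Cfsg.Agent.Helper85.Realized
import Cfsg.Agent.Helper85.GroupAux
import Cfsg.Agent.Helper85.Frattini
import Cfsg.Agent.Helper85.Sat

set_option autoImplicit false

namespace Cfsg.Agent.Helper88

open Cfsg Cfsg.FusionSystem

section RealNormal

variable {Ω : Type*} [Group Ω] {S : Subgroup Ω} {G : Type*} [Group G]

/-- extension by `1` of a homomorphism from `S` to all of the ambient group -/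
noncomputable def iext (ι : S →* G) : Ω → G := by
  classical exact fun x => if h : x ∈ S then ι ⟨x, h⟩ else 1

theorem iext_apply (ι : S →* G) {x : Ω} (h : x ∈ S) : iext ι x = ι ⟨x, h⟩ := by
  classical
  show (if h : x ∈ S then ι ⟨x, h⟩ else 1) = _
  rw [dif_pos h]

theorem iext_mul (ι : S →* G) {x y : Ω} (hx : x ∈ S) (hy : y ∈ S) :
    iext ι (x * y) = iext ι x * iext ι y := by
  rw [iext_apply ι hx, iext_apply ι hy, iext_apply ι (S.mul_mem hx hy), ← map_mul]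
  rfl

theorem iext_inv (ι : S →* G) {x : Ω} (hx : x ∈ S) : iext ι x⁻¹ = (iext ι x)⁻¹ := by
  rw [iext_apply ι hx, iext_apply ι (S.inv_mem hx), ← map_inv]
  rfl

theorem iext_inj {ι : S →* G} (hι : Function.Injective ι) {x y : Ω} (hx : x ∈ S) (hy : y ∈ S)
    (h : iext ι x = iext ι y) : x = y := by
  rw [iext_apply ι hx, iext_apply ι hy] at h
  exact congrArg Subtype.val (hι h)

theorem iext_mem_range (ι : S →* G) {x : Ω} (hx : x ∈ S) : iext ι x ∈ ι.range := by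
  rw [iext_apply ι hx]
  exact ⟨_, rfl⟩

theorem exists_iext_eq (ι : S →* G) {y : G} (hy : y ∈ ι.range) : ∃ x ∈ S, iext ι x = y := by
  obtain ⟨s, rfl⟩ := hy
  exact ⟨s, s.2, iext_apply ι s.2⟩

/-- realization in terms of `iext` -/
theorem realized_iff {F : FusionSystem S} {ι : S →* G} (hι : F.IsRealizedBy ι) {P : Subgroup Ω}
    (hP : P ≤ S) (φ : P →* Ω) (hφ : ∀ x : P, φ x ∈ S) :
    φ ∈ F.Hom P ↔ ∃ g : G, ∀ x : P, iext ι (φ x) = g * iext ι x * g⁻¹ := by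
  rw [hι.2 P hP φ hφ]
  constructor
  · rintro ⟨g, hg⟩
    refine ⟨g, fun x => ?_⟩
    rw [iext_apply ι (hφ x), iext_apply ι (hP x.2)]
    exact hg x
  · rintro ⟨g, hg⟩
    refine ⟨g, fun x => ?_⟩
    have := hg x
    rw [iext_apply ι (hφ x), iext_apply ι (hP x.2)] at this
    exact this

/-- a conjugation of the realizing group that keeps the image of `P` inside the image of `S` comes from a
homomorphism on `P` -/
theorem exists_hom_of_conj {ι : S →* G} (hι : Function.Injective ι) {P : Subgroup Ω} (hP : P ≤ S) (g : G)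
    (hg : ∀ x ∈ P, g * iext ι x * g⁻¹ ∈ ι.range) :
    ∃ φ : P →* Ω, (∀ x : P, φ x ∈ S) ∧ ∀ x : P, iext ι (φ x) = g * iext ι x * g⁻¹ := by
  have hmem : ∀ x : P, ((MulAut.conj g).toMonoidHom.comp (ι.comp (Subgroup.inclusion hP))) x ∈ ι.range := by
    intro x
    have := hg x x.2
    rw [iext_apply ι (hP x.2)] at this
    exact this
  refine ⟨S.subtype.comp ((MonoidHom.ofInjective hι).symm.toMonoidHom.comp
    (((MulAut.conj g).toMonoidHom.comp (ι.comp (Subgroup.inclusion hP))).codRestrict ι.range hmem)),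
    fun x => Subtype.coe_prop _, fun x => ?_⟩
  rw [iext_apply ι (hP x.2)]
  set y : ι.range := (((MulAut.conj g).toMonoidHom.comp (ι.comp (Subgroup.inclusion hP))).codRestrict ι.range hmem) x
    with hy
  have h1 : iext ι (((MonoidHom.ofInjective hι).symm y : S) : Ω) = ι ((MonoidHom.ofInjective hι).symm y) :=
    iext_apply ι ((MonoidHom.ofInjective hι).symm y).2
  have h2 : ι ((MonoidHom.ofInjective hι).symm y) = y := MonoidHom.apply_ofInjective_symm hι y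
  show iext ι (((MonoidHom.ofInjective hι).symm y : S) : Ω) = _
  rw [h1, h2]
  rfl

/-- the preimage in `S` of a subgroup of the realizing group -/
def pre (ι : S →* G) (N : Subgroup G) : Subgroup Ω := (N.comap ι).map S.subtype

theorem mem_pre {ι : S →* G} {N : Subgroup G} {x : Ω} : x ∈ pre ι N ↔ x ∈ S ∧ iext ι x ∈ N := by
  constructor
  · rintro ⟨s, hs, rfl⟩
    refine ⟨s.2, ?_⟩
    show iext ι (s : Ω) ∈ N
    rw [iext_apply ι s.2]
    exact hs
  · rintro ⟨hx, h⟩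
    rw [iext_apply ι hx] at h
    exact ⟨⟨x, hx⟩, h, rfl⟩

theorem pre_le (ι : S →* G) (N : Subgroup G) : pre ι N ≤ S := fun _ hx => (mem_pre.1 hx).1

/-- the fusion system induced by a subgroup `N` of the realizing group on the preimage of `N` -/
def nsub {ι : S →* G} (hι : Function.Injective ι) (N : Subgroup G) : FusionSystem (pre ι N) where
  Hom Q := {φ | Q ≤ pre ι N ∧ (∀ x : Q, φ x ∈ pre ι N) ∧
    ∃ n ∈ N, ∀ x : Q, iext ι (φ x) = n * iext ι x * n⁻¹}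
  le_of_mem h := ⟨h.1, h.2.1⟩
  injective_of_mem := by
    rintro P φ ⟨hP, hφ, n, -, hn⟩ a b hab
    have h : n * iext ι a * n⁻¹ = n * iext ι b * n⁻¹ := by rw [← hn a, ← hn b, hab]
    exact Subtype.ext (iext_inj hι (pre_le ι N (hP a.2)) (pre_le ι N (hP b.2))
      (mul_left_cancel (mul_right_cancel h)))
  conj_mem := by
    intro P g hP hg
    have hgS := (mem_pre.1 hg).1
    refine ⟨hP, fun x => ?_, iext ι g, (mem_pre.1 hg).2, fun x => ?_⟩
    · show g * (x : Ω) * g⁻¹ ∈ pre ι N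
      exact Subgroup.mul_mem _ (Subgroup.mul_mem _ hg (hP x.2)) (Subgroup.inv_mem _ hg)
    · show iext ι (g * (x : Ω) * g⁻¹) = _
      have hxS := pre_le ι N (hP x.2)
      rw [iext_mul ι (S.mul_mem hgS hxS) (S.inv_mem hgS), iext_mul ι hgS hxS, iext_inv ι hgS]
  comp_mem := by
    rintro P Q φ ψ ⟨hP, hφT, g, hgN, hg⟩ ⟨hQ, hψT, k, hkN, hk⟩ h
    refine ⟨hP, fun x => hψT _, k * g, N.mul_mem hkN hgN, fun x => ?_⟩
    show iext ι (ψ (φ.codRestrict Q h x)) = k * g * iext ι x * (k * g)⁻¹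
    rw [hk]
    show k * iext ι (φ x) * k⁻¹ = _
    rw [hg, mul_inv_rev]
    simp only [mul_assoc]
  inv_mem := by
    rintro P φ ⟨hP, hφT, g, hgN, hg⟩
    have hr : φ.range ≤ pre ι N := by
      rintro _ ⟨x, rfl⟩
      exact hφT x
    have hrS : φ.range ≤ S := hr.trans (pre_le ι N)
    obtain ⟨ψ, hψS, hψ⟩ := exists_hom_of_conj hι hrS g⁻¹ (by
      rintro _ ⟨x, rfl⟩
      rw [hg, inv_inv]
      have : g⁻¹ * (g * iext ι x * g⁻¹) * g = iext ι x := by group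
      rw [this]
      exact iext_mem_range ι (pre_le ι N (hP x.2)))
    have hψx : ∀ x : P, ψ ⟨φ x, ⟨x, rfl⟩⟩ = (x : Ω) := by
      intro x
      apply iext_inj hι (hψS _) (pre_le ι N (hP x.2))
      rw [hψ]
      show g⁻¹ * iext ι (φ x) * g⁻¹⁻¹ = _
      rw [hg]
      group
    refine ⟨ψ, ⟨hr, ?_, g⁻¹, N.inv_mem hgN, hψ⟩, hψx⟩
    rintro ⟨_, x, rfl⟩
    rw [hψx]
    exact hP x.2

theorem mem_nsub {ι : S →* G} (hι : Function.Injective ι) (N : Subgroup G) {Q : Subgroup Ω} {φ : Q →* Ω} :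
    φ ∈ (nsub hι N).Hom Q ↔ Q ≤ pre ι N ∧ (∀ x : Q, φ x ∈ pre ι N) ∧
      ∃ n ∈ N, ∀ x : Q, iext ι (φ x) = n * iext ι x * n⁻¹ := Iff.rfl


/-- the system induced by a normal subgroup is saturated -/
theorem nsub_saturated [Finite S] [Finite G] (p : ℕ) [Fact p.Prime] {ι : S →* G} (hι : Function.Injective ι)
    (P₀ : Sylow p G) (hP₀ : (P₀ : Subgroup G) = ι.range) (N : Subgroup G) [N.Normal] :
    (nsub hι N).IsSaturated p := by
  have hTS : pre ι N ≤ S := pre_le ι N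
  have hfin : Finite ↥(pre ι N) := finite_of_le hTS
  have hmemN : ∀ x : ↥(pre ι N), (ι.comp (Subgroup.inclusion hTS)) x ∈ N := by
    intro x
    have := (mem_pre.1 x.2).2
    rw [iext_apply ι (hTS x.2)] at this
    exact this
  obtain ⟨R, hR⟩ := Helper85.sylow_inf_normal P₀ N
  refine Helper85.saturated_of_realized (nsub hι N)
    ((ι.comp (Subgroup.inclusion hTS)).codRestrict N hmemN) ⟨?_, fun P hP φ hφ => ?_⟩ R ?_
  · intro a b hab
    have h1 : ι (Subgroup.inclusion hTS a) = ι (Subgroup.inclusion hTS b) := congrArg Subtype.val hab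
    exact Subgroup.inclusion_injective hTS (hι h1)
  · constructor
    · rintro ⟨-, -, n, hn, h⟩
      refine ⟨⟨n, hn⟩, fun x => Subtype.ext ?_⟩
      have := h x
      rw [iext_apply ι (hTS (hφ x)), iext_apply ι (hTS (hP x.2))] at this
      exact this
    · rintro ⟨g, hg⟩
      refine ⟨hP, hφ, g.1, g.2, fun x => ?_⟩
      rw [iext_apply ι (hTS (hφ x)), iext_apply ι (hTS (hP x.2))]
      exact congrArg Subtype.val (hg x)
  · rw [hR]
    ext y
    constructor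
    · intro hy
      have hy' : (y : G) ∈ (P₀ : Subgroup G) ⊓ N := hy
      have h1 : (y : G) ∈ ι.range := by rw [← hP₀]; exact hy'.1
      obtain ⟨s, hs⟩ := h1
      have hsT : (s : Ω) ∈ pre ι N := by
        refine mem_pre.2 ⟨s.2, ?_⟩
        rw [iext_apply ι s.2]
        show ι s ∈ N
        rw [hs]
        exact y.2
      exact ⟨⟨s, hsT⟩, Subtype.ext hs⟩
    · rintro ⟨x, rfl⟩
      show ι (Subgroup.inclusion hTS x) ∈ (P₀ : Subgroup G) ⊓ N
      refine ⟨?_, hmemN x⟩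
      rw [hP₀]
      exact ⟨_, rfl⟩

/-- the group-theoretic content of the extension condition, extracted from the normality of the fusion
system of a normal subgroup -/
theorem normal_ext_elt [Finite G] (p : ℕ) [Fact p.Prime] (P : Sylow p G) (N : Subgroup G) [N.Normal]
    (n : G) (hn : n ∈ N) (hnT : ∀ t ∈ (P : Subgroup G) ⊓ N, n * t * n⁻¹ ∈ (P : Subgroup G) ⊓ N) :
    ∃ g : G, (∀ y ∈ ((P : Subgroup G) ⊓ N) ⊔ centralizerIn (P : Subgroup G) ((P : Subgroup G) ⊓ N),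
        g * y * g⁻¹ ∈ ((P : Subgroup G) ⊓ N) ⊔ centralizerIn (P : Subgroup G) ((P : Subgroup G) ⊓ N)) ∧
      (∀ t ∈ (P : Subgroup G) ⊓ N, g * t * g⁻¹ = n * t * n⁻¹) ∧
      ∀ c ∈ centralizerIn (P : Subgroup G) ((P : Subgroup G) ⊓ N),
        c⁻¹ * (g * c * g⁻¹) ∈ ((P : Subgroup G) ⊓ N) ⊓
          Subgroup.centralizer ((((P : Subgroup G) ⊓ N : Subgroup G)) : Set G) := by
  have hnN : n ∈ Subgroup.normalizer ((((P : Subgroup G) ⊓ N : Subgroup G)) : Set G) :=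
    Helper85.mem_normalizer_of_conj_mem hnT
  have hnorm := Cfsg.Agent.S5118.result p P N
  have hα : ((P : Subgroup G) ⊓ N).normalizerMonoidHom ⟨n, hnN⟩ ∈
      (fusionSystemOfSubgroup N ((P : Subgroup G) ⊓ N) inf_le_right).autGroup ((P : Subgroup G) ⊓ N) := by
    apply Subgroup.subset_closure
    exact ⟨le_rfl, fun x => Subtype.coe_prop _, n, hn, fun x => rfl⟩
  obtain ⟨β, hβ, hβ1, hβ2⟩ := hnorm.2 _ hα
  have hle : ((P : Subgroup G) ⊓ N) ⊔ centralizerIn (P : Subgroup G) ((P : Subgroup G) ⊓ N) ≤ (P : Subgroup G) :=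
    sup_le inf_le_left inf_le_left
  obtain ⟨φ, ⟨-, -, g, hg⟩, hφ⟩ := (mem_autGroup_iff _ hle β).1 hβ
  have hβg : ∀ y : ↥(((P : Subgroup G) ⊓ N) ⊔ centralizerIn (P : Subgroup G) ((P : Subgroup G) ⊓ N)),
      ((β y : ↥(((P : Subgroup G) ⊓ N) ⊔ centralizerIn (P : Subgroup G) ((P : Subgroup G) ⊓ N))) : G)
        = g * (y : G) * g⁻¹ := by
    intro y
    rw [← hg y, hφ y, autFun_apply]
  refine ⟨g, fun y hy => ?_, fun t ht => ?_, fun c hc => ?_⟩
  · rw [← hβg ⟨y, hy⟩]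
    exact Subtype.coe_prop _
  · have h1 := hβ1 ⟨t, ht⟩
    have h2 := hβg (Subgroup.inclusion le_sup_left ⟨t, ht⟩)
    rw [h1] at h2
    exact h2.symm
  · have h1 := hβ2 ⟨c, Subgroup.mem_sup_right hc⟩ hc
    rw [hβg] at h1
    exact h1

/-- The fusion system induced by a normal subgroup of a realizing group is a normal subsystem. -/
theorem nsub_isNormalIn [Finite S] [Finite G] (p : ℕ) [Fact p.Prime] (F : FusionSystem S)
    (hF : F.IsSaturated p) {ι : S →* G} (hι : F.IsRealizedBy ι)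
    (P₀ : Sylow p G) (hP₀ : (P₀ : Subgroup G) = ι.range) (N : Subgroup G) [hN : N.Normal] :
    (nsub hι.1 N).IsNormalIn F p := by
  have hTS : pre ι N ≤ S := pre_le ι N
  have hfin : Finite ↥(pre ι N) := finite_of_le hTS
  -- the image of `T` is `P₀ ∩ N`
  have hTG : ∀ x ∈ pre ι N, iext ι x ∈ (P₀ : Subgroup G) ⊓ N := by
    intro x hx
    refine ⟨?_, (mem_pre.1 hx).2⟩
    rw [hP₀]
    exact iext_mem_range ι (hTS hx)
  have hTG' : ∀ t ∈ (P₀ : Subgroup G) ⊓ N, ∃ x ∈ pre ι N, iext ι x = t := by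
    intro t ht
    have h1 : t ∈ ι.range := by rw [← hP₀]; exact ht.1
    obtain ⟨x, hx, rfl⟩ := exists_iext_eq ι h1
    exact ⟨x, mem_pre.2 ⟨hx, ht.2⟩, rfl⟩
  have hsc : F.StronglyClosed (pre ι N) := by
    refine ⟨hTS, fun R hR φ hφ x => ?_⟩
    have hφS : ∀ x : R, φ x ∈ S := (F.le_of_mem hφ).2
    obtain ⟨g, hg⟩ := (realized_iff hι (hR.trans hTS) φ hφS).1 hφ
    refine mem_pre.2 ⟨hφS x, ?_⟩
    rw [hg]
    exact hN.conj_mem _ (mem_pre.1 (hR x.2)).2 g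
  refine ⟨⟨nsub_saturated p hι.1 P₀ hP₀ N, hF, ?_, hsc, ?_, ?_⟩, ?_⟩
  · -- subsystem
    rintro P φ ⟨hP, hφT, n, -, hn⟩
    exact (realized_iff hι (hP.trans hTS) φ (fun x => hTS (hφT x))).2 ⟨n, hn⟩
  · -- invariance
    intro P hPT φ hφ α hα
    obtain ⟨-, hφT, n, hn, hnφ⟩ := hφ
    obtain ⟨ψ, hψ, hψα⟩ := (mem_autGroup_iff F hTS α).1 hα
    obtain ⟨a, ha⟩ := (realized_iff hι hTS ψ (F.le_of_mem hψ).2).1 hψ
    have ha' : ∀ t : ↥(pre ι N), iext ι ((α t : ↥(pre ι N)) : Ω) = a * iext ι t * a⁻¹ := by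
      intro t
      rw [← ha t, hψα t, autFun_apply]
    have hP₁ : (P.subgroupOf (pre ι N)).map ((pre ι N).subtype.comp α.toMonoidHom) ≤ pre ι N := by
      rintro _ ⟨t, -, rfl⟩
      exact (α t).2
    have hkey : ∀ (t : ↥(pre ι N)) (ht : (t : Ω) ∈ P),
        (a * n * a⁻¹) * iext ι ((α t : ↥(pre ι N)) : Ω) * (a * n * a⁻¹)⁻¹
          = iext ι ((α ⟨φ ⟨t, ht⟩, hφT _⟩ : ↥(pre ι N)) : Ω) := by
      intro t ht
      rw [ha' t, ha' ⟨φ ⟨t, ht⟩, hφT _⟩]
      show _ = a * iext ι (φ ⟨t, ht⟩) * a⁻¹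
      rw [hnφ ⟨t, ht⟩]
      show a * n * a⁻¹ * (a * iext ι (t : Ω) * a⁻¹) * (a * n * a⁻¹)⁻¹ = a * (n * iext ι (t : Ω) * n⁻¹) * a⁻¹
      group
    obtain ⟨χ, hχS, hχ⟩ := exists_hom_of_conj hι.1 (hP₁.trans hTS) (a * n * a⁻¹) (by
      rintro _ ⟨t, ht, rfl⟩
      have ht' : (t : Ω) ∈ P := ht
      show a * n * a⁻¹ * iext ι ((α t : ↥(pre ι N)) : Ω) * (a * n * a⁻¹)⁻¹ ∈ ι.range
      rw [hkey t ht']
      exact iext_mem_range ι (hTS (Subtype.coe_prop _)))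
    have hχval : ∀ (t : ↥(pre ι N)) (ht : (t : Ω) ∈ P)
        (hy : ((α t : ↥(pre ι N)) : Ω) ∈ (P.subgroupOf (pre ι N)).map ((pre ι N).subtype.comp α.toMonoidHom)),
        χ ⟨((α t : ↥(pre ι N)) : Ω), hy⟩ = ((α ⟨φ ⟨t, ht⟩, hφT _⟩ : ↥(pre ι N)) : Ω) := by
      intro t ht hy
      apply iext_inj hι.1 (hχS _) (hTS (Subtype.coe_prop _))
      rw [hχ, ← hkey t ht]
    refine ⟨χ, ⟨hP₁, ?_, a * n * a⁻¹, hN.conj_mem _ hn a, hχ⟩, fun x hφx hαx => ?_⟩
    · rintro ⟨_, t, ht, rfl⟩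
      have ht' : (t : Ω) ∈ P := ht
      have := hχval t ht' ⟨t, ht, rfl⟩
      rw [show (⟨((pre ι N).subtype.comp α.toMonoidHom) t, ⟨t, ht, rfl⟩⟩ :
        ↥((P.subgroupOf (pre ι N)).map ((pre ι N).subtype.comp α.toMonoidHom)))
          = ⟨((α t : ↥(pre ι N)) : Ω), ⟨t, ht, rfl⟩⟩ from rfl, this]
      exact Subtype.coe_prop _
    · exact hχval ⟨x, hPT x.2⟩ x.2 hαx
  · -- Frattini
    intro P hPT φ hφ
    have hφS : ∀ x : P, φ x ∈ S := (F.le_of_mem hφ).2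
    have hφT : ∀ x : P, φ x ∈ pre ι N := fun x => hsc.2 P hPT φ hφ x
    obtain ⟨g, hg⟩ := (realized_iff hι (hPT.trans hTS) φ hφS).1 hφ
    obtain ⟨κ, hκ, ν, hgκν, hν⟩ := Helper85.frattini_decomp P₀ N g⁻¹
    have hg' : g = ν⁻¹ * κ⁻¹ := by
      rw [← inv_inv g, hgκν]
      group
    have hνN : ν ∈ Subgroup.normalizer ((((P₀ : Subgroup G) ⊓ N : Subgroup G)) : Set G) := by
      apply Helper85.mem_normalizer_of_conj_mem
      intro t ht
      exact ⟨hν t ht.2 ht.1, hN.conj_mem _ ht.2 ν⟩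
    have hνN' : ν⁻¹ ∈ Subgroup.normalizer ((((P₀ : Subgroup G) ⊓ N : Subgroup G)) : Set G) :=
      Subgroup.inv_mem _ hνN
    -- the automorphism of `T` induced by `ν⁻¹`
    obtain ⟨ψ, hψS, hψ⟩ := exists_hom_of_conj hι.1 hTS ν⁻¹ (by
      intro x hx
      have h1 := (Subgroup.mem_normalizer_iff.mp hνN' (iext ι x)).mp (hTG x hx)
      rw [← hP₀]
      exact h1.1)
    have hψT : ∀ x : ↥(pre ι N), ψ x ∈ pre ι N := by
      intro x
      refine mem_pre.2 ⟨hψS x, ?_⟩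
      rw [hψ]
      exact hN.conj_mem _ (mem_pre.1 x.2).2 _
    have hψF : ψ ∈ F.Hom (pre ι N) := (realized_iff hι hTS ψ hψS).2 ⟨ν⁻¹, hψ⟩
    have hψM : IsMap F (pre ι N) (extHom ψ) := isMap_extHom hψF
    have himg : img (pre ι N) (extHom ψ) = pre ι N :=
      hψM.img_eq_of_mapsTo (fun x hx => by rw [extHom_apply ψ ⟨x, hx⟩]; exact hψT _)
    obtain ⟨α, hα, hαψ⟩ := hψM.exists_aut himg
    -- the map of `E`
    obtain ⟨φ₀, hφ₀S, hφ₀⟩ := exists_hom_of_conj hι.1 (hPT.trans hTS) κ⁻¹ (by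
      intro x hx
      have h1 : κ⁻¹ * iext ι x * κ⁻¹⁻¹ = ν * (g * iext ι x * g⁻¹) * ν⁻¹ := by
        rw [hg']
        group
      rw [h1, ← hg ⟨x, hx⟩, ← hP₀]
      have h2 := hTG _ (hφT ⟨x, hx⟩)
      exact hν _ h2.2 h2.1)
    have hφ₀T : ∀ x : P, φ₀ x ∈ pre ι N := by
      intro x
      refine mem_pre.2 ⟨hφ₀S x, ?_⟩
      rw [hφ₀]
      exact hN.conj_mem _ (mem_pre.1 (hPT x.2)).2 _
    refine ⟨α, hα, φ₀, ⟨hPT, hφ₀T, κ⁻¹, N.inv_mem hκ, hφ₀⟩, fun x hx => ?_⟩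
    apply iext_inj hι.1 (hφS x) (hTS (Subtype.coe_prop _))
    rw [← autFun_apply' α hx, hαψ _ hx, extHom_apply ψ ⟨φ₀ x, hx⟩, hψ, hg x]
    show g * iext ι (x : Ω) * g⁻¹ = ν⁻¹ * iext ι (φ₀ x) * ν⁻¹⁻¹
    rw [hφ₀, hg']
    group
  · -- extension condition
    intro α hα
    obtain ⟨ψ, ⟨-, -, n, hn, hnψ⟩, hψα⟩ := (mem_autGroup_iff (nsub hι.1 N) le_rfl α).1 hα
    have hα' : ∀ t : ↥(pre ι N), iext ι ((α t : ↥(pre ι N)) : Ω) = n * iext ι t * n⁻¹ := by
      intro t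
      rw [← hnψ t, hψα t, autFun_apply]
    have hnT : ∀ t ∈ (P₀ : Subgroup G) ⊓ N, n * t * n⁻¹ ∈ (P₀ : Subgroup G) ⊓ N := by
      intro t ht
      obtain ⟨x, hx, rfl⟩ := hTG' t ht
      rw [← hα' ⟨x, hx⟩]
      exact hTG _ (Subtype.coe_prop _)
    obtain ⟨g, hg1, hg2, hg3⟩ := normal_ext_elt p P₀ N n hn hnT
    -- the image of `C_S(T)`
    have hCG : ∀ c ∈ centralizerIn S (pre ι N),
        iext ι c ∈ centralizerIn (P₀ : Subgroup G) ((P₀ : Subgroup G) ⊓ N) := by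
      intro c hc
      rw [mem_centralizerIn_iff] at hc ⊢
      refine ⟨by rw [hP₀]; exact iext_mem_range ι hc.1, fun y hy => ?_⟩
      obtain ⟨x, hx, rfl⟩ := hTG' y hy
      rw [← iext_mul ι (hTS hx) hc.1, ← iext_mul ι hc.1 (hTS hx), hc.2 x hx]
    have hKS : pre ι N ⊔ centralizerIn S (pre ι N) ≤ S := sup_le hTS inf_le_left
    have hKG : ∀ x ∈ pre ι N ⊔ centralizerIn S (pre ι N),
        iext ι x ∈ ((P₀ : Subgroup G) ⊓ N) ⊔ centralizerIn (P₀ : Subgroup G) ((P₀ : Subgroup G) ⊓ N) := by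
      have h1 : pre ι N ⊔ centralizerIn S (pre ι N)
          ≤ pre ι (((P₀ : Subgroup G) ⊓ N) ⊔ centralizerIn (P₀ : Subgroup G) ((P₀ : Subgroup G) ⊓ N)) := by
        refine sup_le (fun x hx => mem_pre.2 ⟨hTS hx, Subgroup.mem_sup_left (hTG x hx)⟩)
          (fun c hc => mem_pre.2 ⟨hc.1, Subgroup.mem_sup_right (hCG c hc)⟩)
      intro x hx
      exact (mem_pre.1 (h1 hx)).2
    have hKG' : ∀ y ∈ S, iext ι y ∈ ((P₀ : Subgroup G) ⊓ N) ⊔
        centralizerIn (P₀ : Subgroup G) ((P₀ : Subgroup G) ⊓ N) → y ∈ pre ι N ⊔ centralizerIn S (pre ι N) := by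
      intro y hy hyK
      obtain ⟨c, hc, t, ht, hct⟩ := Helper85.exists_mul_of_mem_sup
        (R := centralizerIn (P₀ : Subgroup G) ((P₀ : Subgroup G) ⊓ N)) (T := (P₀ : Subgroup G) ⊓ N)
        (fun r hr t ht => by
          have h1 := (mem_centralizerIn_iff.1 hr).2 t ht
          have h2 : r * t * r⁻¹ = t := by rw [← h1]; group
          rw [h2]; exact ht) (by rw [sup_comm]; exact hyK)
      obtain ⟨x, hx, rfl⟩ := hTG' t ht
      have hc1 : c ∈ ι.range := by rw [← hP₀]; exact hc.1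
      obtain ⟨c', hc', rfl⟩ := exists_iext_eq ι hc1
      have hc'C : c' ∈ centralizerIn S (pre ι N) := by
        rw [mem_centralizerIn_iff]
        refine ⟨hc', fun z hz => ?_⟩
        apply iext_inj hι.1 (S.mul_mem (hTS hz) hc') (S.mul_mem hc' (hTS hz))
        rw [iext_mul ι (hTS hz) hc', iext_mul ι hc' (hTS hz)]
        exact (mem_centralizerIn_iff.1 hc).2 _ (hTG z hz)
      have h3 : y = c' * x := by
        apply iext_inj hι.1 hy (S.mul_mem hc' (hTS hx))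
        rw [hct, iext_mul ι hc' (hTS hx)]
      rw [h3]
      exact Subgroup.mul_mem _ (Subgroup.mem_sup_right hc'C) (Subgroup.mem_sup_left hx)
    have hleG : ((P₀ : Subgroup G) ⊓ N) ⊔ centralizerIn (P₀ : Subgroup G) ((P₀ : Subgroup G) ⊓ N)
        ≤ (P₀ : Subgroup G) := sup_le inf_le_left inf_le_left
    obtain ⟨ψ', hψ'S, hψ'⟩ := exists_hom_of_conj hι.1 hKS g (by
      intro x hx
      rw [← hP₀]
      exact hleG (hg1 _ (hKG x hx)))
    have hψ'F : ψ' ∈ F.Hom (pre ι N ⊔ centralizerIn S (pre ι N)) :=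
      (realized_iff hι hKS ψ' hψ'S).2 ⟨g, hψ'⟩
    have hψ'M : IsMap F (pre ι N ⊔ centralizerIn S (pre ι N)) (extHom ψ') := isMap_extHom hψ'F
    have himg : img (pre ι N ⊔ centralizerIn S (pre ι N)) (extHom ψ')
        = pre ι N ⊔ centralizerIn S (pre ι N) :=
      hψ'M.img_eq_of_mapsTo (fun x hx => by
        rw [extHom_apply ψ' ⟨x, hx⟩]
        apply hKG' _ (hψ'S _)
        rw [hψ']
        exact hg1 _ (hKG x hx))
    obtain ⟨β, hβ, hβψ⟩ := hψ'M.exists_aut himg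
    have hβg : ∀ y : ↥(pre ι N ⊔ centralizerIn S (pre ι N)),
        iext ι ((β y : ↥(pre ι N ⊔ centralizerIn S (pre ι N))) : Ω) = g * iext ι y * g⁻¹ := by
      intro y
      rw [← autFun_apply β y, hβψ _ y.2, extHom_apply ψ' y, hψ']
    refine ⟨β, hβ, fun x => ?_, fun c hc => ?_⟩
    · apply iext_inj hι.1 (hKS (Subtype.coe_prop _)) (hTS (Subtype.coe_prop _))
      rw [hβg, hα']
      exact hg2 _ (hTG _ x.2)
    · have hcS : (c : Ω) ∈ S := hc.1
      have hβS : ((β c : ↥(pre ι N ⊔ centralizerIn S (pre ι N))) : Ω) ∈ S := hKS (Subtype.coe_prop _)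
      have hd : iext ι ((c : Ω)⁻¹ * ((β c : ↥(pre ι N ⊔ centralizerIn S (pre ι N))) : Ω))
          = (iext ι c)⁻¹ * (g * iext ι c * g⁻¹) := by
        rw [iext_mul ι (S.inv_mem hcS) hβS, iext_inv ι hcS, hβg]
      have h3 := hg3 _ (hCG _ hc)
      rw [← hd] at h3
      have hdS : (c : Ω)⁻¹ * ((β c : ↥(pre ι N ⊔ centralizerIn S (pre ι N))) : Ω) ∈ S :=
        S.mul_mem (S.inv_mem hcS) hβS
      refine ⟨mem_pre.2 ⟨hdS, h3.1.2⟩, Subgroup.mem_centralizer_iff.mpr ?_⟩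
      intro x hx
      apply iext_inj hι.1 (S.mul_mem (hTS hx) hdS) (S.mul_mem hdS (hTS hx))
      rw [iext_mul ι (hTS hx) hdS, iext_mul ι hdS (hTS hx)]
      exact (Subgroup.mem_centralizer_iff.mp h3.2) _ (hTG x hx)

end RealNormal

end Cfsg.Agent.Helper88
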