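import Mathlib
import Cfsg.Agent.Helper9.OrdTools
import Cfsg.Agent.Helper2.ThompsonTransfer

/-!
Helper88: PIECE PAR of CALL S0434 (helper52): Thompson transfer excludes an involution with no
conjugate in a subgroup of order `8` of a simple group of order `7920`.
-/

set_option autoImplicit false

namespace Cfsg.Agent.Helper88

variable {G : Type*} [Group G] [Finite G]

-- PIECE PAR
theorem o7920_parity [IsSimpleGroup G] (hG : Nat.card G = 7920) (M : Subgroup G)
    (hM : Nat.card ↥M = 8) (x : G) (hx : orderOf x = 2) (hx' : ∀ g : G, g * x * g⁻¹ ∉ M) :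
    False := by
  classical
  have : Fact (Nat.Prime 2) := ⟨Nat.prime_two⟩
  have hM2 : IsPGroup 2 ↥M := IsPGroup.of_card (n := 3) (by rw [hM]; norm_num)
  obtain ⟨T, hMT⟩ := IsPGroup.exists_le_sylow hM2
  have hT : Nat.card (T : Subgroup G) = 2 ^ 4 :=
    Cfsg.Agent.Helper9.OrdTools.sylow_card 4 495 (by rw [hG]; norm_num) (by norm_num) T
  have hidx : (T : Subgroup G).index = 495 := by
    have h := Subgroup.card_mul_index (T : Subgroup G)
    rw [hT, hG] at h
    omega
  have h1 : Nat.card (M.subgroupOf (T : Subgroup G)) = 8 := by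
    rw [Nat.card_congr (Subgroup.subgroupOfEquivOfLe hMT).toEquiv, hM]
  have hrel : M.relIndex (T : Subgroup G) = 2 := by
    have h := Subgroup.card_mul_index (M.subgroupOf (T : Subgroup G))
    rw [h1, hT] at h
    show (M.subgroupOf (T : Subgroup G)).index = 2
    omega
  obtain ⟨K, hKn, hKi, -⟩ := Cfsg.Agent.Helper2.thompson_transfer (T : Subgroup G)
    (by rw [hidx]; norm_num) M hrel x hx hx'
  rcases hKn.eq_bot_or_eq_top with h | h
  · rw [h, Subgroup.index_bot, hG] at hKi
    omega
  · rw [h, Subgroup.index_top] at hKi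
    omega

end Cfsg.Agent.Helper88
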