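import Mathlib
import Cfsg.Agent.Helper9.OrdTools

/-!
Helper88: PIECE J2 of CALL S0434 (helper52): a group of order `4` acting on a Sylow `3`-subgroup
(order `9`) of a group of order `7920` without common fixed points contains an element inverting
it.
-/

set_option autoImplicit false
set_option linter.unusedSectionVars false

namespace Cfsg.Agent.Helper88

variable {G : Type*} [Group G] [Finite G]

/-- fixed/inverted decomposition for an element acting as an involution on an abelian group of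
exponent dividing `9`. -/
theorem t7920_decomp88 (R : Subgroup G) (hab : ∀ a ∈ R, ∀ b ∈ R, a * b = b * a)
    (h9 : ∀ r ∈ R, r ^ 9 = 1) (s : G) (hs : ∀ r ∈ R, s * r * s⁻¹ ∈ R)
    (hs2 : ∀ r ∈ R, s * (s * r * s⁻¹) * s⁻¹ = r) (r : G) (hr : r ∈ R) :
    ∃ u ∈ R, ∃ w ∈ R, r = u * w ∧ s * u * s⁻¹ = u ∧ s * w * s⁻¹ = w⁻¹ := by
  obtain ⟨r', hr'⟩ : ∃ r' : G, r' = s * r * s⁻¹ := ⟨_, rfl⟩
  have hr'R : r' ∈ R := by rw [hr']; exact hs r hr
  have hsr' : s * r' * s⁻¹ = r := by rw [hr']; exact hs2 r hr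
  have hsr : s * r * s⁻¹ = r' := hr'.symm
  have hcr : r * r' = r' * r := hab r hr r' hr'R
  refine ⟨(r * r') ^ 5, R.pow_mem (R.mul_mem hr hr'R) 5, (r * r'⁻¹) ^ 5,
    R.pow_mem (R.mul_mem hr (R.inv_mem hr'R)) 5, ?_, ?_, ?_⟩
  · have hc : Commute (r * r') (r * r'⁻¹) :=
      hab _ (R.mul_mem hr hr'R) _ (R.mul_mem hr (R.inv_mem hr'R))
    rw [← hc.mul_pow]
    have e : r * r' * (r * r'⁻¹) = r ^ 2 := by
      rw [pow_two]
      calc r * r' * (r * r'⁻¹) = r * (r' * r) * r'⁻¹ := by group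
        _ = r * (r * r') * r'⁻¹ := by rw [hcr]
        _ = r * r := by group
    rw [e, ← pow_mul]
    have e2 : r ^ (2 * 5) = r ^ 9 * r := by rw [← pow_succ]
    rw [e2, h9 r hr, one_mul]
  · rw [← conj_pow]
    have e : s * (r * r') * s⁻¹ = r * r' := by
      rw [← conj_mul, hsr, hsr', hcr]
    rw [e]
  · rw [← conj_pow, ← inv_pow]
    have e : s * (r * r'⁻¹) * s⁻¹ = (r * r'⁻¹)⁻¹ := by
      rw [← conj_mul, hsr, ← conj_inv, hsr', mul_inv_rev, inv_inv]
    rw [e]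

/-- an element normalising a subgroup of order `3` centralises or inverts it. -/
theorem t7920_ord3_88 (D : Subgroup G) (hD : Nat.card D = 3) (g : G)
    (hg : ∀ d ∈ D, g * d * g⁻¹ ∈ D) :
    (∀ d ∈ D, g * d * g⁻¹ = d) ∨ (∀ d ∈ D, g * d * g⁻¹ = d⁻¹) := by
  classical
  have hne : D ≠ ⊥ := by
    intro h
    rw [h, Subgroup.card_bot] at hD
    omega
  obtain ⟨⟨d₀, hd₀⟩, hd₀1⟩ := Subgroup.ne_bot_iff_exists_ne_one.mp hne
  have hd₀1' : d₀ ≠ 1 := fun h => hd₀1 (Subtype.ext h)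
  have hord : orderOf d₀ = 3 := by
    have h1 : orderOf (⟨d₀, hd₀⟩ : ↥D) ∣ 3 := by rw [← hD]; exact orderOf_dvd_natCard _
    have h2 : orderOf d₀ ∣ 3 := by
      rw [← Subgroup.orderOf_coe (⟨d₀, hd₀⟩ : ↥D)] at h1; exact h1
    rcases (Nat.dvd_prime Nat.prime_three).mp h2 with h | h
    · exact absurd (orderOf_eq_one_iff.mp h) hd₀1'
    · exact h
  have hzp : Subgroup.zpowers d₀ = D := by
    apply Subgroup.eq_of_le_of_card_ge (Subgroup.zpowers_le.mpr hd₀)
    rw [Nat.card_zpowers, hord, hD]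
  have hpow : ∀ d ∈ D, ∃ k : ℕ, k < 3 ∧ d = d₀ ^ k := by
    intro d hd
    rw [← hzp, ← mem_powers_iff_mem_zpowers] at hd
    obtain ⟨k, rfl⟩ := hd
    refine ⟨k % 3, Nat.mod_lt _ (by norm_num), ?_⟩
    rw [← hord, pow_mod_orderOf]
  have hd3 : d₀ ^ 3 = 1 := by rw [← hord]; exact pow_orderOf_eq_one d₀
  obtain ⟨l, hl, hgl⟩ := hpow _ (hg d₀ hd₀)
  have hl0 : l ≠ 0 := by
    rintro rfl
    rw [pow_zero] at hgl
    apply hd₀1'
    have : d₀ = g⁻¹ * (g * d₀ * g⁻¹) * g := by group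
    rw [this, hgl]; group
  rcases Nat.lt_or_ge l 2 with h2 | h2
  · have hl1 : l = 1 := by omega
    subst hl1
    rw [pow_one] at hgl
    left
    intro d hd
    obtain ⟨k, -, rfl⟩ := hpow d hd
    rw [← conj_pow, hgl]
  · have hl2 : l = 2 := by omega
    subst hl2
    have hinv : g * d₀ * g⁻¹ = d₀⁻¹ := by
      rw [hgl]
      have : d₀ ^ 2 * d₀ = 1 := by rw [← pow_succ]; exact hd3
      exact eq_inv_of_mul_eq_one_left this
    right
    intro d hd
    obtain ⟨k, -, rfl⟩ := hpow d hd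
    rw [← conj_pow, hinv, inv_pow]

/-- the trichotomy for an element of `T` acting as an involution on `R`. -/
theorem t7920_tri88 (R T : Subgroup G) (hR9 : Nat.card R = 9)
    (hab : ∀ a ∈ R, ∀ b ∈ R, a * b = b * a)
    (habT : ∀ a ∈ T, ∀ b ∈ T, a * b = b * a)
    (hnorm : ∀ t ∈ T, ∀ r ∈ R, t * r * t⁻¹ ∈ R)
    (hfix : ∀ y ∈ R, (∀ t ∈ T, t * y = y * t) → y = 1)
    (x : G) (hx : x ∈ T) (hsq : ∀ r ∈ R, x * (x * r * x⁻¹) * x⁻¹ = r) :
    (∃ j ∈ T, ∀ r ∈ R, j * r * j⁻¹ = r⁻¹) ∨ (∀ r ∈ R, x * r * x⁻¹ = r) := by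
  classical
  have h9 : ∀ r ∈ R, r ^ 9 = 1 := by
    intro r hr
    have h1 : (⟨r, hr⟩ : ↥R) ^ Nat.card R = 1 := pow_card_eq_one'
    rw [hR9] at h1
    exact congrArg Subtype.val h1
  have hsq1 : ∀ r ∈ R, r * r = 1 → r = 1 := by
    intro r hr h
    have e : r = (r * r) ^ 5 * (r ^ 9)⁻¹ := by
      rw [← pow_two, ← pow_mul]
      have : r ^ (2 * 5) = r ^ 9 * r := by rw [← pow_succ]
      rw [this, h9 r hr]; group
    rw [e, h, h9 r hr]; group
  have hdec := fun r hr => t7920_decomp88 R hab h9 x (hnorm x hx) hsq r hr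
  by_cases hF : ∀ u ∈ R, x * u * x⁻¹ = u → u = 1
  · left
    refine ⟨x, hx, ?_⟩
    intro r hr
    obtain ⟨u, hu, w, hw, rfl, hxu, hxw⟩ := hdec r hr
    have hu1 := hF u hu hxu
    subst hu1
    rw [one_mul]; exact hxw
  by_cases hN : ∀ w ∈ R, x * w * x⁻¹ = w⁻¹ → w = 1
  · right
    intro r hr
    obtain ⟨u, hu, w, hw, rfl, hxu, hxw⟩ := hdec r hr
    have hw1 := hN w hw hxw
    subst hw1
    rw [mul_one]; exact hxu
  push Not at hF hN
  obtain ⟨a, haR, hxa, ha1⟩ := hF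
  obtain ⟨b, hbR, hxb, hb1⟩ := hN
  left
  -- the subgroups of fixed and of inverted elements
  let F : Subgroup G :=
    { carrier := {u | u ∈ R ∧ x * u * x⁻¹ = u}
      one_mem' := ⟨R.one_mem, by group⟩
      mul_mem' := by
        rintro u v ⟨hu, hxu⟩ ⟨hv, hxv⟩
        refine ⟨R.mul_mem hu hv, ?_⟩
        rw [← conj_mul, hxu, hxv]
      inv_mem' := by
        rintro u ⟨hu, hxu⟩
        refine ⟨R.inv_mem hu, ?_⟩
        rw [← conj_inv, hxu] }
  let N : Subgroup G :=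
    { carrier := {w | w ∈ R ∧ x * w * x⁻¹ = w⁻¹}
      one_mem' := ⟨R.one_mem, by group⟩
      mul_mem' := by
        rintro u v ⟨hu, hxu⟩ ⟨hv, hxv⟩
        refine ⟨R.mul_mem hu hv, ?_⟩
        rw [← conj_mul, hxu, hxv, mul_inv_rev]
        exact hab _ (R.inv_mem hu) _ (R.inv_mem hv)
      inv_mem' := by
        rintro u ⟨hu, hxu⟩
        refine ⟨R.inv_mem hu, ?_⟩
        rw [← conj_inv, hxu] }
  have hFmem : ∀ u, u ∈ F ↔ u ∈ R ∧ x * u * x⁻¹ = u := fun u => Iff.rfl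
  have hNmem : ∀ w, w ∈ N ↔ w ∈ R ∧ x * w * x⁻¹ = w⁻¹ := fun w => Iff.rfl
  have hFR : F ≤ R := fun u hu => hu.1
  have hNR : N ≤ R := fun u hu => hu.1
  have hcard3 : ∀ K : Subgroup G, K ≤ R → K ≠ ⊥ → K ≠ R → Nat.card K = 3 := by
    intro K hK hbot hne
    have hdvd : Nat.card K ∣ 3 ^ 2 := by
      have := Subgroup.card_dvd_of_le hK
      rw [hR9] at this
      exact this
    obtain ⟨m, hm, hcard⟩ := (Nat.dvd_prime_pow Nat.prime_three).mp hdvd
    interval_cases m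
    · exact absurd (Subgroup.eq_bot_of_card_eq K (by rw [hcard]; norm_num)) hbot
    · rw [hcard]; norm_num
    · exact absurd (Subgroup.eq_of_le_of_card_ge hK (by rw [hcard, hR9]; norm_num)) hne
  have hF3 : Nat.card F = 3 := by
    apply hcard3 F hFR
    · intro h
      have : a ∈ F := ⟨haR, hxa⟩
      rw [h] at this
      exact ha1 (Subgroup.mem_bot.mp this)
    · intro h
      have : b ∈ F := by rw [h]; exact hbR
      have h2 : b = b⁻¹ := this.2.symm.trans hxb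
      exact hb1 (hsq1 b hbR (by
        have : b * b = b * b⁻¹ := by rw [← h2]
        rw [this, mul_inv_cancel]))
  have hN3 : Nat.card N = 3 := by
    apply hcard3 N hNR
    · intro h
      have : b ∈ N := ⟨hbR, hxb⟩
      rw [h] at this
      exact hb1 (Subgroup.mem_bot.mp this)
    · intro h
      have : a ∈ N := by rw [h]; exact haR
      have h2 : a = a⁻¹ := hxa.symm.trans this.2
      exact ha1 (hsq1 a haR (by
        have : a * a = a * a⁻¹ := by rw [← h2]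
        rw [this, mul_inv_cancel]))
  -- `T` normalises `F` and `N`
  have hconj : ∀ t ∈ T, ∀ u : G, x * (t * u * t⁻¹) * x⁻¹ = t * (x * u * x⁻¹) * t⁻¹ := by
    intro t ht u
    have hxt : x * t = t * x := habT x hx t ht
    calc x * (t * u * t⁻¹) * x⁻¹ = (x * t) * u * (x * t)⁻¹ := by group
      _ = (t * x) * u * (t * x)⁻¹ := by rw [hxt]
      _ = t * (x * u * x⁻¹) * t⁻¹ := by group
  have hTF : ∀ t ∈ T, ∀ d ∈ F, t * d * t⁻¹ ∈ F := by
    intro t ht d hd
    refine ⟨hnorm t ht d hd.1, ?_⟩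
    rw [hconj t ht, hd.2]
  have hTN : ∀ t ∈ T, ∀ d ∈ N, t * d * t⁻¹ ∈ N := by
    intro t ht d hd
    refine ⟨hnorm t ht d hd.1, ?_⟩
    rw [hconj t ht, hd.2, conj_inv]
  -- an element of `T` moving `a`
  obtain ⟨t, ht, hta⟩ : ∃ t ∈ T, t * a ≠ a * t := by
    by_contra hcon
    push Not at hcon
    exact ha1 (hfix a haR hcon)
  have hFinv : ∀ d ∈ F, t * d * t⁻¹ = d⁻¹ := by
    rcases t7920_ord3_88 F hF3 t (hTF t ht) with h | h
    · exfalso
      apply hta
      have := h a ⟨haR, hxa⟩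
      calc t * a = t * a * t⁻¹ * t := by group
        _ = a * t := by rw [this]
    · exact h
  -- conclusion for an element inverting `F` and `N`
  have hfin : ∀ j : G, (∀ d ∈ F, j * d * j⁻¹ = d⁻¹) → (∀ d ∈ N, j * d * j⁻¹ = d⁻¹) →
      ∀ r ∈ R, j * r * j⁻¹ = r⁻¹ := by
    intro j hjF hjN r hr
    obtain ⟨u, hu, w, hw, rfl, hxu, hxw⟩ := hdec r hr
    rw [← conj_mul, hjF u ⟨hu, hxu⟩, hjN w ⟨hw, hxw⟩, mul_inv_rev]
    exact hab _ (R.inv_mem hu) _ (R.inv_mem hw)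
  rcases t7920_ord3_88 N hN3 t (hTN t ht) with h | h
  · refine ⟨t * x, T.mul_mem ht hx, hfin (t * x) ?_ ?_⟩
    · intro d hd
      have e : t * x * d * (t * x)⁻¹ = t * (x * d * x⁻¹) * t⁻¹ := by group
      rw [e, hd.2, hFinv d hd]
    · intro d hd
      have e : t * x * d * (t * x)⁻¹ = t * (x * d * x⁻¹) * t⁻¹ := by group
      rw [e, hd.2, ← conj_inv, h d hd]
  · exact ⟨t, ht, hfin t hFinv h⟩

-- PIECE J2
theorem o7920_invert_of (hG : Nat.card G = 7920) (R : Sylow 3 G) (T : Subgroup G)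
    (hT : T ≤ Subgroup.normalizer ((R : Subgroup G) : Set G)) (hT4 : Nat.card ↥T = 4)
    (hfix : ∀ y ∈ (R : Subgroup G), (∀ t ∈ T, t * y = y * t) → y = 1) :
    ∃ j ∈ T, ∀ r ∈ (R : Subgroup G), j * r * j⁻¹ = r⁻¹ := by
  classical
  have h3 : Fact (Nat.Prime 3) := ⟨Nat.prime_three⟩
  have h2 : Fact (Nat.Prime 2) := ⟨Nat.prime_two⟩
  have hR9' : Nat.card (R : Subgroup G) = 3 ^ 2 :=
    Cfsg.Agent.Helper9.OrdTools.sylow_card 2 880 (by rw [hG]; norm_num) (by norm_num) R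
  have hR9 : Nat.card (R : Subgroup G) = 9 := by rw [hR9']; norm_num
  have hab : ∀ a ∈ (R : Subgroup G), ∀ b ∈ (R : Subgroup G), a * b = b * a := by
    intro a ha b hb
    have hc := IsPGroup.isMulCommutative_of_card_eq_prime_sq (p := 3) (G := ↥(R : Subgroup G)) hR9'
    have := hc.is_comm.comm (⟨a, ha⟩ : ↥(R : Subgroup G)) ⟨b, hb⟩
    exact congrArg Subtype.val this
  have habT : ∀ a ∈ T, ∀ b ∈ T, a * b = b * a := by
    intro a ha b hb
    have hc := IsPGroup.isMulCommutative_of_card_eq_prime_sq (p := 2) (G := ↥T)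
      (by rw [hT4]; norm_num)
    have := hc.is_comm.comm (⟨a, ha⟩ : ↥T) ⟨b, hb⟩
    exact congrArg Subtype.val this
  have hnorm : ∀ t ∈ T, ∀ r ∈ (R : Subgroup G), t * r * t⁻¹ ∈ (R : Subgroup G) :=
    fun t ht r hr => (Subgroup.mem_normalizer_iff.mp (hT ht) r).mp hr
  -- a nontrivial element of `R` and an element of `T` moving it
  have hRne : (R : Subgroup G) ≠ ⊥ := by
    intro h
    rw [h, Subgroup.card_bot] at hR9
    omega
  obtain ⟨⟨y, hy⟩, hy1⟩ := Subgroup.ne_bot_iff_exists_ne_one.mp hRne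
  have hy1' : y ≠ 1 := fun h => hy1 (Subtype.ext h)
  obtain ⟨t, ht, hty⟩ : ∃ t ∈ T, t * y ≠ y * t := by
    by_contra hcon
    push Not at hcon
    exact hy1' (hfix y hy hcon)
  have ht4 : t ^ 4 = 1 := by
    have h1 : (⟨t, ht⟩ : ↥T) ^ Nat.card T = 1 := pow_card_eq_one'
    rw [hT4] at h1
    exact congrArg Subtype.val h1
  have hqq : (t * t) * (t * t) = 1 := by
    have e : (t * t) * (t * t) = t ^ 4 := by
      simp only [pow_succ, pow_zero, one_mul, mul_assoc]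
    rw [e, ht4]
  -- the trichotomy for `t * t`
  rcases t7920_tri88 (R : Subgroup G) T hR9 hab habT hnorm hfix (t * t) (T.mul_mem ht ht)
      (by
        intro r _
        have e : t * t * (t * t * r * (t * t)⁻¹) * (t * t)⁻¹
            = (t * t * (t * t)) * r * (t * t * (t * t))⁻¹ := by group
        rw [e, hqq]; group) with h | hq
  · exact h
  -- the trichotomy for `t`
  rcases t7920_tri88 (R : Subgroup G) T hR9 hab habT hnorm hfix t ht
      (by
        intro r hr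
        have e : t * (t * r * t⁻¹) * t⁻¹ = t * t * r * (t * t)⁻¹ := by group
        rw [e, hq r hr]) with h | htfix
  · exact h
  · exfalso
    apply hty
    have := htfix y hy
    calc t * y = t * y * t⁻¹ * t := by group
      _ = y * t := by rw [this]

end Cfsg.Agent.Helper88
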