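import Cfsg.Agent.Helper88.SL3Model
import Cfsg.Agent.Helper44.Unitary
import Cfsg.Agent.Helper36.SUCenter

set_option autoImplicit false

namespace Cfsg.Agent.Helper88
namespace SU3

open Matrix SL3

variable {F : Type*} [Field F]

/-- unitarity of a matrix with respect to the field endomorphism `σ`. -/
def IsU (σ : F →+* F) {n : ℕ} (M : Matrix (Fin n) (Fin n) F) : Prop := Mᵀ * M.map σ = 1

theorem hermForm_eq_dot {q n : ℕ} (σ : F →+* F) (hσ : ∀ x, σ x = x ^ q) (u v : Fin n → F) :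
    Cfsg.hermForm n F q u v = u ⬝ᵥ (σ ∘ v) := by
  unfold Cfsg.hermForm dotProduct
  refine Finset.sum_congr rfl fun i _ => ?_
  rw [Function.comp_apply, hσ]

theorem hermForm_mulVec_eq {q n : ℕ} (σ : F →+* F) (hσ : ∀ x, σ x = x ^ q)
    (M : Matrix (Fin n) (Fin n) F) (u v : Fin n → F) :
    Cfsg.hermForm n F q (M *ᵥ u) (M *ᵥ v) = u ⬝ᵥ ((Mᵀ * M.map σ) *ᵥ (σ ∘ v)) := by
  have h1 : Cfsg.hermForm n F q (M *ᵥ u) (M *ᵥ v) = (M *ᵥ u) ⬝ᵥ (M.map σ *ᵥ (σ ∘ v)) := by
    rw [hermForm_eq_dot σ hσ]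
    congr 1
    funext i
    rw [Function.comp_apply, RingHom.map_mulVec]
  rw [h1, ← mulVec_mulVec, dotProduct_mulVec, dotProduct_mulVec, vecMul_transpose,
    ← dotProduct_mulVec]

/-- membership in `SU_n` in matrix terms. -/
theorem mem_SU_iff {q n : ℕ} (σ : F →+* F) (hσ : ∀ x, σ x = x ^ q)
    (g : Matrix.SpecialLinearGroup (Fin n) F) :
    g ∈ Cfsg.SU n F q ↔ IsU σ (g : Matrix (Fin n) (Fin n) F) := by
  have hmem : g ∈ Cfsg.SU n F q ↔ ∀ u v : Fin n → F,
      Cfsg.hermForm n F q ((g : Matrix (Fin n) (Fin n) F) *ᵥ u)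
        ((g : Matrix (Fin n) (Fin n) F) *ᵥ v) = Cfsg.hermForm n F q u v := Iff.rfl
  rw [hmem, IsU]
  constructor
  · intro h
    ext i j
    have h1 := h (Pi.single i 1) (Pi.single j 1)
    rw [hermForm_mulVec_eq σ hσ, hermForm_eq_dot σ hσ] at h1
    have e1 : (σ ∘ (Pi.single j (1 : F) : Fin n → F)) = Pi.single j 1 := by
      funext k
      by_cases hk : k = j
      · subst hk
        simp
      · simp [hk]
    rw [e1] at h1
    simp only [Matrix.mulVec_single_one, single_one_dotProduct, Matrix.col_apply] at h1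
    rw [h1, Matrix.one_apply, Pi.single_apply]
  · intro h u v
    rw [hermForm_mulVec_eq σ hσ, h, Matrix.one_mulVec, hermForm_eq_dot σ hσ]

theorem isU_bd (σ : F →+* F) (A : Matrix (Fin 2) (Fin 2) F) (d : F) :
    IsU σ (bd A d) ↔ IsU σ A ∧ d * σ d = 1 := by
  have e1 : (bd A d)ᵀ = bd Aᵀ d := by
    ext i j
    fin_cases i <;> fin_cases j <;> simp [bd]
  have e2 : (bd A d).map σ = bd (A.map σ) (σ d) := by
    ext i j
    fin_cases i <;> fin_cases j <;> simp [bd]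
  unfold IsU
  rw [e1, e2, bd_mul, ← bd_one]
  constructor
  · intro h
    exact bd_inj h
  · rintro ⟨h1, h2⟩
    rw [h1, h2]

theorem isU_two_iff (σ : F →+* F) (a b c d : F) :
    IsU σ !![a, b; c, d] ↔ a * σ a + c * σ c = 1 ∧ a * σ b + c * σ d = 0 ∧
      b * σ a + d * σ c = 0 ∧ b * σ b + d * σ d = 1 := by
  unfold IsU
  rw [← Matrix.ext_iff]
  simp [Fin.forall_fin_two, Matrix.mul_apply, Fin.sum_univ_two]
  tauto


/-! ### Conjugating a trace-zero unitary `2 × 2` matrix with scalar square to antidiagonal form -/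

theorem u2_conj_aux (σ : F →+* F) (hσσ : ∀ x, σ (σ x) = x) (a b c lam ε m : F)
    (hU : IsU σ !![a, b; c, -a]) (hsq : a * a + b * c = lam)
    (hε : ε * ε = 1) (hσε : σ ε = ε) (hm : m * σ m * (2 + ε * (c + σ c)) = 1) :
    IsU σ !![m * a, m * (b + ε * lam); m * (c + ε), m * (-a)] ∧
    !![a, b; c, -a] * !![m * a, m * (b + ε * lam); m * (c + ε), m * (-a)] =
      !![m * a, m * (b + ε * lam); m * (c + ε), m * (-a)] * !![0, ε * lam; ε, 0] := by
  rw [isU_two_iff] at hU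
  obtain ⟨h1, h2, h3, h4⟩ := hU
  simp only [map_neg] at h2 h4
  have P1 : lam * σ a = a := by
    rw [← hsq]
    linear_combination a * h1 + c * h3
  have P2 : lam * σ b = c := by
    rw [← hsq]
    linear_combination a * h2 + c * h4
  have P3 : lam * σ c = b := by
    rw [← hsq]
    linear_combination b * h1 - a * h3
  have Q1 : σ lam * a = σ a := by
    have := congrArg σ P1
    rw [map_mul, hσσ] at this
    exact this
  have Q2 : σ lam * b = σ c := by
    have := congrArg σ P2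
    rw [map_mul, hσσ] at this
    exact this
  have R : lam * σ lam = 1 := by
    have e : σ lam = σ a * σ a + σ b * σ c := by
      rw [← hsq]
      simp only [map_add, map_mul]
    rw [e]
    linear_combination σ a * P1 + σ c * P2 + h1
  constructor
  · rw [isU_two_iff]
    simp only [map_mul, map_add, map_neg, hσε]
    refine ⟨?_, ?_, ?_, ?_⟩
    · linear_combination (m * σ m) * h1 + (m * σ m) * hε + hm
    · linear_combination (m * σ m) * h2 + (m * σ m * ε) * Q1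
    · linear_combination (m * σ m) * h3 + (m * σ m * ε) * P1
    · linear_combination (m * σ m) * h4 + (m * σ m * ε) * (Q2 + P2) + (m * σ m * ε * ε) * R +
        (m * σ m) * hε + hm
  · rw [Matrix.mul_fin_two, Matrix.mul_fin_two, ← Matrix.ext_iff]
    simp only [Fin.forall_fin_two]
    simp
    refine ⟨⟨?_, ?_⟩, ?_, ?_⟩
    · linear_combination m * hsq - (m * lam) * hε
    · ring
    · ring
    · linear_combination m * hsq - (m * lam) * hε

theorem u2_conj [Fintype F] {q : ℕ} (hF : Fintype.card F = q ^ 2) (h2 : (2 : F) ≠ 0) (σ : F →+* F)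
    (hσ : ∀ x, σ x = x ^ q) (a b c lam : F) (hU : IsU σ !![a, b; c, -a]) (hsq : a * a + b * c = lam) :
    ∃ (h : Matrix (Fin 2) (Fin 2) F) (ε : F), (ε = 1 ∨ ε = -1) ∧ IsU σ h ∧
      !![a, b; c, -a] * h = h * !![0, ε * lam; ε, 0] := by
  have hσσ : ∀ x, σ (σ x) = x := fun x => by rw [hσ, hσ, Helper44.conj_conj hF]
  have key : ∀ ε : F, ε * ε = 1 → σ ε = ε → 2 + ε * (c + σ c) ≠ 0 →
      ∃ (h : Matrix (Fin 2) (Fin 2) F), IsU σ h ∧ !![a, b; c, -a] * h = h * !![0, ε * lam; ε, 0] := by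
    intro ε hε hσε hN
    have hfix : (2 + ε * (c + σ c)) ^ q = 2 + ε * (c + σ c) := by
      rw [← hσ]
      simp only [map_add, map_mul, hσε, hσσ, map_ofNat]
      ring
    obtain ⟨ν, hν⟩ := Helper44.exists_norm hF _ hfix
    rw [← hσ] at hν
    have hν0 : ν ≠ 0 := by
      rintro rfl
      rw [zero_mul] at hν
      exact hN hν.symm
    have hσν0 : σ ν ≠ 0 := by
      intro h
      rw [h, mul_zero] at hν
      exact hN hν.symm
    have hm : ν⁻¹ * σ ν⁻¹ * (2 + ε * (c + σ c)) = 1 := by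
      rw [← hν, map_inv₀]
      field_simp
    obtain ⟨hu, heq⟩ := u2_conj_aux σ hσσ a b c lam ε ν⁻¹ hU hsq hε hσε hm
    exact ⟨_, hu, heq⟩
  by_cases hN : 2 + (1 : F) * (c + σ c) ≠ 0
  · obtain ⟨h, hu, heq⟩ := key 1 (by ring) (map_one σ) hN
    exact ⟨h, 1, Or.inl rfl, hu, heq⟩
  · push Not at hN
    have hN' : 2 + (-1 : F) * (c + σ c) ≠ 0 := by
      intro h
      apply h2
      have : (2 : F) * 2 = 0 := by linear_combination hN + h
      rcases mul_eq_zero.mp this with h | h <;> exact h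
    obtain ⟨h, hu, heq⟩ := key (-1) (by ring) (by rw [map_neg, map_one]) hN'
    exact ⟨h, -1, Or.inr rfl, hu, heq⟩


/-! ### Unitary reflections -/

theorem IsU.mul {σ : F →+* F} {n : ℕ} {A B : Matrix (Fin n) (Fin n) F} (hA : IsU σ A) (hB : IsU σ B) :
    IsU σ (A * B) := by
  unfold IsU at hA hB ⊢
  rw [Matrix.transpose_mul, Matrix.map_mul, Matrix.mul_assoc, ← Matrix.mul_assoc Aᵀ, hA, Matrix.one_mul, hB]

theorem IsU.det {σ : F →+* F} {n : ℕ} {A : Matrix (Fin n) (Fin n) F} (hA : IsU σ A) :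
    A.det * σ A.det = 1 := by
  unfold IsU at hA
  have := congrArg Matrix.det hA
  rw [Matrix.det_mul, Matrix.det_transpose, Matrix.det_one] at this
  rw [RingHom.map_det]
  exact this

theorem sigma_dot (σ : F →+* F) (hσσ : ∀ x, σ (σ x) = x) {n : ℕ} (u v : Fin n → F) :
    σ (u ⬝ᵥ (σ ∘ v)) = v ⬝ᵥ (σ ∘ u) := by
  unfold dotProduct
  rw [map_sum]
  refine Finset.sum_congr rfl fun i _ => ?_
  rw [map_mul, Function.comp_apply, Function.comp_apply, hσσ, mul_comm]

/-- a unitary (quasi-)reflection carrying `a` to `b`. -/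
theorem exists_isU_mulVec (σ : F →+* F) (hσσ : ∀ x, σ (σ x) = x) {n : ℕ} (a b : Fin n → F)
    (hab : a ⬝ᵥ (σ ∘ a) = b ⬝ᵥ (σ ∘ b)) (hα : a ⬝ᵥ (σ ∘ a) - a ⬝ᵥ (σ ∘ b) ≠ 0) :
    ∃ R : Matrix (Fin n) (Fin n) F, IsU σ R ∧ R *ᵥ a = b := by
  set x := a - b with hx
  set α := a ⬝ᵥ (σ ∘ a) - a ⬝ᵥ (σ ∘ b) with hαdef
  have hσx : σ ∘ x = σ ∘ a - σ ∘ b := by
    funext i
    simp [hx]
  have hax : a ⬝ᵥ (σ ∘ x) = α := by
    rw [hσx, dotProduct_sub]
  have hσα : σ α = a ⬝ᵥ (σ ∘ a) - b ⬝ᵥ (σ ∘ a) := by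
    rw [hαdef, map_sub, sigma_dot σ hσσ, sigma_dot σ hσσ]
  have hxx : x ⬝ᵥ (σ ∘ x) = α + σ α := by
    rw [hσα, hσx, hx, sub_dotProduct, dotProduct_sub, dotProduct_sub, hαdef, ← hab]
    ring
  have hσα0 : σ α ≠ 0 := fun h => hα ((map_eq_zero σ).mp h)
  refine ⟨1 - α⁻¹ • vecMulVec x (σ ∘ x), ?_, ?_⟩
  · unfold IsU
    have e1 : (1 - α⁻¹ • vecMulVec x (σ ∘ x))ᵀ = 1 - α⁻¹ • vecMulVec (σ ∘ x) x := by
      rw [Matrix.transpose_sub, Matrix.transpose_one, Matrix.transpose_smul, transpose_vecMulVec]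
    have e2 : (1 - α⁻¹ • vecMulVec x (σ ∘ x)).map σ = 1 - (σ α)⁻¹ • vecMulVec (σ ∘ x) x := by
      ext i j
      by_cases hij : i = j
      · subst hij
        simp [vecMulVec_apply, hσσ, mul_comm]
      · simp [vecMulVec_apply, hσσ, hij]
    rw [e1, e2]
    set V := vecMulVec (σ ∘ x) x with hV
    have hVV : V * V = (α + σ α) • V := by
      rw [hV, vecMulVec_mul_vecMulVec, hxx, vecMulVec_smul]
    have hc : α⁻¹ * (σ α)⁻¹ * (α + σ α) = α⁻¹ + (σ α)⁻¹ := by
      field_simp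
      ring
    calc (1 - α⁻¹ • V) * (1 - (σ α)⁻¹ • V)
        = 1 - (σ α)⁻¹ • V - α⁻¹ • V + (α⁻¹ * (σ α)⁻¹) • (V * V) := by
          rw [Matrix.sub_mul, Matrix.mul_sub, Matrix.mul_sub, Matrix.one_mul, Matrix.one_mul, Matrix.mul_one,
            Matrix.smul_mul, Matrix.mul_smul, smul_smul]
          abel
      _ = 1 - (σ α)⁻¹ • V - α⁻¹ • V + (α⁻¹ + (σ α)⁻¹) • V := by rw [hVV, smul_smul, hc]
      _ = 1 := by
          rw [add_smul]
          abel
  · rw [Matrix.sub_mulVec, Matrix.one_mulVec, Matrix.smul_mulVec, vecMulVec_mulVec, op_smul_eq_smul,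
      dotProduct_comm, hax, smul_smul, inv_mul_cancel₀ hα, one_smul, hx]
    abel


/-! ### Involutions of `SU₃` -/

theorem trace_invol (M : Matrix (Fin 3) (Fin 3) F) (hM : M * M = 1) (hne : M ≠ 1) (hdet : M.det = 1) :
    M.trace = -1 := by
  have h := cayley_three M
  rw [hM, one_mul, hdet] at h
  have key : (1 + e2 M) • M = (M.trace + 1) • (1 : Matrix (Fin 3) (Fin 3) F) := by
    rw [add_smul, add_smul, one_smul, one_smul]
    apply eq_of_sub_eq_zero
    rw [one_smul] at h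
    rw [← h]
    abel
  have he : 1 + e2 M = 0 := by
    by_contra hne'
    apply hne
    set c := (1 + e2 M)⁻¹ * (M.trace + 1) with hc
    have hMc : M = c • (1 : Matrix (Fin 3) (Fin 3) F) := by
      calc M = (1 + e2 M)⁻¹ • ((1 + e2 M) • M) := by rw [smul_smul, inv_mul_cancel₀ hne', one_smul]
        _ = c • (1 : Matrix (Fin 3) (Fin 3) F) := by rw [key, smul_smul]
    have hc2 : c * c = 1 := by
      have := congrFun (congrFun hM 0) 0
      rw [hMc] at this
      simpa [Matrix.mul_apply, Fin.sum_univ_three] using this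
    have hc3 : c ^ 3 = 1 := by
      have := hdet
      rw [hMc, Matrix.det_smul, Matrix.det_one, Fintype.card_fin, mul_one] at this
      exact this
    have hc1 : c = 1 := by linear_combination hc3 - c * hc2
    rw [hMc, hc1, one_smul]
  rw [he, zero_smul] at key
  have := congrFun (congrFun key 0) 0
  simp at this
  linear_combination -this

/-- every involution of `SU₃(q)` (`q` odd) is conjugate in `SU₃(q)` to `t = u²`. -/
theorem exists_conj_t [Fintype F] {q : ℕ} (hF : Fintype.card F = q ^ 2) (h2 : (2 : F) ≠ 0) (σ : F →+* F)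
    (hσ : ∀ x, σ x = x ^ q) (g : Matrix.SpecialLinearGroup (Fin 3) F) (hg : g ∈ Cfsg.SU 3 F q)
    (hgg : g * g = 1) (hg1 : g ≠ 1) :
    ∃ p ∈ Cfsg.SU 3 F q, p⁻¹ * g * p = u3 F * u3 F := by
  have hσσ : ∀ x, σ (σ x) = x := fun x => by rw [hσ, hσ, Helper44.conj_conj hF]
  set M := (g : Matrix (Fin 3) (Fin 3) F) with hMdef
  have hU : IsU σ M := (mem_SU_iff σ hσ g).mp hg
  have hMM : M * M = 1 := by
    rw [hMdef, ← Matrix.SpecialLinearGroup.coe_mul, hgg, Matrix.SpecialLinearGroup.coe_one]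
  have hM1 : M ≠ 1 := by
    intro h
    apply hg1
    rw [sl3_ext_iff, ← hMdef, h, Matrix.SpecialLinearGroup.coe_one]
  have htr : M.trace = -1 := trace_invol M hMM hM1 g.2
  have hMσ : M.map σ = Mᵀ := by
    have h1 : Mᵀ * Mᵀ = 1 := by rw [← Matrix.transpose_mul, hMM, Matrix.transpose_one]
    have hU' : Mᵀ * M.map σ = 1 := hU
    calc M.map σ = (Mᵀ * Mᵀ) * M.map σ := by rw [h1, Matrix.one_mul]
      _ = Mᵀ * (Mᵀ * M.map σ) := by rw [Matrix.mul_assoc]
      _ = Mᵀ := by rw [hU', Matrix.mul_one]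
  obtain ⟨j, hj⟩ : ∃ j, 1 + M j j ≠ 0 := by
    by_contra hcon
    push Not at hcon
    rw [Matrix.trace_fin_three] at htr
    have h0 := hcon 0
    have h1 := hcon 1
    have h2' := hcon 2
    apply h2
    linear_combination h0 + h1 + h2' - htr
  set v : Fin 3 → F := fun i => (1 + M) i j with hv
  have hMv : M *ᵥ v = v := by
    funext i
    have : (M * (1 + M)) i j = (1 + M) i j := by rw [Matrix.mul_add, Matrix.mul_one, hMM, add_comm]
    show (M *ᵥ v) i = (1 + M) i j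
    rw [← this, Matrix.mul_apply]
    rfl
  have hσMjj : σ (M j j) = M j j := by
    have := congrFun (congrFun hMσ j) j
    simpa using this
  have hN : v ⬝ᵥ (σ ∘ v) = 2 * (1 + M j j) := by
    have e1 : (1 + M).map σ = 1 + Mᵀ := by
      rw [← hMσ]
      ext a b
      by_cases hab : a = b
      · subst hab
        simp
      · simp [hab]
    have e2 : v ⬝ᵥ (σ ∘ v) = ((1 + M)ᵀ * (1 + M).map σ : Matrix (Fin 3) (Fin 3) F) j j := by
      rw [Matrix.mul_apply]
      rfl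
    have h1 : Mᵀ * Mᵀ = 1 := by rw [← Matrix.transpose_mul, hMM, Matrix.transpose_one]
    have e3 : (1 + Mᵀ) * (1 + Mᵀ) = (2 : F) • (1 + Mᵀ) := by
      rw [Matrix.add_mul, Matrix.mul_add, Matrix.mul_add, Matrix.one_mul, Matrix.one_mul, Matrix.mul_one, h1,
        two_smul]
      abel
    rw [e2, e1, Matrix.transpose_add, Matrix.transpose_one, e3]
    simp
  set nn := 2 * (1 + M j j) with hnn
  have hnn0 : nn ≠ 0 := mul_ne_zero h2 hj
  have hfix : nn ^ q = nn := by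
    rw [← hσ, hnn, map_mul, map_add, map_one, hσMjj, map_ofNat]
  obtain ⟨ν, hν⟩ := Helper44.exists_norm hF nn hfix
  rw [← hσ] at hν
  have hν0 : ν ≠ 0 := by
    rintro rfl
    rw [zero_mul] at hν
    exact hnn0 hν.symm
  have hσν0 : σ ν ≠ 0 := by
    intro h
    rw [h, mul_zero] at hν
    exact hnn0 hν.symm
  set w : Fin 3 → F := ν⁻¹ • v with hw
  have hww : w ⬝ᵥ (σ ∘ w) = 1 := by
    have : σ ∘ w = (σ ν)⁻¹ • (σ ∘ v) := by
      funext i
      simp [hw, map_inv₀]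
    rw [this, hw, smul_dotProduct, dotProduct_smul, hN, smul_eq_mul, smul_eq_mul, ← hν]
    field_simp
  have hMw : M *ᵥ w = w := by rw [hw, Matrix.mulVec_smul, hMv]
  set e₃ : Fin 3 → F := Pi.single 2 1 with he₃
  have hee : e₃ ⬝ᵥ (σ ∘ e₃) = 1 := by
    simp [he₃, dotProduct, Pi.single_apply]
  obtain ⟨b, hbb, hMb, hα⟩ : ∃ b : Fin 3 → F, b ⬝ᵥ (σ ∘ b) = 1 ∧ M *ᵥ b = b ∧
      e₃ ⬝ᵥ (σ ∘ e₃) - e₃ ⬝ᵥ (σ ∘ b) ≠ 0 := by
    by_cases h : e₃ ⬝ᵥ (σ ∘ e₃) - e₃ ⬝ᵥ (σ ∘ w) ≠ 0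
    · exact ⟨w, hww, hMw, h⟩
    · push Not at h
      have hneg : σ ∘ (-w) = -(σ ∘ w) := by
        funext i
        simp
      refine ⟨-w, ?_, ?_, ?_⟩
      · rw [hneg, neg_dotProduct, dotProduct_neg, neg_neg, hww]
      · rw [Matrix.mulVec_neg, hMw]
      · rw [hneg, dotProduct_neg, hee]
        rw [hee] at h
        intro h'
        apply h2
        linear_combination h + h'
  obtain ⟨R, hRU, hRe⟩ := exists_isU_mulVec σ hσσ e₃ b (by rw [hee, hbb]) hα
  set δ := R.det with hδ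
  have hδδ : δ * σ δ = 1 := hRU.det
  have hδ0 : δ ≠ 0 := by
    rintro h
    rw [h, zero_mul] at hδδ
    exact zero_ne_one hδδ
  have hσδ0 : σ δ ≠ 0 := by
    intro h
    rw [h, mul_zero] at hδδ
    exact zero_ne_one hδδ
  set Dm : Matrix (Fin 3) (Fin 3) F := Matrix.diagonal ![1, 1, δ⁻¹] with hDm
  have hDU : IsU σ Dm := by
    unfold IsU
    rw [hDm, Matrix.diagonal_transpose, Matrix.diagonal_map (map_zero σ), Matrix.diagonal_mul_diagonal,
      ← Matrix.diagonal_one]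
    congr 1
    funext i
    fin_cases i
    · simp
    · simp
    · simp only [Fin.reduceFinMk, Matrix.cons_val_two, Matrix.tail_cons, Matrix.head_cons, map_inv₀]
      field_simp
      linear_combination -hδδ
  have hPU : IsU σ (R * Dm) := hRU.mul hDU
  have hPdet : (R * Dm).det = 1 := by
    rw [Matrix.det_mul, hDm, Matrix.det_diagonal, Fin.prod_univ_three, ← hδ]
    simp [hδ0]
  have hPe : (R * Dm) *ᵥ e₃ = δ⁻¹ • b := by
    have : Dm *ᵥ e₃ = δ⁻¹ • e₃ := by
      rw [hDm, he₃, Matrix.mulVec_single_one]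
      funext i
      fin_cases i <;> simp [Matrix.diagonal]
    rw [← Matrix.mulVec_mulVec, this, Matrix.mulVec_smul, hRe]
  refine ⟨mk3 (R * Dm) hPdet, (mem_SU_iff σ hσ _).mpr hPU, ?_⟩
  set p := mk3 (R * Dm) hPdet with hp
  have hpU : p ∈ Cfsg.SU 3 F q := (mem_SU_iff σ hσ p).mpr hPU
  set m := p⁻¹ * g * p with hm
  have hmU : m ∈ Cfsg.SU 3 F q :=
    Subgroup.mul_mem _ (Subgroup.mul_mem _ (Subgroup.inv_mem _ hpU) hg) hpU
  have hme : (m : Matrix (Fin 3) (Fin 3) F) *ᵥ e₃ = e₃ := by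
    have h1 : (p : Matrix (Fin 3) (Fin 3) F) *ᵥ e₃ = δ⁻¹ • b := hPe
    have h3 : M *ᵥ (δ⁻¹ • b) = δ⁻¹ • b := by rw [Matrix.mulVec_smul, hMb]
    calc (m : Matrix (Fin 3) (Fin 3) F) *ᵥ e₃
        = (p⁻¹ : Matrix.SpecialLinearGroup (Fin 3) F).1 *ᵥ (M *ᵥ ((p : Matrix (Fin 3) (Fin 3) F) *ᵥ e₃)) := by
          rw [hm, Matrix.SpecialLinearGroup.coe_mul, Matrix.SpecialLinearGroup.coe_mul, Matrix.mulVec_mulVec,
            Matrix.mulVec_mulVec]
      _ = (p⁻¹ : Matrix.SpecialLinearGroup (Fin 3) F).1 *ᵥ ((p : Matrix (Fin 3) (Fin 3) F) *ᵥ e₃) := by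
          rw [h1, h3]
      _ = e₃ := by
          rw [Matrix.mulVec_mulVec, ← Matrix.SpecialLinearGroup.coe_mul, inv_mul_cancel,
            Matrix.SpecialLinearGroup.coe_one, Matrix.one_mulVec]
  have hmU' : IsU σ (m : Matrix (Fin 3) (Fin 3) F) := (mem_SU_iff σ hσ m).mp hmU
  have c02 : m.1 0 2 = 0 := by
    have := congrFun hme 0
    simpa [Matrix.mulVec, dotProduct, Fin.sum_univ_three, he₃] using this
  have c12 : m.1 1 2 = 0 := by
    have := congrFun hme 1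
    simpa [Matrix.mulVec, dotProduct, Fin.sum_univ_three, he₃] using this
  have c22 : m.1 2 2 = 1 := by
    have := congrFun hme 2
    simpa [Matrix.mulVec, dotProduct, Fin.sum_univ_three, he₃] using this
  have r20 : m.1 2 0 = 0 := by
    have := congrFun (congrFun hmU' 2) 0
    simpa [Matrix.mul_apply, Fin.sum_univ_three, c02, c12, c22] using this
  have r21 : m.1 2 1 = 0 := by
    have := congrFun (congrFun hmU' 2) 1
    simpa [Matrix.mul_apply, Fin.sum_univ_three, c02, c12, c22] using this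
  have hbd : IsBd (m : Matrix (Fin 3) (Fin 3) F) := ⟨c02, c12, r20, r21⟩
  obtain ⟨A, hA⟩ := exists_emb_eq hbd c22
  have hmm : m * m = 1 := by
    calc m * m = p⁻¹ * (g * g) * p := by
          rw [hm]
          group
      _ = 1 := by
          rw [hgg]
          group
  have hAA : (A : Matrix (Fin 2) (Fin 2) F) * (A : Matrix (Fin 2) (Fin 2) F) = 1 := by
    have h' : A * A = 1 := by
      apply emb_injective
      rw [map_mul, hA, hmm, map_one]
    rw [← Matrix.SpecialLinearGroup.coe_mul, h', Matrix.SpecialLinearGroup.coe_one]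
  rcases sl2_sq_eq_one h2 A hAA with h | h
  · exfalso
    have hA1 : A = 1 := Subtype.ext h
    have hm1 : m = 1 := by rw [← hA, hA1, map_one]
    apply hg1
    calc g = p * m * p⁻¹ := by
          rw [hm]
          group
      _ = 1 := by
          rw [hm1]
          group
  · rw [← hA, sl3_ext_iff, Matrix.SpecialLinearGroup.coe_mul, t3_coe, emb_coe, h]


/-! ### Explicit elements -/

theorem det_s3 : (bd !![1, 0; 0, -1] (-1 : F)).det = 1 := by
  rw [det_bd, Matrix.det_fin_two_of]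
  ring

/-- the involution `diag(1,-1,-1)` inverting `u`. -/
def s3 (F : Type*) [Field F] : Matrix.SpecialLinearGroup (Fin 3) F := mk3 (bd !![1, 0; 0, -1] (-1 : F)) det_s3

theorem s3_mul_self : s3 F * s3 F = 1 := by
  rw [sl3_ext_iff]
  simp only [Matrix.SpecialLinearGroup.coe_mul]
  rw [s3, mk3_coe, bd_mul, Matrix.SpecialLinearGroup.coe_one, ← bd_one]
  congr 1
  · rw [Matrix.mul_fin_two]
    ext i j
    fin_cases i <;> fin_cases j <;> simp
  · ring

theorem s3_conj : s3 F * u3 F * (s3 F)⁻¹ = (u3 F)⁻¹ := by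
  rw [inv_u_iff, s3, mk3_coe, bd_mul, bd_mul]
  congr 1
  · rw [Matrix.mul_fin_two, Matrix.mul_fin_two]
    ext i j
    fin_cases i <;> fin_cases j <;> simp
  · ring

theorem twist_of_shape (h2 : (2 : F) ≠ 0) (g₀ : Matrix.SpecialLinearGroup (Fin 3) F) (a d : F)
    (hg₀ : (g₀ : Matrix (Fin 3) (Fin 3) F) = bd !![a, -a; a, a] d) :
    g₀ * u3 F = u3 F * g₀ ∧
      ∀ x : Matrix.SpecialLinearGroup (Fin 3) F, x * u3 F * x⁻¹ = (u3 F)⁻¹ →
        x * g₀ * x⁻¹ = g₀ * (u3 F)⁻¹ := by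
  constructor
  · rw [comm_u_iff, hg₀, bd_mul, bd_mul]
    congr 1
    · rw [Matrix.mul_fin_two, Matrix.mul_fin_two]
      ext i j
      fin_cases i <;> fin_cases j <;> simp
    · ring
  · intro x hx
    obtain ⟨a', b', d', hx'⟩ := shape_inv h2 hx
    have key : x * g₀ = g₀ * (u3 F)⁻¹ * x := by
      rw [sl3_ext_iff]
      simp only [Matrix.SpecialLinearGroup.coe_mul]
      rw [u3_inv_coe, hx', hg₀, bd_mul, bd_mul, bd_mul]
      congr 1
      · rw [Matrix.mul_fin_two, Matrix.mul_fin_two, Matrix.mul_fin_two]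
        ext i j
        fin_cases i <;> fin_cases j <;> simp <;> ring
      · ring
    rw [key]
    group

/-! ### Membership in `SU₃` -/

theorem u3_mem_SU {q : ℕ} (σ : F →+* F) (hσ : ∀ x, σ x = x ^ q) : u3 F ∈ Cfsg.SU 3 F q := by
  rw [mem_SU_iff σ hσ, u3_coe, isU_bd, isU_two_iff]
  simp

theorem s3_mem_SU {q : ℕ} (σ : F →+* F) (hσ : ∀ x, σ x = x ^ q) : s3 F ∈ Cfsg.SU 3 F q := by
  rw [mem_SU_iff σ hσ, s3, mk3_coe, isU_bd, isU_two_iff]
  simp

/-- conjugating an element `diag(A, d)` of `SU₃`, `A` of trace zero, to antidiagonal form. -/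
theorem exists_conj_antidiag [Fintype F] {q : ℕ} (hF : Fintype.card F = q ^ 2) (h2 : (2 : F) ≠ 0)
    (σ : F →+* F) (hσ : ∀ x, σ x = x ^ q) (x : Matrix.SpecialLinearGroup (Fin 3) F)
    (hx : x ∈ Cfsg.SU 3 F q) (a b c d : F)
    (hx' : (x : Matrix (Fin 3) (Fin 3) F) = bd !![a, b; c, -a] d) :
    ∃ (p y : Matrix.SpecialLinearGroup (Fin 3) F) (ε : F), p ∈ Cfsg.SU 3 F q ∧ (ε = 1 ∨ ε = -1) ∧
      (y : Matrix (Fin 3) (Fin 3) F) = bd !![0, ε * (a * a + b * c); ε, 0] d ∧ x = p * y * p⁻¹ := by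
  have hU := (mem_SU_iff σ hσ x).mp hx
  rw [hx', isU_bd] at hU
  obtain ⟨h, ε, hε, hhU, hconj⟩ := u2_conj hF h2 σ hσ a b c (a * a + b * c) hU.1 rfl
  have hδδ : h.det * σ h.det = 1 := hhU.det
  have hδ0 : h.det ≠ 0 := by
    intro h0
    rw [h0, zero_mul] at hδδ
    exact zero_ne_one hδδ
  have hσδ0 : σ h.det ≠ 0 := by
    intro h0
    rw [h0, mul_zero] at hδδ
    exact zero_ne_one hδδ
  have hPdet : (bd h (h.det)⁻¹).det = 1 := by
    rw [det_bd, mul_inv_cancel₀ hδ0]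
  have hpU : mk3 (bd h (h.det)⁻¹) hPdet ∈ Cfsg.SU 3 F q := by
    rw [mem_SU_iff σ hσ, mk3_coe, isU_bd]
    refine ⟨hhU, ?_⟩
    rw [map_inv₀]
    field_simp
    linear_combination -hδδ
  set p := mk3 (bd h (h.det)⁻¹) hPdet with hp
  refine ⟨p, p⁻¹ * x * p, ε, hpU, hε, ?_, by group⟩
  have hxp : (x : Matrix (Fin 3) (Fin 3) F) * (p : Matrix (Fin 3) (Fin 3) F) =
      (p : Matrix (Fin 3) (Fin 3) F) * bd !![0, ε * (a * a + b * c); ε, 0] d := by
    rw [hx', hp, mk3_coe, bd_mul, bd_mul, hconj, mul_comm d]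
  calc ((p⁻¹ * x * p : Matrix.SpecialLinearGroup (Fin 3) F) : Matrix (Fin 3) (Fin 3) F)
      = (p⁻¹ : Matrix.SpecialLinearGroup (Fin 3) F).1 *
          ((x : Matrix (Fin 3) (Fin 3) F) * (p : Matrix (Fin 3) (Fin 3) F)) := by
        rw [Matrix.SpecialLinearGroup.coe_mul, Matrix.SpecialLinearGroup.coe_mul, Matrix.mul_assoc]
    _ = ((p⁻¹ * p : Matrix.SpecialLinearGroup (Fin 3) F) : Matrix (Fin 3) (Fin 3) F) *
          bd !![0, ε * (a * a + b * c); ε, 0] d := by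
        rw [hxp, ← Matrix.mul_assoc, ← Matrix.SpecialLinearGroup.coe_mul]
    _ = bd !![0, ε * (a * a + b * c); ε, 0] d := by
        rw [inv_mul_cancel, Matrix.SpecialLinearGroup.coe_one, Matrix.one_mul]

/-- square roots of `u²` in `L ∩ SU₃` are conjugate to `u` in `SU₃`. -/
theorem L_conj_SU [Fintype F] {q : ℕ} (hF : Fintype.card F = q ^ 2) (h2 : (2 : F) ≠ 0)
    (σ : F →+* F) (hσ : ∀ x, σ x = x ^ q) (B : Matrix.SpecialLinearGroup (Fin 2) F)
    (hy : emb B ∈ Cfsg.SU 3 F q)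
    (hBB : (B : Matrix (Fin 2) (Fin 2) F) * (B : Matrix (Fin 2) (Fin 2) F) = -1) :
    ∃ p ∈ Cfsg.SU 3 F q, p * u3 F * p⁻¹ = emb B := by
  have hdet := S5317.det_eq B
  have hsq := hBB
  rw [Helper41.sl2_sq] at hsq
  have htr : (B : Matrix (Fin 2) (Fin 2) F).trace = 0 := by
    by_contra ht
    have e00 := congrFun (congrFun hsq 0) 0
    have e01 := congrFun (congrFun hsq 0) 1
    simp only [Matrix.sub_apply, Matrix.smul_apply, Matrix.one_apply_eq, Matrix.one_apply_ne, smul_eq_mul,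
      ne_eq, zero_ne_one, not_false_eq_true, sub_zero, Matrix.neg_apply, neg_zero] at e00 e01
    have h00 : B.1 0 0 = 0 := by
      have : (B : Matrix (Fin 2) (Fin 2) F).trace * B.1 0 0 = 0 := by linear_combination e00
      exact (mul_eq_zero.mp this).resolve_left ht
    have h01 : B.1 0 1 = 0 := (mul_eq_zero.mp e01).resolve_left ht
    rw [h00, h01] at hdet
    simp at hdet
  rw [Matrix.trace_fin_two] at htr
  have h11 : B.1 1 1 = -B.1 0 0 := by linear_combination htr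
  have hB : (B : Matrix (Fin 2) (Fin 2) F) = !![B.1 0 0, B.1 0 1; B.1 1 0, -B.1 0 0] := by
    conv_lhs => rw [S5317.sl2_eta B, h11]
  have hlam : B.1 0 0 * B.1 0 0 + B.1 0 1 * B.1 1 0 = -1 := by
    have := congrFun (congrFun hBB 0) 0
    simpa [Matrix.mul_apply, Fin.sum_univ_two] using this
  have hx' : ((emb B : Matrix.SpecialLinearGroup (Fin 3) F) : Matrix (Fin 3) (Fin 3) F) =
      bd !![B.1 0 0, B.1 0 1; B.1 1 0, -B.1 0 0] 1 := by
    rw [emb_coe]
    congr 1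
  obtain ⟨p, y, ε, hpU, hε, hy', hxy⟩ := exists_conj_antidiag hF h2 σ hσ (emb B) hy _ _ _ _ hx'
  rw [hlam] at hy'
  rcases hε with rfl | rfl
  · refine ⟨p, hpU, ?_⟩
    have : y = u3 F := by
      rw [sl3_ext_iff, hy', u3_coe]
      congr 1
      simp
    rw [hxy, this]
  · refine ⟨p * s3 F, Subgroup.mul_mem _ hpU (s3_mem_SU σ hσ), ?_⟩
    have : y = (u3 F)⁻¹ := by
      rw [sl3_ext_iff, hy', u3_inv_coe]
      congr 1
      simp
    rw [hxy, this, ← s3_conj]
    group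


theorem exists_twist_SU [Fintype F] {q : ℕ} (hF : Fintype.card F = q ^ 2) (h2 : (2 : F) ≠ 0)
    (σ : F →+* F) (hσ : ∀ x, σ x = x ^ q) :
    ∃ g₀ ∈ Cfsg.SU 3 F q, g₀ * u3 F = u3 F * g₀ ∧
      ∀ x : Matrix.SpecialLinearGroup (Fin 3) F, x * u3 F * x⁻¹ = (u3 F)⁻¹ →
        x * g₀ * x⁻¹ = g₀ * (u3 F)⁻¹ := by
  have hfix : ((2 : F)⁻¹) ^ q = (2 : F)⁻¹ := by
    rw [← hσ, map_inv₀, map_ofNat]
  obtain ⟨κ, hκ⟩ := Helper44.exists_norm hF _ hfix
  rw [← hσ] at hκ
  have hκ' : 2 * κ * σ κ = 1 := by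
    rw [mul_assoc, hκ]
    exact mul_inv_cancel₀ h2
  have hκ0 : κ ≠ 0 := by
    rintro rfl
    simp at hκ'
  have hσκ0 : σ κ ≠ 0 := by
    intro h
    rw [h, mul_zero] at hκ'
    exact zero_ne_one hκ'
  have hdet : (bd !![κ, -κ; κ, κ] (2 * κ * κ)⁻¹).det = 1 := by
    rw [det_bd, Matrix.det_fin_two_of]
    field_simp
    ring
  refine ⟨mk3 (bd !![κ, -κ; κ, κ] (2 * κ * κ)⁻¹) hdet, ?_, twist_of_shape h2 _ κ _ (mk3_coe _ _)⟩
  rw [mem_SU_iff σ hσ, mk3_coe, isU_bd, isU_two_iff]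
  simp only [map_neg, map_inv₀, map_mul, map_ofNat]
  refine ⟨⟨?_, ?_, ?_, ?_⟩, ?_⟩
  · linear_combination hκ'
  · ring
  · ring
  · linear_combination hκ'
  · field_simp
    linear_combination (-(2 * κ * σ κ) - 1) * hκ'

/-- the closure property in `SU₃`. -/
theorem closed_SU [Fintype F] {q : ℕ} (hF : Fintype.card F = q ^ 2) (h2 : (2 : F) ≠ 0)
    (σ : F →+* F) (hσ : ∀ x, σ x = x ^ q) (X : Set ↥(Cfsg.SU 3 F q)) (hX : TwoClosed X)
    (x : ↥(Cfsg.SU 3 F q)) (hx : ∃ k : ℕ, x ^ 2 ^ k = 1)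
    (hxu : (x : Matrix.SpecialLinearGroup (Fin 3) F) * u3 F * (x : Matrix.SpecialLinearGroup (Fin 3) F)⁻¹ =
      (u3 F)⁻¹) : x ∈ X := by
  have : Fact (Nat.Prime 2) := ⟨Nat.prime_two⟩
  have hσσ : ∀ x, σ (σ x) = x := fun x => by rw [hσ, hσ, Helper44.conj_conj hF]
  obtain ⟨a, b, d, hx'⟩ := shape_inv h2 hxu
  obtain ⟨k, hk⟩ := hx
  have hk' : (x : Matrix.SpecialLinearGroup (Fin 3) F) ^ 2 ^ k = 1 := by
    have := congrArg Subtype.val hk
    simpa using this
  set lam := a * a + b * b with hlam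
  have hdet : lam * d = -1 := by
    have := (x : Matrix.SpecialLinearGroup (Fin 3) F).2
    rw [hx', det_bd, Matrix.det_fin_two_of] at this
    rw [hlam]
    linear_combination -this
  have hlam0 : lam ≠ 0 := by
    intro h
    rw [h, zero_mul] at hdet
    have : (1 : F) = 0 := by linear_combination hdet
    exact one_ne_zero this
  have hd : d = -lam⁻¹ := by
    field_simp
    linear_combination hdet
  have hsq : ((x : Matrix.SpecialLinearGroup (Fin 3) F) : Matrix (Fin 3) (Fin 3) F) *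
      ((x : Matrix.SpecialLinearGroup (Fin 3) F) : Matrix (Fin 3) (Fin 3) F) =
      Matrix.diagonal ![lam, lam, d * d] := by
    rw [hx', bd_mul]
    ext i j
    fin_cases i <;> fin_cases j <;> simp [bd, Matrix.mul_apply, Fin.sum_univ_two, hlam] <;> ring
  have hlamk : lam ^ 2 ^ k = 1 := by
    have h1 : ((x : Matrix.SpecialLinearGroup (Fin 3) F) : Matrix (Fin 3) (Fin 3) F) ^ 2 ^ (k + 1) = 1 := by
      rw [← Matrix.SpecialLinearGroup.coe_pow, pow_succ, pow_mul, hk', one_pow,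
        Matrix.SpecialLinearGroup.coe_one]
    rw [pow_succ, mul_comm, pow_mul, pow_two, hsq, Matrix.diagonal_pow] at h1
    have := congrFun (congrFun h1 0) 0
    simpa using this
  -- unitarity
  have hxU := (mem_SU_iff σ hσ (x : Matrix.SpecialLinearGroup (Fin 3) F)).mp x.2
  rw [hx', isU_bd] at hxU
  have hlamσ : lam * σ lam = 1 := by
    have h1 := hxU.2
    rw [hd, map_neg, map_inv₀] at h1
    have hσl0 : σ lam ≠ 0 := fun h => hlam0 ((map_eq_zero σ).mp h)
    field_simp at h1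
    linear_combination -h1
  have hσlam0 : σ lam ≠ 0 := fun h => hlam0 ((map_eq_zero σ).mp h)
  obtain ⟨p, y, ε, hpU, hε, hy', hxy⟩ := exists_conj_antidiag hF h2 σ hσ
    (x : Matrix.SpecialLinearGroup (Fin 3) F) x.2 a b b d hx'
  rw [← hlam] at hy'
  have hεε : ε * ε = 1 := by
    rcases hε with rfl | rfl <;> ring
  have hσε : σ ε = ε := by
    rcases hε with rfl | rfl
    · exact map_one σ
    · rw [map_neg, map_one]
  -- the elements
  have hdetD : (Matrix.diagonal ![1, lam, lam⁻¹] : Matrix (Fin 3) (Fin 3) F).det = 1 := by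
    rw [Matrix.det_diagonal, Fin.prod_univ_three]
    simp [hlam0]
  have hdetD' : (Matrix.diagonal ![1, lam⁻¹, lam] : Matrix (Fin 3) (Fin 3) F).det = 1 := by
    rw [Matrix.det_diagonal, Fin.prod_univ_three]
    simp [hlam0]
  have hdetE : (Matrix.diagonal ![lam, 1, lam⁻¹] : Matrix (Fin 3) (Fin 3) F).det = 1 := by
    rw [Matrix.det_diagonal, Fin.prod_univ_three]
    simp [hlam0]
  have hdetρ : (!![-1, 0, 0; 0, 0, 1; 0, 1, 0] : Matrix (Fin 3) (Fin 3) F).det = 1 := by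
    rw [Matrix.det_fin_three]
    simp
  have hdetτ : (bd !![0, ε; ε, 0] (-1 : F)).det = 1 := by
    rw [det_bd, Matrix.det_fin_two_of]
    linear_combination hεε
  set D := mk3 (Matrix.diagonal ![1, lam, lam⁻¹]) hdetD with hD
  set D' := mk3 (Matrix.diagonal ![1, lam⁻¹, lam]) hdetD' with hD'
  set E := mk3 (Matrix.diagonal ![lam, 1, lam⁻¹]) hdetE with hE
  set ρ := mk3 (!![-1, 0, 0; 0, 0, 1; 0, 1, 0] : Matrix (Fin 3) (Fin 3) F) hdetρ with hρ
  set τ := mk3 (bd !![0, ε; ε, 0] (-1 : F)) hdetτ with hτ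
  have hDU : D ∈ Cfsg.SU 3 F q := by
    rw [mem_SU_iff σ hσ, hD, mk3_coe]
    unfold IsU
    rw [Matrix.diagonal_transpose, Matrix.diagonal_map (map_zero σ), Matrix.diagonal_mul_diagonal,
      ← Matrix.diagonal_one]
    congr 1
    funext i
    fin_cases i
    · simp
    · simpa using hlamσ
    · simp only [Fin.reduceFinMk, Matrix.cons_val_two, Matrix.tail_cons, Matrix.head_cons, map_inv₀]
      field_simp
      linear_combination -hlamσ
  have hρU : ρ ∈ Cfsg.SU 3 F q := by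
    rw [mem_SU_iff σ hσ, hρ, mk3_coe]
    unfold IsU
    ext i j
    fin_cases i <;> fin_cases j <;> simp [Matrix.mul_apply, Fin.sum_univ_three]
  have hτU : τ ∈ Cfsg.SU 3 F q := by
    rw [mem_SU_iff σ hσ, hτ, mk3_coe, isU_bd, isU_two_iff]
    simp [hσε, hεε]
  have hDk : D ^ 2 ^ k = 1 := by
    rw [sl3_ext_iff, Matrix.SpecialLinearGroup.coe_pow, hD, mk3_coe, Matrix.SpecialLinearGroup.coe_one]
    apply diag_pow_eq_one hlamk
    intro i
    fin_cases i <;> simp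
  have hDD' : D * D' = 1 := by
    rw [sl3_ext_iff, Matrix.SpecialLinearGroup.coe_mul, hD, hD', mk3_coe, mk3_coe,
      Matrix.SpecialLinearGroup.coe_one, Matrix.diagonal_mul_diagonal, ← Matrix.diagonal_one]
    congr 1
    ext i
    fin_cases i <;> simp [hlam0]
  have hD'inv : D' = D⁻¹ := eq_inv_of_mul_eq_one_right hDD'
  have hρρ : ρ * ρ = 1 := by
    rw [sl3_ext_iff, Matrix.SpecialLinearGroup.coe_mul, hρ, mk3_coe, Matrix.SpecialLinearGroup.coe_one]
    ext i j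
    fin_cases i <;> fin_cases j <;> simp [Matrix.mul_apply, Fin.sum_univ_three]
  have hρ1 : ρ ≠ 1 := by
    intro h
    rw [sl3_ext_iff, hρ, mk3_coe, Matrix.SpecialLinearGroup.coe_one] at h
    have := congrFun (congrFun h 1) 2
    simp at this
  have hρD : ρ * D * ρ⁻¹ = D⁻¹ := by
    have key : ρ * D = D' * ρ := by
      rw [sl3_ext_iff]
      simp only [Matrix.SpecialLinearGroup.coe_mul]
      rw [hρ, hD, hD', mk3_coe, mk3_coe, mk3_coe]
      ext i j
      fin_cases i <;> fin_cases j <;> simp [Matrix.mul_apply, Matrix.diagonal]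
    rw [key, hD'inv]
    group
  have hττ : τ * τ = 1 := by
    rw [sl3_ext_iff, Matrix.SpecialLinearGroup.coe_mul, hτ, mk3_coe, bd_mul,
      Matrix.SpecialLinearGroup.coe_one, ← bd_one]
    congr 1
    · rw [Matrix.mul_fin_two]
      ext i j
      fin_cases i <;> fin_cases j <;> simp [hεε]
    · ring
  have hτ1 : τ ≠ 1 := by
    intro h
    rw [sl3_ext_iff, hτ, mk3_coe, Matrix.SpecialLinearGroup.coe_one] at h
    have := congrFun (congrFun h 0) 0
    simp [bd] at this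
  have hτD : τ * D * τ⁻¹ = E := by
    have key : τ * D = E * τ := by
      rw [sl3_ext_iff]
      simp only [Matrix.SpecialLinearGroup.coe_mul]
      rw [hτ, hD, hE, mk3_coe, mk3_coe, mk3_coe]
      ext i j
      fin_cases i <;> fin_cases j <;> simp [bd, Matrix.mul_apply, Matrix.diagonal, mul_comm]
    rw [key]
    group
  have hcomm : D * (τ * D * τ⁻¹) = (τ * D * τ⁻¹) * D := by
    rw [hτD, sl3_ext_iff]
    simp only [Matrix.SpecialLinearGroup.coe_mul]
    rw [hD, hE, mk3_coe, mk3_coe, Matrix.diagonal_mul_diagonal, Matrix.diagonal_mul_diagonal]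
    congr 1
    ext i
    fin_cases i <;> simp [mul_comm]
  have hy : y = τ * D := by
    rw [sl3_ext_iff, hy', Matrix.SpecialLinearGroup.coe_mul, hτ, hD, mk3_coe, mk3_coe, hd]
    ext i j
    fin_cases i <;> fin_cases j <;> simp [bd, Matrix.mul_apply, Matrix.diagonal]
  -- now in the group `SU₃`
  have hDX : (⟨D, hDU⟩ : ↥(Cfsg.SU 3 F q)) ∈ X := by
    apply TwoClosed.mem_of_inverted hX (ρ := ⟨ρ, hρU⟩) (k := k)
    · exact Subtype.ext hρρ
    · intro h
      exact hρ1 (congrArg Subtype.val h)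
    · apply Subtype.ext
      rw [SubmonoidClass.coe_pow]
      exact hDk
    · exact Subtype.ext hρD
  have hτX : (⟨τ, hτU⟩ : ↥(Cfsg.SU 3 F q)) ∈ X := by
    apply hX.2.1
    apply orderOf_eq_prime
    · rw [pow_two]
      exact Subtype.ext hττ
    · intro h
      exact hτ1 (congrArg Subtype.val h)
  obtain ⟨hMX, -⟩ := TwoClosed.mul_mem_of_swap hX (σ := ⟨τ, hτU⟩) (d := ⟨D, hDU⟩) (k := k)
    (Subtype.ext hττ) hτX hDX (by
      apply Subtype.ext
      rw [SubmonoidClass.coe_pow]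
      exact hDk) (Subtype.ext hcomm)
  have hfin : x = (⟨p, hpU⟩ : ↥(Cfsg.SU 3 F q)) * ((⟨τ, hτU⟩ : ↥(Cfsg.SU 3 F q)) * ⟨D, hDU⟩) *
      (⟨p, hpU⟩ : ↥(Cfsg.SU 3 F q))⁻¹ := by
    apply Subtype.ext
    show (x : Matrix.SpecialLinearGroup (Fin 3) F) = p * (τ * D) * p⁻¹
    rw [← hy]
    exact hxy
  rw [hfin]
  exact hX.1 _ _ hMX


/-! ### Assembly -/

/-- `SU₃(q)`, `q` odd, carries the data of `QWData`. -/
theorem qwData_SU [Fintype F] {q : ℕ} (hF : Fintype.card F = q ^ 2) (hodd : q % 2 = 1)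
    (hu : u3 F ∈ Cfsg.SU 3 F q) :
    QWData (⟨u3 F, hu⟩ : ↥(Cfsg.SU 3 F q)) ((L3 F).subgroupOf (Cfsg.SU 3 F q))
      ((K3 F).subgroupOf (Cfsg.SU 3 F q)) := by
  have hoddF : Fintype.card F % 2 = 1 := by rw [hF, Nat.pow_mod, hodd]
  have h2 : (2 : F) ≠ 0 := S5317.two_ne_zero_of_odd hoddF
  obtain ⟨σ, hσ⟩ := Helper44.exists_conj hF
  have hD3 := qwData (F := F) hoddF
  refine ⟨?_, ?_, ?_, ?_, ?_, ?_, ?_, ?_, ?_, ?_, ?_, ?_, ?_⟩
  · intro h
    exact hD3.t_ne (congrArg Subtype.val h)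
  · exact Subtype.ext t3_sq
  · intro x y hx hy
    have aux : ∀ z : ↥(Cfsg.SU 3 F q), orderOf z = 2 → ∃ p ∈ Cfsg.SU 3 F q,
        p⁻¹ * (z : Matrix.SpecialLinearGroup (Fin 3) F) * p = u3 F * u3 F := by
      intro z hz
      have hz2 : z ^ 2 = 1 := by
        rw [← hz]
        exact pow_orderOf_eq_one z
      have hz1 : z ≠ 1 := by
        intro h
        rw [h, orderOf_one] at hz
        omega
      apply exists_conj_t hF h2 σ hσ z.1 z.2
      · rw [pow_two] at hz2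
        exact congrArg Subtype.val hz2
      · intro h
        exact hz1 (Subtype.ext h)
    obtain ⟨p, hp, hpx⟩ := aux x hx
    obtain ⟨r, hr, hry⟩ := aux y hy
    refine ⟨⟨r * p⁻¹, Subgroup.mul_mem _ hr (Subgroup.inv_mem _ hp)⟩, Subtype.ext ?_⟩
    show r * p⁻¹ * (x : Matrix.SpecialLinearGroup (Fin 3) F) * (r * p⁻¹)⁻¹ = y
    calc r * p⁻¹ * (x : Matrix.SpecialLinearGroup (Fin 3) F) * (r * p⁻¹)⁻¹
        = r * (p⁻¹ * (x : Matrix.SpecialLinearGroup (Fin 3) F) * p) * r⁻¹ := by group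
      _ = r * (r⁻¹ * (y : Matrix.SpecialLinearGroup (Fin 3) F) * r) * r⁻¹ := by rw [hpx, hry]
      _ = y := by group
  · exact Subgroup.mem_subgroupOf.mpr u3_mem_L3
  · intro g hg y hy
    rw [Subgroup.mem_subgroupOf] at hy ⊢
    exact L3_norm h2 g.1 (congrArg Subtype.val hg) y.1 hy
  · intro y hy hyy
    rw [Subgroup.mem_subgroupOf] at hy
    rcases L3_invol h2 y.1 hy (congrArg Subtype.val hyy) with h | h
    · exact Or.inl (Subtype.ext h)
    · exact Or.inr (Subtype.ext h)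
  · intro y hy hyy
    rw [Subgroup.mem_subgroupOf] at hy
    obtain ⟨B, hB⟩ := hy
    have hyy' : (y : Matrix.SpecialLinearGroup (Fin 3) F) * (y : Matrix.SpecialLinearGroup (Fin 3) F) =
        u3 F * u3 F := congrArg Subtype.val hyy
    have h1 : (B : Matrix (Fin 2) (Fin 2) F) * (B : Matrix (Fin 2) (Fin 2) F) = -1 := by
      rw [← hB, sl3_ext_iff] at hyy'
      simp only [Matrix.SpecialLinearGroup.coe_mul] at hyy'
      rw [t3_coe, emb_coe, bd_mul] at hyy'
      exact (bd_inj hyy').1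
    have hBU : emb B ∈ Cfsg.SU 3 F q := by
      rw [hB]
      exact y.2
    obtain ⟨p, hp, hpu⟩ := L_conj_SU hF h2 σ hσ B hBU h1
    refine ⟨⟨p, hp⟩, Subtype.ext ?_⟩
    show p * u3 F * p⁻¹ = (y : Matrix.SpecialLinearGroup (Fin 3) F)
    rw [hpu, hB]
  · intro g h hg hh
    exact Subtype.ext (cent_comm h2 g.1 h.1 (congrArg Subtype.val hg) (congrArg Subtype.val hh))
  · have := K3_isCyclic (F := F) h2
    let f : ↥((K3 F).subgroupOf (Cfsg.SU 3 F q)) →* ↥(K3 F) :=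
      { toFun := fun x => ⟨((x : ↥(Cfsg.SU 3 F q)) : Matrix.SpecialLinearGroup (Fin 3) F),
          Subgroup.mem_subgroupOf.mp x.2⟩
        map_one' := rfl
        map_mul' := fun _ _ => rfl }
    apply isCyclic_of_injective f
    intro x y hxy
    apply Subtype.ext
    apply Subtype.ext
    exact congrArg (fun w : ↥(K3 F) => (w : Matrix.SpecialLinearGroup (Fin 3) F)) hxy
  · intro g h hg hh
    rw [Subgroup.mem_subgroupOf]
    exact comm_mem_K3 h2 g.1 h.1 (hg.imp (congrArg Subtype.val) (congrArg Subtype.val))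
      (hh.imp (congrArg Subtype.val) (congrArg Subtype.val))
  · obtain ⟨g₀, hg₀U, hg₀u, hg₀x⟩ := exists_twist_SU hF h2 σ hσ
    refine ⟨⟨g₀, hg₀U⟩, Subtype.ext hg₀u, fun x hx => Subtype.ext ?_⟩
    exact hg₀x x.1 (congrArg Subtype.val hx)
  · exact ⟨⟨s3 F, s3_mem_SU σ hσ⟩, Subtype.ext s3_mul_self, Subtype.ext s3_conj⟩
  · intro X hX x hx hxu
    exact closed_SU hF h2 σ hσ X hX x hx (congrArg Subtype.val hxu)

/-- central elements of `SU₃(q)` of `2`-power order are trivial. -/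
theorem center_SU_no_two [Fintype F] {q : ℕ} (hodd : q % 2 = 1) (h2 : (2 : F) ≠ 0)
    (z : ↥(Cfsg.SU 3 F q)) (hz : z ∈ Subgroup.center ↥(Cfsg.SU 3 F q)) (k : ℕ) (hk : z ^ 2 ^ k = 1) :
    z = 1 := by
  have hq0 : q ≠ 0 := by
    rintro rfl
    omega
  have hneg : (-1 : F) ≠ 1 := by
    intro h
    apply h2
    linear_combination -h
  have hpow : (-1 : F) ^ (q + 1) = 1 := by
    have : Even (q + 1) := by
      rw [Nat.even_iff]
      omega
    exact this.neg_one_pow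
  obtain ⟨c, hc, hcq, rfl⟩ := Helper36.center_SU_scalar (le_refl 3) hq0 (-1) hneg hpow z hz
  have hck : c ^ 2 ^ k = 1 := by
    have h1 : (((Helper36.scalarSU c hc hcq ^ 2 ^ k : ↥(Cfsg.SU 3 F q)) :
        Matrix.SpecialLinearGroup (Fin 3) F) : Matrix (Fin 3) (Fin 3) F) = 1 := by
      rw [hk]
      rfl
    rw [SubmonoidClass.coe_pow, Matrix.SpecialLinearGroup.coe_pow, Helper36.scalarSU_val, smul_pow,
      one_pow] at h1
    have := congrFun (congrFun h1 0) 0
    simpa using this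
  have h3 : orderOf c ∣ Nat.gcd 3 (2 ^ k) :=
    Nat.dvd_gcd (orderOf_dvd_of_pow_eq_one hc) (orderOf_dvd_of_pow_eq_one hck)
  have h4 : Nat.gcd 3 (2 ^ k) = 1 := Nat.Coprime.pow_right _ (by decide)
  rw [h4] at h3
  have hc1 : c = 1 := orderOf_eq_one_iff.mp (Nat.dvd_one.mp h3)
  apply Subtype.ext
  rw [sl3_ext_iff, Helper36.scalarSU_val, hc1, one_smul]
  rfl

end SU3
end Cfsg.Agent.Helper88
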