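import Mathlib
import Cfsg.Agent.Helper90.HTDefs
import Cfsg.Agent.Helper88.HTHANISOCore
import Cfsg.Agent.Helper88.HTHEIG
import Cfsg.Agent.Helper22.HTCWH
import Cfsg.Agent.Helper34.HTHCYC

set_option autoImplicit false

/-!
# S5953 piece HANISO (helper88): the self-dual case (statement verbatim from the skeleton).
-/

namespace Cfsg.Agent.Helper88.HT5953

open Module Polynomial Cfsg.Agent.Helper90.HT

section geom2

variable {F : Type*} [Field F] {V : Type*} [AddCommGroup V] [Module F V] [FiniteDimensional F V]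
  (σ : F →+* F) (h : V → V → F)

variable [Fintype F] (q : ℕ) (hq : Fintype.card F = q ^ 2) (hσ : ∀ a, σ a = a ^ q)

include hq hσ

/-- HANISO (uses CWH, HCYC, HEIG, cyc_dvd, ORDC): the self-dual case. -/
theorem ht_aniso (hh : IsHerm σ h) (T : Module.End F V) (hT : HPres h T) (r : ℕ) [Fact r.Prime]
    (hr2 : 2 < r) (hrF : (r : F) ≠ 0) (hTr : T ^ r = 1)
    (hi : orderOf ((q : ℕ) : ZMod r) % 4 = 2) (U : Submodule F V) (hU : U.map T ≤ U)
    (hUk : U ⊓ LinearMap.ker (T - 1) = ⊥) (hdim : r ≤ finrank F U) :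
    ∃ W' : Submodule F V, W' ≤ U ∧ HTI h W' ∧ W'.map T ≤ W' ∧ W' ≠ ⊥ := by
  have hodd : Odd r := (Fact.out : r.Prime).odd_of_ne_two (by omega)
  exact ht_aniso_core88 h q hq T r hr2 hrF hTr hi U hU hUk hdim
    (fun g hg1 hg2 hd => Cfsg.Agent.Helper22.HT5953.ht_cw g hg1 hg2 U hd)
    (fun v hv => Cfsg.Agent.Helper34.HT5953.ht_cyc σ h hh T hT r hodd 1
      (by rw [hTr, one_smul]) v hv)
    (fun hrq => ht_eig σ h q hq hσ hh T hT r hr2 hrq hTr U hU hUk hdim)
    hh.add_left hh.add_right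

end geom2

end Cfsg.Agent.Helper88.HT5953
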