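import Mathlib
import Cfsg.Prelude.Def_GeometricClasses
import Cfsg.Prelude.Def_Classical
import Cfsg.Agent.Helper35.S88Defs
import Cfsg.Agent.Helper58.TSDefs
import Cfsg.Agent.Helper43.PrimeOrdO3
import Cfsg.Agent.Helper33.OType
import Cfsg.Agent.Helper43.S88OEDefs
import Cfsg.Agent.Helper88.S88OEBLKTYPEof
import Cfsg.Agent.Helper67.S88OEBLKCHAR

set_option autoImplicit false

/-!
# helper88: sub-CALL S88OE (helper43, row S5988), piece BLKTYPE (`oe_blk_type`, verbatim)

`oe_blk_type_of` with helper67's BLKCHAR `oe_blk_char`.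
-/

namespace Cfsg.Agent.Helper88.S88OE

open Module Polynomial Cfsg Cfsg.Geo Cfsg.Agent.Helper58.TS Cfsg.Agent.Helper35.S88
open Cfsg.Agent.Helper43 Cfsg.Agent.Helper43.OrthEven Cfsg.Agent.Helper43.CycFactors
  Cfsg.Agent.Helper43.PrimeOrdMat Cfsg.Agent.Helper43.S88OE
open scoped MatrixGroups

universe u

section fin

variable {F : Type u} [Field F] [Fintype F]

/-- BLKTYPE: dimension and type of a block, `i` even. -/
theorem oe_blk_type (p : ℕ) [Fact p.Prime] [CharP F p] (r : ℕ) [Fact r.Prime] (hr2 : 2 < r)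
    (hrp : r ≠ p) (heven : Even (orderOf ((Fintype.card F : ℕ) : ZMod r))) {V : Type u}
    [AddCommGroup V] [Module F V] [FiniteDimensional F V] (Q : QuadraticForm F V)
    (T : Module.End F V) (hblk : Blk r Q T) :
    ∃ n, finrank F V = 2 * (orderOf ((Fintype.card F : ℕ) : ZMod r) / 2 * n) ∧
      (HasTS Q (orderOf ((Fintype.card F : ℕ) : ZMod r) / 2 * n) ↔ Even n) :=
  oe_blk_type_of p r hr2 hrp heven Q T hblk
    (Cfsg.Agent.Helper67.S88OE.oe_blk_char p r hrp T hblk.2.2)

end fin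

end Cfsg.Agent.Helper88.S88OE
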