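import Cfsg.Agent.Helper68.BG134Defs

/-!
Helper88: PIECE FC1 of CALL S1428 (helper68): `bg134_fc_abelian`.
-/

set_option autoImplicit false

namespace Cfsg.Agent.Helper88

open Cfsg Subgroup Cfsg.Agent.Helper23 Cfsg.Agent.Helper35 Cfsg.Agent.Helper22 Cfsg.Agent.Helper68
open scoped Pointwise commutatorElement

universe u

/-- in a finite cyclic group, an element whose order divides the order of `x` is a power of `x`. -/
theorem mem_zpowers_of_orderOf_dvd88 {C : Type*} [Group C] [Finite C] [IsCyclic C] (x v : C)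
    (h : orderOf v ∣ orderOf x) : v ∈ Subgroup.zpowers x := by
  classical
  have := Fintype.ofFinite C
  have hn : 0 < orderOf x := orderOf_pos x
  have h1 := IsCyclic.card_pow_eq_one_le (α := C) hn
  have hsub : (Finset.univ.filter (fun a : C => a ∈ Subgroup.zpowers x)) ⊆
      Finset.univ.filter (fun a : C => a ^ orderOf x = 1) := by
    intro a ha
    simp only [Finset.mem_filter, Finset.mem_univ, true_and] at ha ⊢
    obtain ⟨k, rfl⟩ := ha
    rw [← zpow_natCast, ← zpow_mul, mul_comm, zpow_mul, zpow_natCast, pow_orderOf_eq_one,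
      one_zpow]
  have hcard : (Finset.univ.filter (fun a : C => a ∈ Subgroup.zpowers x)).card = orderOf x := by
    rw [← Nat.card_zpowers, Nat.card_eq_fintype_card, Fintype.card_subtype]
  have heq := Finset.eq_of_subset_of_card_le hsub (by rw [hcard]; exact h1)
  have hv : v ∈ Finset.univ.filter (fun a : C => a ^ orderOf x = 1) := by
    simp only [Finset.mem_filter, Finset.mem_univ, true_and]
    exact orderOf_dvd_iff_pow_eq_one.mp h
  rw [← heq] at hv
  simpa using hv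

variable {G : Type u} [Group G] [Finite G]

/-- two nontrivial elements of a cyclic `p`-subgroup have a common nontrivial power. -/
theorem exists_common_pow88 {p : ℕ} [Fact p.Prime] {C : Subgroup G} (hC : IsCyclic ↥C)
    (hp : IsPGroup p ↥C) {v x : G} (hv : v ∈ C) (hx : x ∈ C) (hv1 : v ≠ 1) (hx1 : x ≠ 1) :
    ∃ w : G, w ≠ 1 ∧ w ∈ zpowers v ∧ w ∈ zpowers x := by
  obtain ⟨i, hi⟩ := IsPGroup.iff_orderOf.mp hp ⟨v, hv⟩
  obtain ⟨j, hj⟩ := IsPGroup.iff_orderOf.mp hp ⟨x, hx⟩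
  rcases le_total i j with hij | hij
  · have h1 : (⟨v, hv⟩ : ↥C) ∈ Subgroup.zpowers (⟨x, hx⟩ : ↥C) :=
      mem_zpowers_of_orderOf_dvd88 _ _ (by rw [hi, hj]; exact pow_dvd_pow p hij)
    obtain ⟨k, hk⟩ := h1
    refine ⟨v, hv1, Subgroup.mem_zpowers v, ⟨k, ?_⟩⟩
    have := congrArg (Subtype.val) hk
    simpa using this
  · have h1 : (⟨x, hx⟩ : ↥C) ∈ Subgroup.zpowers (⟨v, hv⟩ : ↥C) :=
      mem_zpowers_of_orderOf_dvd88 _ _ (by rw [hi, hj]; exact pow_dvd_pow p hij)
    obtain ⟨k, hk⟩ := h1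
    refine ⟨x, hx1, ⟨k, ?_⟩, Subgroup.mem_zpowers x⟩
    have := congrArg (Subtype.val) hk
    simpa using this

theorem card_coprime_of_pgroup88 {p : ℕ} [Fact p.Prime] {V Q : Subgroup G} (hV : IsPGroup p ↥V)
    (hQ : ¬ p ∣ Nat.card Q) : (Nat.card Q).Coprime (Nat.card V) := by
  obtain ⟨k, hk⟩ := IsPGroup.iff_card.mp hV
  rw [hk]
  exact Nat.Coprime.pow_right k
    ((Nat.Prime.coprime_iff_not_dvd (Fact.out : p.Prime)).mpr hQ).symm

theorem not_dvd_card_of_pgroup88 {p r : ℕ} [Fact p.Prime] (hr : r.Prime) (hrp : r ≠ p)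
    {V : Subgroup G} (hV : IsPGroup p ↥V) : ¬ r ∣ Nat.card V := by
  obtain ⟨k, hk⟩ := IsPGroup.iff_card.mp hV
  rw [hk]
  intro h
  exact hrp ((Nat.prime_dvd_prime_iff_eq hr (Fact.out : p.Prime)).mp (hr.dvd_of_dvd_pow h))

/-- PIECE FC1 -/
theorem bg134_fc_abelian (hodd : Odd (Nat.card G)) {p : ℕ} [Fact p.Prime]
    {T U Q₁ R : Subgroup G} (hT : IsPGroup p T) (hUT : U ≤ T)
    (hUab : ∀ x ∈ U, ∀ y ∈ U, x * y = y * x) (hQU : Q₁ ≤ normalizer (U : Set G))
    (hRU : R ≤ normalizer (U : Set G)) (hRQ : R ≤ normalizer (Q₁ : Set G))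
    {r : ℕ} (hr : r.Prime) (hR : Nat.card R = r) (hrp : r ≠ p)
    (hQp : ¬ p ∣ Nat.card Q₁) (hQr : ¬ r ∣ Nat.card Q₁) (hQ1 : ⁅Q₁, R⁆ = Q₁)
    (hcR : IsCyclic ↥(T ⊓ centralizer (R : Set G))) {x₀ : G} (hx₀ : x₀ ∈ T) (hx₀1 : x₀ ≠ 1)
    (hx₀Q : x₀ ∈ centralizer (Q₁ : Set G)) (hx₀R : x₀ ∈ centralizer (R : Set G)) :
    U ≤ centralizer (Q₁ : Set G) := by
  classical
  have hU : IsPGroup p ↥U := hT.to_le hUT
  have hVU : (⁅U, Q₁⁆ : Subgroup G) ≤ U := commutator_le_of_le_normalizer hQU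
  have hV : IsPGroup p ↥(⁅U, Q₁⁆ : Subgroup G) := hU.to_le hVU
  have hQV : Q₁ ≤ normalizer ((⁅U, Q₁⁆ : Subgroup G) : Set G) :=
    le_normalizer_commutator' hQU le_normalizer
  have hRV : R ≤ normalizer ((⁅U, Q₁⁆ : Subgroup G) : Set G) :=
    le_normalizer_commutator' hRU hRQ
  have hVQ : (⁅U, Q₁⁆ : Subgroup G) ⊓ centralizer (Q₁ : Set G) = ⊥ :=
    commutator_inf_centralizer_eq_bot_of_comm hQU (card_coprime_of_pgroup88 hU hQp) hUab
  rw [← Subgroup.commutator_eq_bot_iff_le_centralizer]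
  by_contra hVne
  by_cases hVR : (⁅U, Q₁⁆ : Subgroup G) ⊓ centralizer (R : Set G) = ⊥
  · -- every nontrivial element of `R` is fixed-point-free on `V`
    have hQcV : Q₁ ≤ centralizer ((⁅U, Q₁⁆ : Subgroup G) : Set G) := by
      suffices hh : (⁅Q₁, R⁆ : Subgroup G) ≤ centralizer ((⁅U, Q₁⁆ : Subgroup G) : Set G) by
        rw [hQ1] at hh; exact hh
      rw [Subgroup.commutator_le]
      intro y hy ρ hρ
      by_cases hρ1 : ρ = 1
      · rw [hρ1, commutatorElement_one_right]; exact Subgroup.one_mem _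
      · have hnil : Group.IsNilpotent ↥(⁅U, Q₁⁆ : Subgroup G) := by
          let _ : CommGroup ↥(⁅U, Q₁⁆ : Subgroup G) :=
            { (inferInstance : Group ↥(⁅U, Q₁⁆ : Subgroup G)) with
              mul_comm := fun a b => Subtype.ext (hUab a (hVU a.2) b (hVU b.2)) }
          exact CommGroup.isNilpotent
        have hρr : ρ ^ r = 1 := by
          have h1 : (⟨ρ, hρ⟩ : ↥R) ^ Nat.card R = 1 := pow_card_eq_one'
          rw [hR] at h1
          have := congrArg Subtype.val h1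
          simpa using this
        have hzp : Subgroup.zpowers (⟨ρ, hρ⟩ : ↥R) = ⊤ := by
          have : Fact r.Prime := ⟨hr⟩
          exact zpowers_eq_top_of_prime_card hR (by
            intro h
            exact hρ1 (congrArg Subtype.val h))
        have hfix : ∀ a ∈ (⁅U, Q₁⁆ : Subgroup G), ρ * a = a * ρ → a = 1 := by
          intro a ha hcomm
          have haR : a ∈ centralizer (R : Set G) := by
            rw [Subgroup.mem_centralizer_iff]
            intro h hh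
            have h2 : (⟨h, hh⟩ : ↥R) ∈ Subgroup.zpowers (⟨ρ, hρ⟩ : ↥R) := by
              rw [hzp]; exact Subgroup.mem_top _
            obtain ⟨k, hk⟩ := h2
            have h3 : h = ρ ^ k := by
              have := congrArg Subtype.val hk
              simpa using this.symm
            rw [h3]
            have hc : Commute ρ a := hcomm
            exact (hc.zpow_left k)
          have : a ∈ (⁅U, Q₁⁆ : Subgroup G) ⊓ centralizer (R : Set G) := ⟨ha, haR⟩
          rw [hVR] at this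
          exact Subgroup.mem_bot.mp this
        have hmain := Cfsg.Agent.Helper55.bg_fpf_comm_centralizes hodd hr
          (⁅U, Q₁⁆ : Subgroup G) Q₁ ρ hnil hQV (hRV hρ) (hRQ hρ) hρr
          (not_dvd_card_of_pgroup88 hr hrp hV) hQr
          (card_coprime_of_pgroup88 hV hQp).symm hfix y hy
        -- `⁅y, ρ⁆ = (ρ y ρ⁻¹ y⁻¹)⁻¹`
        have e1 : ⁅y, ρ⁆ = (ρ * y * ρ⁻¹ * y⁻¹)⁻¹ := by
          rw [commutatorElement_def]; group
        rw [e1]
        apply Subgroup.inv_mem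
        rw [Subgroup.mem_centralizer_iff]
        intro a ha
        exact (hmain a ha).symm
    apply hVne
    rw [Subgroup.commutator_eq_bot_iff_le_centralizer]
    have h1 : (⁅U, Q₁⁆ : Subgroup G) ≤ centralizer (Q₁ : Set G) := by
      intro a ha
      rw [Subgroup.mem_centralizer_iff]
      intro y hy
      have := (Subgroup.mem_centralizer_iff.mp (hQcV hy)) a ha
      exact this.symm
    have h2 : (⁅U, Q₁⁆ : Subgroup G) = ⊥ := by
      rw [← hVQ]; exact (inf_eq_left.mpr h1).symm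
    rw [Subgroup.commutator_eq_bot_iff_le_centralizer] at h2
    exact h2
  · -- a nontrivial element of `V ∩ C(R)`
    obtain ⟨⟨v, hv⟩, hv1⟩ := Subgroup.ne_bot_iff_exists_ne_one.mp hVR
    have hv1' : v ≠ 1 := fun h => hv1 (Subtype.ext h)
    have hvC : v ∈ T ⊓ centralizer (R : Set G) := ⟨hUT (hVU hv.1), hv.2⟩
    have hxC : x₀ ∈ T ⊓ centralizer (R : Set G) := ⟨hx₀, hx₀R⟩
    obtain ⟨w, hw1, hwv, hwx⟩ := exists_common_pow88 hcR (hT.to_le inf_le_left) hvC hxC hv1' hx₀1
    have hwV : w ∈ (⁅U, Q₁⁆ : Subgroup G) := (Subgroup.zpowers_le.mpr hv.1) hwv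
    have hwQ : w ∈ centralizer (Q₁ : Set G) := (Subgroup.zpowers_le.mpr hx₀Q) hwx
    have : w ∈ (⁅U, Q₁⁆ : Subgroup G) ⊓ centralizer (Q₁ : Set G) := ⟨hwV, hwQ⟩
    rw [hVQ] at this
    exact hw1 (Subgroup.mem_bot.mp this)

end Cfsg.Agent.Helper88
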