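import Mathlib
import Cfsg.Prelude.Def_CaseTheorems

/-!
# CALL S1382 (helper1), piece RK1 (helper88): a cyclic Hall subgroup of order divisible by `r`
forces `r`-rank at most 1.
-/

set_option autoImplicit false

namespace Cfsg.Agent.Helper88

open Cfsg Subgroup
open scoped Pointwise

universe u

variable {G : Type u} [Group G] [Finite G]

/-- RK1 (pure). If a cyclic Hall subgroup `W` has order divisible by the prime `r`, the group has
`r`-rank at most 1. -/
theorem bg16c_prank_one {Γ : Type u} [Group Γ] [Finite Γ] {W : Subgroup Γ} (hW : IsCyclic ↥W)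
    (hhall : (Nat.card W).Coprime W.index) {r : ℕ} (hr : r.Prime) (hrW : r ∣ Nat.card W) :
    PRankLE r 1 Γ := by
  intro A hAc hAr
  have hfact : Fact r.Prime := ⟨hr⟩
  have hAp : IsPGroup r A := fun a => ⟨1, by
    apply Subtype.ext
    simpa using hAr a.1 a.2⟩
  obtain ⟨P, hAP⟩ := hAp.exists_le_sylow
  obtain ⟨Pw⟩ : Nonempty (Sylow r W) := inferInstance
  have hnd : ¬ r ∣ W.index := by
    intro hd
    have h1 : r ∣ Nat.gcd (Nat.card W) W.index := Nat.dvd_gcd hrW hd
    rw [Nat.Coprime] at hhall
    rw [hhall] at h1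
    exact hr.one_lt.ne' (Nat.dvd_one.mp h1)
  have hcardS : Nat.card ((Pw : Subgroup W).map W.subtype) =
      r ^ (Nat.card Γ).factorization r := by
    rw [Subgroup.card_map_of_injective W.subtype_injective, Pw.card_eq_multiplicity]
    congr 1
    have h1 : Nat.card Γ = Nat.card W * W.index := (Subgroup.card_mul_index W).symm
    rw [h1, Nat.factorization_mul Nat.card_pos.ne' Subgroup.index_ne_zero_of_finite,
      Finsupp.add_apply, Nat.factorization_eq_zero_of_not_dvd hnd, add_zero]
  obtain ⟨g, hg⟩ := MulAction.exists_smul_eq Γ (Sylow.ofCard _ hcardS) P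
  have hScyc : IsCyclic ((Pw : Subgroup W).map W.subtype) :=
    isCyclic_of_injective (Subgroup.inclusion (Subgroup.map_subtype_le _))
      (Subgroup.inclusion_injective _)
  have hPeq : (P : Subgroup Γ) = MulAut.conj g • ((Pw : Subgroup W).map W.subtype) := by
    rw [← hg]
    rfl
  have hPcyc : IsCyclic (P : Subgroup Γ) := by
    rw [hPeq]
    exact isCyclic_of_surjective _
      (Subgroup.equivSMul (MulAut.conj g) ((Pw : Subgroup W).map W.subtype)).surjective
  have hAcyc : IsCyclic A :=
    isCyclic_of_injective (Subgroup.inclusion hAP) (Subgroup.inclusion_injective hAP)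
  obtain ⟨b, hb⟩ := hAcyc.exists_generator
  have hcard : Nat.card A = orderOf b := (orderOf_eq_card_of_forall_mem_zpowers hb).symm
  have hbr : b ^ r = 1 := by
    apply Subtype.ext
    simpa using hAr b.1 b.2
  rw [hcard, pow_one]
  exact Nat.le_of_dvd hr.pos (orderOf_dvd_of_pow_eq_one hbr)

end Cfsg.Agent.Helper88
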