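import Mathlib
import Cfsg.Prelude.Def_OddOrderLocal

/-! Piece FHa of CALL BGC (doubled): a normal nilpotent Hall subgroup of a maximal subgroup of a
minimal simple group is a `σ`-group. -/

set_option autoImplicit false

namespace Cfsg.Agent.Helper88

open Cfsg Subgroup

universe u

/-- In a finite group `N` with a normal nilpotent Hall subgroup `K`, every prime divisor `p` of
`|K|` has a normal Sylow `p`-subgroup of `N`. -/
theorem exists_normal_sylow_of_nilpotent_hall88 {N : Type u} [Group N] [Finite N]
    (K : Subgroup N) [hKn : K.Normal] (hnil : Group.IsNilpotent K)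
    (hcop : (Nat.card K).Coprime K.index) {p : ℕ} (hp : p.Prime) (hpK : p ∣ Nat.card K) :
    ∃ P : Sylow p N, (P : Subgroup N).Normal := by
  have : Fact p.Prime := ⟨hp⟩
  obtain Q : Sylow p K := default
  have htfae : Group.IsNilpotent K ↔
      ∀ (p : ℕ) (_hp : Fact p.Prime) (P : Sylow p K), (P : Subgroup K).Normal :=
    (Group.isNilpotent_of_finite_tfae (G := K)).out 0 3
  have hQn : (Q : Subgroup K).Normal := htfae.mp hnil p ⟨hp⟩ Q
  have hQc : (Q : Subgroup K).Characteristic := Q.characteristic_of_normal hQn
  have hQ'n : ((Q : Subgroup K).map K.subtype).Normal := inferInstance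
  have hcard : Nat.card ↥((Q : Subgroup K).map K.subtype) =
      p ^ (Nat.card N).factorization p := by
    rw [Subgroup.card_map_of_injective K.subtype_injective, Sylow.card_eq_multiplicity]
    congr 1
    have h1 : Nat.card N = Nat.card K * K.index := (Subgroup.card_mul_index K).symm
    have hpi : ¬ p ∣ K.index := fun h =>
      hp.one_lt.ne' (Nat.eq_one_of_dvd_coprimes hcop hpK h)
    have hK0 : Nat.card K ≠ 0 := Nat.card_pos.ne'
    have hi0 : K.index ≠ 0 := Subgroup.index_ne_zero_of_finite
    rw [h1, Nat.factorization_mul hK0 hi0]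
    simp [Nat.factorization_eq_zero_of_not_dvd hpi]
  refine ⟨Sylow.ofCard _ hcard, ?_⟩
  rw [Sylow.coe_ofCard]
  exact hQ'n

variable {G : Type u} [Group G] [Finite G]

theorem bgc_fittingHall_le (hG : IsMinSimpleOddOrder G) {N : Subgroup G} (hN : IsCoatom N) :
    fittingHallOf N ≤ sigmaCore N := by
  unfold fittingHallOf sigmaCore
  apply Subgroup.map_mono
  unfold fittingHall
  apply sSup_le
  rintro K ⟨hKn, hKnil, hKcop⟩
  unfold piCore
  apply le_sSup
  refine ⟨hKn, fun p hp hpK => ?_⟩
  have := hKn
  obtain ⟨P, hPn⟩ := exists_normal_sylow_of_nilpotent_hall88 K hKnil hKcop hp hpK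
  have hpN : p ∣ Nat.card N := hpK.trans (Subgroup.card_subgroup_dvd_card K)
  refine ⟨hp, hpN, P, ?_⟩
  have hNle : N ≤ normalizer ((((P : Subgroup N).map N.subtype : Subgroup G)) : Set G) := by
    have h1 := Subgroup.le_normalizer_map (H := (P : Subgroup N)) N.subtype
    rw [Subgroup.normalizer_eq_top_iff.mpr hPn] at h1
    have h2 : (⊤ : Subgroup N).map N.subtype = N := by
      rw [← MonoidHom.range_eq_map, Subgroup.range_subtype]
    rw [h2] at h1
    exact h1
  rcases hN.le_iff.mp hNle with htop | heq
  · exfalso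
    have hP'n : ((P : Subgroup N).map N.subtype).Normal := Subgroup.normalizer_eq_top_iff.mp htop
    have : IsSimpleGroup G := hG.2.1
    rcases hP'n.eq_bot_or_eq_top with hb | ht
    · have : Fact p.Prime := ⟨hp⟩
      have hPne : (P : Subgroup N) ≠ ⊥ := Sylow.ne_bot_of_dvd_card P hpN
      apply hPne
      rw [Subgroup.map_eq_bot_iff_of_injective _ N.subtype_injective] at hb
      exact hb
    · have hle : (P : Subgroup N).map N.subtype ≤ N := Subgroup.map_subtype_le _
      rw [ht] at hle
      exact hN.1 (top_le_iff.mp hle)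
  · exact heq.le

end Cfsg.Agent.Helper88
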