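import Cfsg.Agent.Helper88.FusionNormalCrit
import Cfsg.Agent.Helper88.FusionNormal

/-!
# `C_R(V)` is centric for `V` abelian normal in `F` and `R` centric radical (helper88)
-/

set_option autoImplicit false

namespace Cfsg.Agent.Helper88

open Cfsg Cfsg.FusionSystem

variable {Ω : Type*} [Group Ω] {S : Subgroup Ω}

/-- In a radical subgroup `R`, a normal `p`-subgroup of `Aut_F(R)` consists of inner automorphisms. -/
theorem inner_of_radical {p : ℕ} [Fact p.Prime] {F : FusionSystem S} {R : Subgroup Ω}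
    (hRr : F.IsRadical p R) (U : Subgroup (MulAut R)) (hUle : U ≤ F.autGroup R)
    (hUn : ∀ α ∈ F.autGroup R, ∀ γ ∈ U, α * γ * α⁻¹ ∈ U) (hUp : ∀ γ ∈ U, ∃ k : ℕ, γ ^ p ^ k = 1)
    {γ : MulAut R} (hγ : γ ∈ U) : ∃ x ∈ R, ∀ y ∈ R, autFun γ y = x * y * x⁻¹ := by
  have hN : (U.subgroupOf (F.autGroup R)).Normal := ⟨fun n hn a => by
    rw [Subgroup.mem_subgroupOf] at hn ⊢
    exact hUn a a.2 n hn⟩
  have hp : IsPGroup p (U.subgroupOf (F.autGroup R)) := by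
    rintro ⟨n, hn⟩
    obtain ⟨k, hk⟩ := hUp n (Subgroup.mem_subgroupOf.mp hn)
    refine ⟨k, ?_⟩
    apply Subtype.ext
    apply Subtype.ext
    simpa using hk
  have h2 : U.subgroupOf (F.autGroup R) ≤ pCore p (F.autGroup R) := le_sSup ⟨hN, hp⟩
  have h3 : γ ∈ (pCore p (F.autGroup R)).map (F.autGroup R).subtype :=
    ⟨⟨γ, hUle hγ⟩, h2 (Subgroup.mem_subgroupOf.mpr hγ), rfl⟩
  rw [hRr.2] at h3
  exact (mem_inn_iff γ).mp h3

theorem mulAut_pow_apply_of_fixed {R : Type*} [Group R] (k : MulAut R) {x : R}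
    (h : k (x⁻¹ * k x) = x⁻¹ * k x) (j : ℕ) : (k ^ j) x = x * (x⁻¹ * k x) ^ j := by
  induction j with
  | zero => simp
  | succ j ih =>
    rw [pow_succ', MulAut.mul_apply, ih, map_mul, map_pow, h, pow_succ', ← mul_assoc,
      mul_inv_cancel_left]

/-- For `V` abelian and normal in the saturated system `F` and `R ≥ V` centric and radical, the subgroup
`C_R(V)` is centric. -/
theorem isCentric_inf_centralizer [Finite S] {p : ℕ} [Fact p.Prime] (hS : IsPGroup p S)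
    {F : FusionSystem S} (hF : F.IsSaturated p) {V R : Subgroup Ω} (hV : F.IsNormal V)
    (hVab : ∀ a ∈ V, ∀ b ∈ V, a * b = b * a) (hRc : F.IsCentric R) (hRr : F.IsRadical p R)
    (hVR : V ≤ R) : F.IsCentric (R ⊓ Subgroup.centralizer (V : Set Ω)) := by
  have hRS := hRc.1
  have hsc := stronglyClosed_of_isNormal hV
  have hRfin : Finite R := finite_of_le hRS
  have hRp : IsPGroup p R := hS.to_le hRS
  have hMR : R ⊓ Subgroup.centralizer (V : Set Ω) ≤ R := inf_le_left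
  have hMS : R ⊓ Subgroup.centralizer (V : Set Ω) ≤ S := hMR.trans hRS
  have hmemM : ∀ x, x ∈ R ⊓ Subgroup.centralizer (V : Set Ω) ↔ x ∈ R ∧ ∀ v ∈ V, v * x = x * v := by
    intro x
    rw [Subgroup.mem_inf, Subgroup.mem_centralizer_iff]
    rfl
  have hVM : V ≤ R ⊓ Subgroup.centralizer (V : Set Ω) :=
    fun v hv => (hmemM v).mpr ⟨hVR hv, fun w hw => hVab w hw v hv⟩
  have hconjV : ∀ s ∈ S, ∀ v ∈ V, s * v * s⁻¹ ∈ V := fun s hs v hv => stronglyClosed_conj_mem hsc hs hv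
  have hMnorm : ∀ r ∈ R, ∀ x ∈ R ⊓ Subgroup.centralizer (V : Set Ω),
      r * x * r⁻¹ ∈ R ⊓ Subgroup.centralizer (V : Set Ω) := by
    intro r hr x hx
    rw [hmemM] at hx ⊢
    refine ⟨R.mul_mem (R.mul_mem hr hx.1) (R.inv_mem hr), fun v hv => ?_⟩
    have h1 : r⁻¹ * v * r ∈ V := by simpa using hconjV r⁻¹ (S.inv_mem (hRS hr)) v hv
    have h2 := hx.2 _ h1
    calc v * (r * x * r⁻¹) = r * ((r⁻¹ * v * r) * x) * r⁻¹ := by group
      _ = r * (x * (r⁻¹ * v * r)) * r⁻¹ := by rw [h2]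
      _ = r * x * r⁻¹ * v := by group
  have hRN : R ≤ normalizerIn S (R ⊓ Subgroup.centralizer (V : Set Ω)) := by
    intro r hr
    refine mem_normalizerIn_iff.mpr ⟨hRS hr, ?_⟩
    rw [Subgroup.mem_normalizer_iff]
    intro x
    constructor
    · exact hMnorm r hr x
    · intro hx
      have := hMnorm r⁻¹ (R.inv_mem hr) _ hx
      simpa [mul_assoc] using this
  have hMN : R ⊓ Subgroup.centralizer (V : Set Ω) ≤
      normalizerIn S (R ⊓ Subgroup.centralizer (V : Set Ω)) := hMR.trans hRN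
  obtain ⟨Ms, hconj, hMsa, hMsr⟩ := hF _ hMS
  obtain ⟨θ, hθ, hθM⟩ := exists_normalizer_map hS hMsa hMsr hconj
  apply isCentric_of_receptive hMsr hconj
  have hθR : IsMap F R θ := hθ.restrict hRN
  have hθMm : IsMap F (R ⊓ Subgroup.centralizer (V : Set Ω)) θ := hθ.restrict hMN
  have hRsc : F.IsCentric (img R θ) := isCentric_of_isConj hRc hθR.isConj
  have hRsS : img R θ ≤ S := hRsc.1
  obtain ⟨θi, hθi, hθi1, hθi2, -⟩ := hθR.exists_inv
  -- invariance of `V` and `M` under `Aut_F(R)`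
  have hVinv : ∀ β ∈ F.autGroup R, ∀ v : R, (v : Ω) ∈ V → ((β v : R) : Ω) ∈ V := by
    intro β hβ v hv
    have h1 : IsMap F V (autFun β) := (IsMap.of_mem_autGroup hRS hβ).restrict hVR
    have := isNormal_mapsTo hV h1 le_rfl v hv
    rwa [autFun_apply] at this
  have hMinv : ∀ β ∈ F.autGroup R, ∀ x : R, (x : Ω) ∈ R ⊓ Subgroup.centralizer (V : Set Ω) →
      ((β x : R) : Ω) ∈ R ⊓ Subgroup.centralizer (V : Set Ω) := by
    intro β hβ x hx
    rw [hmemM] at hx ⊢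
    refine ⟨(β x).2, fun v hv => ?_⟩
    have hv' := hVinv β⁻¹ (inv_mem hβ) ⟨v, hVR hv⟩ hv
    have h1 := hx.2 _ hv'
    have h2 : (β⁻¹ ⟨v, hVR hv⟩) * x = x * (β⁻¹ ⟨v, hVR hv⟩) := Subtype.ext h1
    have h3 := congrArg (fun t => ((β t : R) : Ω)) h2
    simp only [map_mul, MulAut.apply_inv_self, Subgroup.coe_mul] at h3
    exact h3
  -- the normal `p`-subgroup of automorphisms fixing `M` elementwise
  let U : Subgroup (MulAut R) :=
    { carrier := {γ | γ ∈ F.autGroup R ∧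
        ∀ x : R, (x : Ω) ∈ R ⊓ Subgroup.centralizer (V : Set Ω) → γ x = x}
      one_mem' := ⟨Subgroup.one_mem _, fun _ _ => rfl⟩
      mul_mem' := fun {a b} ha hb => ⟨Subgroup.mul_mem _ ha.1 hb.1, fun x hx => by
        rw [MulAut.mul_apply, hb.2 x hx, ha.2 x hx]⟩
      inv_mem' := fun {a} ha => ⟨Subgroup.inv_mem _ ha.1, fun x hx => by
        conv_lhs => rw [← ha.2 x hx]
        exact MulAut.inv_apply_self _ _ _⟩ }
  have hUle : U ≤ F.autGroup R := fun γ hγ => hγ.1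
  have hUn : ∀ α ∈ F.autGroup R, ∀ γ ∈ U, α * γ * α⁻¹ ∈ U := by
    intro α hα γ hγ
    refine ⟨Subgroup.mul_mem _ (Subgroup.mul_mem _ hα hγ.1) (Subgroup.inv_mem _ hα), fun x hx => ?_⟩
    rw [MulAut.mul_apply, MulAut.mul_apply, hγ.2 _ (hMinv α⁻¹ (inv_mem hα) x hx),
      MulAut.apply_inv_self]
  have hUp : ∀ γ ∈ U, ∃ k : ℕ, γ ^ p ^ k = 1 := by
    intro γ hγ
    obtain ⟨n, hn⟩ := IsPGroup.iff_card.mp hRp
    refine ⟨n, ?_⟩
    ext r
    have hc : ((r⁻¹ * γ r : R) : Ω) ∈ R ⊓ Subgroup.centralizer (V : Set Ω) := by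
      rw [hmemM]
      refine ⟨(r⁻¹ * γ r).2, fun v hv => ?_⟩
      -- `γ` fixes `V` elementwise and `r v r⁻¹ ∈ V`
      have h1 : (r : Ω) * v * (r : Ω)⁻¹ ∈ V := hconjV r (hRS r.2) v hv
      have h2 := hγ.2 ⟨(r : Ω) * v * (r : Ω)⁻¹, hVR h1⟩ (hVM h1)
      have h3 := hγ.2 ⟨v, hVR hv⟩ (hVM hv)
      have e : (⟨(r : Ω) * v * (r : Ω)⁻¹, hVR h1⟩ : R) = r * ⟨v, hVR hv⟩ * r⁻¹ := Subtype.ext rfl
      rw [e, map_mul, map_mul, map_inv, h3] at h2
      have h4 := congrArg (Subtype.val) h2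
      simp only [Subgroup.coe_mul, Subgroup.coe_inv] at h4
      -- h4 : γ r * v * (γ r)⁻¹ = r * v * r⁻¹
      simp only [Subgroup.coe_mul, Subgroup.coe_inv]
      calc v * ((r : Ω)⁻¹ * (γ r : R)) = (r : Ω)⁻¹ * ((r : Ω) * v * (r : Ω)⁻¹) * (γ r : R) := by group
        _ = (r : Ω)⁻¹ * ((γ r : R) * v * ((γ r : R) : Ω)⁻¹) * (γ r : R) := by rw [h4]
        _ = (r : Ω)⁻¹ * (γ r : R) * v := by group
    have h5 := mulAut_pow_apply_of_fixed γ (hγ.2 _ hc) (p ^ n)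
    rw [h5, ← hn, pow_card_eq_one', mul_one]
    rfl
  -- (2) elements of `N_S(R*)` centralizing `M*` lie in `R*`
  have step2 : ∀ t ∈ S, t ∈ Subgroup.normalizer (img R θ : Set Ω) → (∀ x ∈ Ms, t * x * t⁻¹ = x) →
      t ∈ img R θ := by
    intro t ht htN hfix
    have hc : IsMap F (img R θ) (fun x => t * x * t⁻¹) := isMap_conj F hRsS ht
    have hcR : ∀ x ∈ img R θ, t * x * t⁻¹ ∈ img R θ :=
      fun x hx => (Subgroup.mem_normalizer_iff.mp htN x).mp hx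
    have hβ : IsMap F R (θi ∘ ((fun x => t * x * t⁻¹) ∘ θ)) :=
      (hθR.comp hc (fun x hx => hθR.apply_mem_img hx)).comp hθi
        (fun x hx => hcR _ (hθR.apply_mem_img hx))
    have hβR : ∀ x ∈ R, (θi ∘ ((fun x => t * x * t⁻¹) ∘ θ)) x ∈ R :=
      fun x hx => (hθi2 _ (hcR _ (hθR.apply_mem_img hx))).1
    obtain ⟨γ, hγ, hγβ⟩ := hβ.exists_aut (hβ.img_eq_of_mapsTo hβR)
    have hγU : γ ∈ U := by
      refine ⟨hγ, fun x hx => ?_⟩
      apply Subtype.ext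
      rw [← autFun_apply, hγβ _ x.2]
      show θi (t * θ x * t⁻¹) = x
      have h1 : θ x ∈ Ms := by rw [← hθM]; exact hθMm.apply_mem_img hx
      rw [hfix _ h1]
      exact hθi1 _ x.2
    obtain ⟨x₀, hx₀, hγx⟩ := inner_of_radical hRr U hUle hUn hUp hγU
    have key : ∀ r ∈ R, t * θ r * t⁻¹ = θ x₀ * θ r * (θ x₀)⁻¹ := by
      intro r hr
      have h1 : θi (t * θ r * t⁻¹) = x₀ * r * x₀⁻¹ := by
        rw [← hγx r hr, hγβ r hr]; rfl
      have h2 := (hθi2 _ (hcR _ (hθR.apply_mem_img hr))).2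
      rw [h1] at h2
      rw [← h2, hθR.map_mul (R.mul_mem hx₀ hr) (R.inv_mem hx₀), hθR.map_mul hx₀ hr, hθR.map_inv hx₀]
    have hcz : (θ x₀)⁻¹ * t ∈ centralizerIn S (img R θ) := by
      refine mem_centralizerIn_iff.mpr ⟨S.mul_mem (S.inv_mem (hθR.mem hx₀)) ht, fun y hy => ?_⟩
      obtain ⟨r, hr, rfl⟩ := hθR.mem_img.mp hy
      have e := key r hr
      calc θ r * ((θ x₀)⁻¹ * t) = (θ x₀)⁻¹ * (θ x₀ * θ r * (θ x₀)⁻¹) * t := by group
        _ = (θ x₀)⁻¹ * (t * θ r * t⁻¹) * t := by rw [e]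
        _ = (θ x₀)⁻¹ * t * θ r := by group
    have h6 := centralizerIn_le_of_isCentric hRsc hcz
    have e : t = θ x₀ * ((θ x₀)⁻¹ * t) := by group
    rw [e]
    exact Subgroup.mul_mem _ (hθR.apply_mem_img hx₀) h6
  -- `R*` normalizes `M*`
  have hMsnorm : ∀ r ∈ img R θ, ∀ x ∈ Ms, r * x * r⁻¹ ∈ Ms := by
    intro r hr x hx
    obtain ⟨r', hr', rfl⟩ := hθR.mem_img.mp hr
    rw [← hθM] at hx ⊢
    obtain ⟨m, hm, rfl⟩ := hθMm.mem_img.mp hx
    have e : θ r' * θ m * (θ r')⁻¹ = θ (r' * m * r'⁻¹) := by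
      rw [hθR.map_mul (R.mul_mem hr' (hMR hm)) (R.inv_mem hr'), hθR.map_mul hr' (hMR hm),
        hθR.map_inv hr']
    rw [e]
    exact hθMm.apply_mem_img (hMnorm r' hr' m hm)
  intro c hc
  have hcS : c ∈ S := (mem_centralizerIn_iff.mp hc).1
  -- (3) `c ∈ R*`
  have hcR : c ∈ img R θ := by
    by_contra hcR
    have hQS : img R θ ⊔ centralizerIn S Ms ≤ S := sup_le hRsS inf_le_left
    have hQfin : Finite ↥(img R θ ⊔ centralizerIn S Ms) := finite_of_le hQS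
    have hQp : IsPGroup p ↥(img R θ ⊔ centralizerIn S Ms) := hS.to_le hQS
    have hne : img R θ ≠ img R θ ⊔ centralizerIn S Ms := by
      intro h
      apply hcR
      rw [h]
      exact Subgroup.mem_sup_right hc
    obtain ⟨t, htQ, htN, htR⟩ := exists_normalizer_of_lt hQp le_sup_left hne
    have hact : ∀ t ∈ img R θ ⊔ centralizerIn S Ms,
        ∃ r₀ ∈ img R θ, ∀ x ∈ Ms, t * x * t⁻¹ = r₀ * x * r₀⁻¹ := by
      intro t ht
      rw [Subgroup.sup_eq_closure] at ht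
      induction ht using Subgroup.closure_induction with
      | mem t ht =>
        rcases ht with ht | ht
        · exact ⟨t, ht, fun _ _ => rfl⟩
        · refine ⟨1, Subgroup.one_mem _, fun x hx => ?_⟩
          have h1 := (mem_centralizerIn_iff.mp ht).2 x hx
          calc t * x * t⁻¹ = x * t * t⁻¹ := by rw [h1]
            _ = 1 * x * 1⁻¹ := by group
      | one => exact ⟨1, Subgroup.one_mem _, fun x _ => rfl⟩
      | mul a b _ _ iha ihb =>
        obtain ⟨ra, hra, ha⟩ := iha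
        obtain ⟨rb, hrb, hb⟩ := ihb
        refine ⟨ra * rb, Subgroup.mul_mem _ hra hrb, fun x hx => ?_⟩
        have h1 : rb * x * rb⁻¹ ∈ Ms := hMsnorm rb hrb x hx
        calc a * b * x * (a * b)⁻¹ = a * (b * x * b⁻¹) * a⁻¹ := by group
          _ = a * (rb * x * rb⁻¹) * a⁻¹ := by rw [hb x hx]
          _ = ra * (rb * x * rb⁻¹) * ra⁻¹ := ha _ h1
          _ = ra * rb * x * (ra * rb)⁻¹ := by group
      | inv a _ iha =>
        obtain ⟨ra, hra, ha⟩ := iha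
        refine ⟨ra⁻¹, Subgroup.inv_mem _ hra, fun x hx => ?_⟩
        have h1 : ra⁻¹ * x * ra⁻¹⁻¹ ∈ Ms := hMsnorm ra⁻¹ (Subgroup.inv_mem _ hra) x hx
        have h2 := ha _ h1
        have h3 : a * (ra⁻¹ * x * ra⁻¹⁻¹) * a⁻¹ = x := by rw [h2]; group
        calc a⁻¹ * x * a⁻¹⁻¹ = a⁻¹ * (a * (ra⁻¹ * x * ra⁻¹⁻¹) * a⁻¹) * a := by rw [h3]; group
          _ = ra⁻¹ * x * ra⁻¹⁻¹ := by group
    obtain ⟨r₀, hr₀, hact₀⟩ := hact t htQ
    have h1 : r₀⁻¹ * t ∈ img R θ := by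
      apply step2 _ (S.mul_mem (S.inv_mem (hRsS hr₀)) (hQS htQ))
      · exact Subgroup.mul_mem _ (Subgroup.inv_mem _ (Subgroup.le_normalizer hr₀)) htN
      · intro x hx
        calc r₀⁻¹ * t * x * (r₀⁻¹ * t)⁻¹ = r₀⁻¹ * (t * x * t⁻¹) * r₀ := by group
          _ = r₀⁻¹ * (r₀ * x * r₀⁻¹) * r₀ := by rw [hact₀ x hx]
          _ = x := by group
    apply htR
    have e : t = r₀ * (r₀⁻¹ * t) := by group
    rw [e]
    exact Subgroup.mul_mem _ hr₀ h1
  -- (4) `c ∈ M*`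
  obtain ⟨r, hr, rfl⟩ := hθR.mem_img.mp hcR
  rw [← hθM]
  apply hθMm.apply_mem_img
  rw [hmemM]
  refine ⟨hr, fun v hv => ?_⟩
  have h1 : θ v ∈ Ms := by rw [← hθM]; exact hθMm.apply_mem_img (hVM hv)
  have h2 := (mem_centralizerIn_iff.mp hc).2 _ h1
  apply hθR.inj (R.mul_mem (hVR hv) hr) (R.mul_mem hr (hVR hv))
  rw [hθR.map_mul (hVR hv) hr, hθR.map_mul hr (hVR hv)]
  exact h2

end Cfsg.Agent.Helper88
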