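import Mathlib
import Cfsg.Agent.Helper48.M11UGeo

/-! Piece N0I of CALL S0420 (doubled): the only involution normalising two Sylow 3-subgroups
inverted by `z` is `z`. -/

set_option autoImplicit false
open scoped Pointwise

namespace Cfsg.Agent.Helper88
open Cfsg.Agent.Helper48.M11U

universe u
variable {G : Type u} [Group G] [Finite G]

theorem m11u_n0inv (h : M11L1 G)
    (hJ4 : ∀ z : G, orderOf z = 2 → ∀ J : Finset G,
      (∀ j ∈ J, j ∈ n0 z ∧ orderOf j = 2 ∧ j ≠ z) → J.card ≤ 4)
    (hJ3 : ∀ z : G, orderOf z = 2 → ∀ J : Finset G,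
      (∀ j, j ∈ J ↔ (j ∈ n0 z ∧ orderOf j = 2 ∧ j ≠ z)) → 3 ∣ J.card)
    (hJ2 : ∀ z : G, orderOf z = 2 → ∀ J : Finset G,
      (∀ j, j ∈ J ↔ (j ∈ n0 z ∧ orderOf j = 2 ∧ j ≠ z)) → 2 ∣ J.card)
    (z t : G) (R S : Sylow 3 G) (hz : orderOf z = 2) (ht : orderOf t = 2) (hne : R ≠ S)
    (h1 : Inv z R) (h2 : Inv z S) (h3 : t • R = R) (h4 : t • S = S) : t = z := by
  classical
  have hord : orderOf (t * z * t⁻¹) = 2 := by
    have h3' := MulEquiv.orderOf_eq (MulAut.conj t) z
    rw [MulAut.conj_apply] at h3'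
    rw [h3', hz]
  have hc1 : Inv (t * z * t⁻¹) R := by
    have := inv_conj h1 t
    rwa [h3] at this
  have hc2 : Inv (t * z * t⁻¹) S := by
    have := inv_conj h2 t
    rwa [h4] at this
  have hcz : z = t * z * t⁻¹ := h.uniq z (t * z * t⁻¹) R S hz hord hne h1 h2 hc1 hc2
  have hcomm : t * z = z * t := by
    calc t * z = (t * z * t⁻¹) * t := by group
      _ = z * t := by rw [← hcz]
  have htn : t ∈ n0 z := by
    rw [mem_n0]
    refine ⟨hcomm, fun P hP => ?_⟩
    have hP' : Inv z (t • P) := by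
      have := inv_conj hP t
      rwa [← hcz] at this
    by_contra hne'
    have htri := h.tri z hz
    have hPR : P ≠ R := fun e => hne' (by rw [e, h3])
    have hPS : P ≠ S := fun e => hne' (by rw [e, h4])
    have htPR : t • P ≠ R := fun e => hPR (by
      have : t • P = t • R := by rw [e, h3]
      exact smul_left_cancel t this)
    have htPS : t • P ≠ S := fun e => hPS (by
      have : t • P = t • S := by rw [e, h4]
      exact smul_left_cancel t this)
    have hsub : ({R, S, P, t • P} : Set (Sylow 3 G)) ⊆ {Q | Inv z Q} := by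
      intro Q hQ
      simp only [Set.mem_insert_iff, Set.mem_singleton_iff] at hQ
      rcases hQ with rfl | rfl | rfl | rfl
      exacts [h1, h2, hP, hP']
    have hcard4 : ({R, S, P, t • P} : Set (Sylow 3 G)).ncard = 4 := by
      rw [Set.ncard_insert_of_notMem, Set.ncard_insert_of_notMem, Set.ncard_pair (Ne.symm hne')]
      · simp only [Set.mem_insert_iff, Set.mem_singleton_iff, not_or]
        exact ⟨hPS.symm, htPS.symm⟩
      · simp only [Set.mem_insert_iff, Set.mem_singleton_iff, not_or]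
        exact ⟨hne, hPR.symm, htPR.symm⟩
    have hle := Set.ncard_le_ncard hsub (Set.toFinite _)
    rw [hcard4, ← Nat.card_coe_set_eq] at hle
    have htri' : Nat.card ↥{Q : Sylow 3 G | Inv z Q} = 3 := htri
    omega
  have := Fintype.ofFinite G
  let J : Finset G := Finset.univ.filter (fun j => j ∈ n0 z ∧ orderOf j = 2 ∧ j ≠ z)
  have hJm : ∀ j, j ∈ J ↔ (j ∈ n0 z ∧ orderOf j = 2 ∧ j ≠ z) := by
    intro j
    simp [J]
  have h4' := hJ4 z hz J (fun j hj => (hJm j).mp hj)
  have h3' := hJ3 z hz J hJm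
  have h2' := hJ2 z hz J hJm
  have h0 : J.card = 0 := by omega
  by_contra htz
  have hmem : t ∈ J := (hJm t).mpr ⟨htn, ht, htz⟩
  rw [Finset.card_eq_zero] at h0
  rw [h0] at hmem
  simp at hmem

end Cfsg.Agent.Helper88
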