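import Mathlib
import Cfsg.Prelude.Def_Sporadic_a
import Cfsg.Agent.Helper48.M11UDefs

/-!
# S0420 piece P2 (helper88, doubling helper86): a sharply 4-transitive group of degree 11
preserves a Steiner system `S(4,5,11)`.

For a 4-tuple `x : Fin 4 ↪ α` and `σ : Perm (Fin 4)` let `act x σ ∈ H` be the unique element
with `act x σ (x i) = x (σ i)`.  For the 3-cycle `ρ = (1 2 3)` the element `act x ρ` has order 3
and exactly two fixed points, `x 0` and `E x`.  `E` is invariant under reindexing of `x`, and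
exchanging `x 0` with `E x` does not change the block `insert (E x) (range x)`.
-/

set_option autoImplicit false
open scoped Pointwise
open Cfsg Cfsg.Agent.Helper48.M11U

namespace Cfsg.Agent.Helper88.M11P2

variable {α : Type*} [Fintype α] [DecidableEq α]

/-- reindexing of a 4-tuple -/
def reix (x : Fin 4 ↪ α) (π : Equiv.Perm (Fin 4)) : Fin 4 ↪ α := π.toEmbedding.trans x

theorem reix_apply (x : Fin 4 ↪ α) (π : Equiv.Perm (Fin 4)) (i : Fin 4) :
    reix x π i = x (π i) := rfl

theorem reix_one (x : Fin 4 ↪ α) : reix x 1 = x := by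
  ext i
  rfl

theorem reix_mul (x : Fin 4 ↪ α) (π π' : Equiv.Perm (Fin 4)) :
    reix x (π * π') = reix (reix x π) π' := by
  ext i
  rfl

/-- image of a 4-tuple under a permutation -/
def mv (k : Equiv.Perm α) (x : Fin 4 ↪ α) : Fin 4 ↪ α := x.trans k.toEmbedding

theorem mv_apply (k : Equiv.Perm α) (x : Fin 4 ↪ α) (i : Fin 4) : mv k x i = k (x i) := rfl

/-- the 3-cycle `1 → 2 → 3 → 1` -/
def rho : Equiv.Perm (Fin 4) := Equiv.swap 1 2 * Equiv.swap 2 3

theorem rho_zero : rho 0 = 0 := by decide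
theorem rho_cube : rho * rho * rho = 1 := by decide
theorem rho_ne_one : rho ≠ 1 := by decide
theorem rho_fix : ∀ i : Fin 4, rho i = i → i = 0 := by decide
theorem rho_ne_zero : ∀ i : Fin 4, i ≠ 0 → rho i ≠ 0 := by decide
theorem rho_conj12 :
    Equiv.swap (1 : Fin 4) 2 * rho * (Equiv.swap (1 : Fin 4) 2)⁻¹ = rho⁻¹ := by decide
theorem rho_conj23 :
    Equiv.swap (2 : Fin 4) 3 * rho * (Equiv.swap (2 : Fin 4) 3)⁻¹ = rho⁻¹ := by decide
theorem rho_comm23 : rho * Equiv.swap (2 : Fin 4) 3 = Equiv.swap (2 : Fin 4) 3 * rho⁻¹ := by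
  decide
theorem rho_comm01 : (Equiv.swap (0 : Fin 4) 1 * rho * (Equiv.swap (0 : Fin 4) 1)⁻¹)
    * Equiv.swap (2 : Fin 4) 3
    = Equiv.swap (2 : Fin 4) 3 * (Equiv.swap (0 : Fin 4) 1 * rho * (Equiv.swap (0 : Fin 4) 1)⁻¹)⁻¹ := by
  decide

theorem card_four {a b c d : α} (hab : a ≠ b) (hac : a ≠ c) (had : a ≠ d) (hbc : b ≠ c)
    (hbd : b ≠ d) (hcd : c ≠ d) : ({a, b, c, d} : Finset α).card = 4 := by
  rw [Finset.card_insert_of_notMem, Finset.card_insert_of_notMem, Finset.card_pair hcd]
  · simp [hbc, hbd]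
  · simp [hab, hac, had]

/-- the fixed points of a permutation -/
def fx (h : Equiv.Perm α) : Finset α := h.supportᶜ

theorem mem_fx {h : Equiv.Perm α} {p : α} : p ∈ fx h ↔ h p = p := by
  simp [fx]

section
variable {H : Subgroup (Equiv.Perm α)}

theorem sharp_unique (hH : Sharp4 H) (x : Fin 4 ↪ α) {h h' : Equiv.Perm α} (hh : h ∈ H)
    (hh' : h' ∈ H) (heq : ∀ i, h (x i) = h' (x i)) : h = h' := by
  have h1 : h'⁻¹ * h = 1 := hH.2 (h'⁻¹ * h) (H.mul_mem (H.inv_mem hh') hh) x (fun i => by
    rw [Equiv.Perm.mul_apply, heq i]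
    exact h'.symm_apply_apply (x i))
  exact (inv_mul_eq_one.mp h1).symm

theorem exists_act (hH : Sharp4 H) (x : Fin 4 ↪ α) (σ : Equiv.Perm (Fin 4)) :
    ∃ h ∈ H, ∀ i, h (x i) = x (σ i) := hH.1 x (reix x σ)

/-- the element of `H` acting as `σ` on the 4-tuple `x` -/
noncomputable def act (hH : Sharp4 H) (x : Fin 4 ↪ α) (σ : Equiv.Perm (Fin 4)) : Equiv.Perm α :=
  (exists_act hH x σ).choose

theorem act_mem (hH : Sharp4 H) (x : Fin 4 ↪ α) (σ : Equiv.Perm (Fin 4)) : act hH x σ ∈ H :=
  (exists_act hH x σ).choose_spec.1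

theorem act_apply (hH : Sharp4 H) (x : Fin 4 ↪ α) (σ : Equiv.Perm (Fin 4)) (i : Fin 4) :
    act hH x σ (x i) = x (σ i) :=
  (exists_act hH x σ).choose_spec.2 i

theorem act_unique (hH : Sharp4 H) (x : Fin 4 ↪ α) (σ : Equiv.Perm (Fin 4)) {h : Equiv.Perm α}
    (hh : h ∈ H) (h1 : ∀ i, h (x i) = x (σ i)) : h = act hH x σ :=
  sharp_unique hH x hh (act_mem hH x σ) (fun i => by rw [h1 i, act_apply])

theorem act_mul (hH : Sharp4 H) (x : Fin 4 ↪ α) (σ τ : Equiv.Perm (Fin 4)) :
    act hH x (σ * τ) = act hH x σ * act hH x τ :=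
  (act_unique hH x (σ * τ) (H.mul_mem (act_mem hH x σ) (act_mem hH x τ)) (fun i => by
    rw [Equiv.Perm.mul_apply, act_apply, act_apply, Equiv.Perm.mul_apply])).symm

theorem act_one (hH : Sharp4 H) (x : Fin 4 ↪ α) : act hH x 1 = 1 :=
  (act_unique hH x 1 H.one_mem (fun i => by simp)).symm

theorem act_inv (hH : Sharp4 H) (x : Fin 4 ↪ α) (σ : Equiv.Perm (Fin 4)) :
    act hH x σ⁻¹ = (act hH x σ)⁻¹ := by
  apply eq_inv_of_mul_eq_one_left
  rw [← act_mul, inv_mul_cancel, act_one]

theorem act_reix (hH : Sharp4 H) (x : Fin 4 ↪ α) (π σ : Equiv.Perm (Fin 4)) :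
    act hH (reix x π) σ = act hH x (π * σ * π⁻¹) :=
  (act_unique hH (reix x π) σ (act_mem hH x _) (fun i => by
    rw [reix_apply, act_apply, reix_apply]
    simp)).symm

theorem act_mv (hH : Sharp4 H) (x : Fin 4 ↪ α) (σ : Equiv.Perm (Fin 4)) {k : Equiv.Perm α}
    (hk : k ∈ H) : act hH (mv k x) σ = k * act hH x σ * k⁻¹ :=
  (act_unique hH (mv k x) σ (H.mul_mem (H.mul_mem hk (act_mem hH x σ)) (H.inv_mem hk))
    (fun i => by
      simp [mv_apply, act_apply])).symm

theorem act_ne_one (hH : Sharp4 H) (x : Fin 4 ↪ α) {σ : Equiv.Perm (Fin 4)} (hσ : σ ≠ 1) :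
    act hH x σ ≠ 1 := by
  intro h
  apply hσ
  apply Equiv.ext
  intro i
  have h1 := act_apply hH x σ i
  rw [h, Equiv.Perm.one_apply] at h1
  exact (x.injective h1).symm

theorem card_fx_le (hH : Sharp4 H) {h : Equiv.Perm α} (hh : h ∈ H) (h1 : h ≠ 1) :
    (fx h).card ≤ 3 := by
  by_contra hcon
  push Not at hcon
  obtain ⟨t, ht, htc⟩ := Finset.exists_subset_card_eq (show 4 ≤ (fx h).card by omega)
  let e : Fin 4 ≃ t := (Finset.equivFinOfCardEq htc).symm
  let x : Fin 4 ↪ α := e.toEmbedding.trans (Function.Embedding.subtype _)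
  apply h1
  apply hH.2 h hh x
  intro i
  exact mem_fx.mp (ht (e i).2)

theorem exists_E (hα : Fintype.card α = 11) (hH : Sharp4 H) (x : Fin 4 ↪ α) :
    ∃ e, e ≠ x 0 ∧ fx (act hH x rho) = {x 0, e} := by
  haveI : Fact (Nat.Prime 3) := ⟨by norm_num⟩
  have hX3 : act hH x rho ^ 3 ^ 1 = 1 := by
    rw [pow_one, pow_succ, pow_two, ← act_mul, ← act_mul, rho_cube, act_one]
  have hmod := Equiv.Perm.card_compl_support_modEq hX3
  have hle := card_fx_le hH (act_mem hH x rho) (act_ne_one hH x rho_ne_one)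
  have hcard : (fx (act hH x rho)).card = 2 := by
    unfold fx at hle ⊢
    rw [hα] at hmod
    unfold Nat.ModEq at hmod
    omega
  have h0 : x 0 ∈ fx (act hH x rho) := by
    rw [mem_fx, act_apply, rho_zero]
  obtain ⟨a, b, hab, heq⟩ := Finset.card_eq_two.mp hcard
  rw [heq] at h0 ⊢
  rcases Finset.mem_insert.mp h0 with h | h
  · exact ⟨b, by rw [h]; exact hab.symm, by rw [h]⟩
  · rw [Finset.mem_singleton] at h
    exact ⟨a, by rw [h]; exact hab, by rw [h, Finset.pair_comm]⟩

/-- the second fixed point of `act x ρ` -/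
noncomputable def E (hα : Fintype.card α = 11) (hH : Sharp4 H) (x : Fin 4 ↪ α) : α :=
  (exists_E hα hH x).choose

theorem E_ne (hα : Fintype.card α = 11) (hH : Sharp4 H) (x : Fin 4 ↪ α) : E hα hH x ≠ x 0 :=
  (exists_E hα hH x).choose_spec.1

theorem fx_eq (hα : Fintype.card α = 11) (hH : Sharp4 H) (x : Fin 4 ↪ α) :
    fx (act hH x rho) = {x 0, E hα hH x} :=
  (exists_E hα hH x).choose_spec.2

theorem E_fixed (hα : Fintype.card α = 11) (hH : Sharp4 H) (x : Fin 4 ↪ α) :
    act hH x rho (E hα hH x) = E hα hH x := by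
  rw [← mem_fx, fx_eq hα hH x]
  simp

theorem E_unique (hα : Fintype.card α = 11) (hH : Sharp4 H) (x : Fin 4 ↪ α) {e : α}
    (he : e ≠ x 0) (hfix : act hH x rho e = e) : e = E hα hH x := by
  have h1 : e ∈ fx (act hH x rho) := mem_fx.mpr hfix
  rw [fx_eq hα hH x] at h1
  rcases Finset.mem_insert.mp h1 with h | h
  · exact absurd h he
  · exact Finset.mem_singleton.mp h

theorem E_notin (hα : Fintype.card α = 11) (hH : Sharp4 H) (x : Fin 4 ↪ α) (i : Fin 4) :
    E hα hH x ≠ x i := by
  intro h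
  by_cases hi : i = 0
  · rw [hi] at h
    exact E_ne hα hH x h
  · have h1 := E_fixed hα hH x
    rw [h, act_apply] at h1
    exact hi (rho_fix i (x.injective h1))

theorem E_reix_of_conj (hα : Fintype.card α = 11) (hH : Sharp4 H) (x : Fin 4 ↪ α)
    (π : Equiv.Perm (Fin 4)) (h0 : π 0 = 0) (hc : π * rho * π⁻¹ = rho⁻¹) :
    E hα hH (reix x π) = E hα hH x := by
  apply E_unique hα hH x
  · have h1 := E_ne hα hH (reix x π)
    rwa [reix_apply, h0] at h1
  · have h1 := E_fixed hα hH (reix x π)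
    rw [act_reix, hc, act_inv] at h1
    exact (Equiv.Perm.inv_eq_iff_eq.mp h1).symm

theorem E_reix_swap01 (hα : Fintype.card α = 11) (hH : Sharp4 H) (x : Fin 4 ↪ α) :
    E hα hH (reix x (Equiv.swap 0 1)) = E hα hH x := by
  have hτ0 : act hH x (Equiv.swap 2 3) (x 0) = x 0 := by rw [act_apply]; rfl
  have hτ1 : act hH x (Equiv.swap 2 3) (x 1) = x 1 := by rw [act_apply]; rfl
  have hτ1' : act hH x (Equiv.swap 2 3) (reix x (Equiv.swap 0 1) 0) = reix x (Equiv.swap 0 1) 0 :=
    hτ1
  have hτne : act hH x (Equiv.swap 2 3) ≠ 1 := act_ne_one hH x (by decide)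
  -- `τ` fixes `E x`
  have hτe : act hH x (Equiv.swap 2 3) (E hα hH x) = E hα hH x := by
    apply E_unique hα hH x
    · intro h
      rw [← hτ0] at h
      exact E_ne hα hH x ((act hH x (Equiv.swap 2 3)).injective h)
    · have hconj : act hH x rho * act hH x (Equiv.swap 2 3)
          = act hH x (Equiv.swap 2 3) * (act hH x rho)⁻¹ := by
        rw [← act_inv, ← act_mul, ← act_mul, rho_comm23]
      have h1 := congrArg (fun f : Equiv.Perm α => f (E hα hH x)) hconj
      simp only [Equiv.Perm.mul_apply] at h1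
      rw [h1]
      congr 1
      exact Equiv.Perm.inv_eq_iff_eq.mpr (E_fixed hα hH x).symm
  -- `τ` fixes `E (reix x (swap 0 1))`
  have hτe' : act hH x (Equiv.swap 2 3) (E hα hH (reix x (Equiv.swap 0 1)))
      = E hα hH (reix x (Equiv.swap 0 1)) := by
    apply E_unique hα hH (reix x (Equiv.swap 0 1))
    · intro h
      rw [← hτ1'] at h
      exact E_ne hα hH (reix x (Equiv.swap 0 1)) ((act hH x (Equiv.swap 2 3)).injective h)
    · have hconj : act hH (reix x (Equiv.swap 0 1)) rho * act hH x (Equiv.swap 2 3)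
          = act hH x (Equiv.swap 2 3) * (act hH (reix x (Equiv.swap 0 1)) rho)⁻¹ := by
        rw [act_reix, ← act_inv, ← act_mul, ← act_mul, rho_comm01]
      have h1 := congrArg (fun f : Equiv.Perm α => f (E hα hH (reix x (Equiv.swap 0 1)))) hconj
      simp only [Equiv.Perm.mul_apply] at h1
      rw [h1]
      congr 1
      exact Equiv.Perm.inv_eq_iff_eq.mpr (E_fixed hα hH (reix x (Equiv.swap 0 1))).symm
  by_contra hne
  have hsub : ({x 0, x 1, E hα hH x, E hα hH (reix x (Equiv.swap 0 1))} : Finset α)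
      ⊆ fx (act hH x (Equiv.swap 2 3)) := by
    intro p hp
    simp only [Finset.mem_insert, Finset.mem_singleton] at hp
    rw [mem_fx]
    rcases hp with rfl | rfl | rfl | rfl
    · exact hτ0
    · exact hτ1
    · exact hτe
    · exact hτe'
  have hc4 := card_four (a := x 0) (b := x 1) (c := E hα hH x)
    (d := E hα hH (reix x (Equiv.swap 0 1)))
    (fun h => by have := x.injective h; exact absurd this (by decide))
    (fun h => E_notin hα hH x 0 h.symm)
    (fun h => E_notin hα hH (reix x (Equiv.swap 0 1)) 1 h.symm)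
    (fun h => E_notin hα hH x 1 h.symm)
    (fun h => E_notin hα hH (reix x (Equiv.swap 0 1)) 0 h.symm)
    (fun h => hne h.symm)
  have h1 := Finset.card_le_card hsub
  have h2 := card_fx_le hH (act_mem hH x (Equiv.swap 2 3)) hτne
  omega

theorem E_reix (hα : Fintype.card α = 11) (hH : Sharp4 H) (π : Equiv.Perm (Fin 4)) :
    ∀ x : Fin 4 ↪ α, E hα hH (reix x π) = E hα hH x := by
  have hmem : π ∈ Submonoid.closure (Set.range fun i : Fin 3 => Equiv.swap i.castSucc i.succ) := by
    rw [Equiv.Perm.mclosure_swap_castSucc_succ]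
    exact Submonoid.mem_top π
  induction hmem using Submonoid.closure_induction with
  | mem π hπ =>
    obtain ⟨i, rfl⟩ := hπ
    intro x
    fin_cases i
    · exact E_reix_swap01 hα hH x
    · exact E_reix_of_conj hα hH x _ (by decide) rho_conj12
    · exact E_reix_of_conj hα hH x _ (by decide) rho_conj23
  | one =>
    intro x
    rw [reix_one]
  | mul π π' _ _ ih ih' =>
    intro x
    rw [reix_mul, ih' (reix x π), ih x]

/-- the block of a 4-tuple -/
noncomputable def blk (hα : Fintype.card α = 11) (hH : Sharp4 H) (x : Fin 4 ↪ α) : Finset α :=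
  insert (E hα hH x) (Finset.univ.map x)

theorem mem_blk (hα : Fintype.card α = 11) (hH : Sharp4 H) (x : Fin 4 ↪ α) {p : α} :
    p ∈ blk hα hH x ↔ p = E hα hH x ∨ ∃ i, x i = p := by
  simp [blk]

theorem card_blk (hα : Fintype.card α = 11) (hH : Sharp4 H) (x : Fin 4 ↪ α) :
    (blk hα hH x).card = 5 := by
  rw [blk, Finset.card_insert_of_notMem, Finset.card_map, Finset.card_univ, Fintype.card_fin]
  simp only [Finset.mem_map, Finset.mem_univ, true_and, not_exists]
  intro i h
  exact E_notin hα hH x i h.symm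

theorem blk_reix (hα : Fintype.card α = 11) (hH : Sharp4 H) (x : Fin 4 ↪ α)
    (π : Equiv.Perm (Fin 4)) : blk hα hH (reix x π) = blk hα hH x := by
  ext p
  rw [mem_blk, mem_blk, E_reix]
  constructor
  · rintro (h | ⟨i, hi⟩)
    · exact Or.inl h
    · exact Or.inr ⟨π i, hi⟩
  · rintro (h | ⟨i, hi⟩)
    · exact Or.inl h
    · refine Or.inr ⟨π⁻¹ i, ?_⟩
      have h1 : π (π⁻¹ i) = i := π.apply_symm_apply i
      rw [reix_apply, h1]
      exact hi

/-- exchange `x 0` with `E x` -/
noncomputable def exch (hα : Fintype.card α = 11) (hH : Sharp4 H) (x : Fin 4 ↪ α) : Fin 4 ↪ α :=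
  ⟨fun i => if i = 0 then E hα hH x else x i, by
    intro i j hij
    by_cases hi : i = 0 <;> by_cases hj : j = 0
    · rw [hi, hj]
    · simp only [if_pos hi, if_neg hj] at hij
      exact absurd hij (E_notin hα hH x j)
    · simp only [if_neg hi, if_pos hj] at hij
      exact absurd hij.symm (E_notin hα hH x i)
    · simp only [if_neg hi, if_neg hj] at hij
      exact x.injective hij⟩

theorem exch_zero (hα : Fintype.card α = 11) (hH : Sharp4 H) (x : Fin 4 ↪ α) :
    exch hα hH x 0 = E hα hH x := by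
  show (if (0 : Fin 4) = 0 then E hα hH x else x 0) = E hα hH x
  exact if_pos rfl

theorem exch_of_ne (hα : Fintype.card α = 11) (hH : Sharp4 H) (x : Fin 4 ↪ α) {i : Fin 4}
    (hi : i ≠ 0) : exch hα hH x i = x i := if_neg hi

theorem act_exch (hα : Fintype.card α = 11) (hH : Sharp4 H) (x : Fin 4 ↪ α) :
    act hH (exch hα hH x) rho = act hH x rho := by
  symm
  apply act_unique hH (exch hα hH x) rho (act_mem hH x rho)
  intro i
  by_cases hi : i = 0
  · subst hi
    rw [rho_zero, exch_zero, E_fixed]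
  · rw [exch_of_ne hα hH x hi, exch_of_ne hα hH x (rho_ne_zero i hi), act_apply]

theorem E_exch (hα : Fintype.card α = 11) (hH : Sharp4 H) (x : Fin 4 ↪ α) :
    E hα hH (exch hα hH x) = x 0 := by
  symm
  apply E_unique hα hH (exch hα hH x)
  · rw [exch_zero]
    exact (E_ne hα hH x).symm
  · rw [act_exch, act_apply, rho_zero]

theorem blk_exch (hα : Fintype.card α = 11) (hH : Sharp4 H) (x : Fin 4 ↪ α) :
    blk hα hH (exch hα hH x) = blk hα hH x := by
  ext p
  rw [mem_blk, mem_blk, E_exch]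
  constructor
  · rintro (h | ⟨i, hi⟩)
    · exact Or.inr ⟨0, h.symm⟩
    · by_cases h0 : i = 0
      · subst h0
        rw [exch_zero] at hi
        exact Or.inl hi.symm
      · rw [exch_of_ne hα hH x h0] at hi
        exact Or.inr ⟨i, hi⟩
  · rintro (h | ⟨i, hi⟩)
    · exact Or.inr ⟨0, by rw [exch_zero]; exact h.symm⟩
    · by_cases h0 : i = 0
      · subst h0
        exact Or.inl hi.symm
      · exact Or.inr ⟨i, by rw [exch_of_ne hα hH x h0]; exact hi⟩

theorem E_mv (hα : Fintype.card α = 11) (hH : Sharp4 H) (x : Fin 4 ↪ α) {k : Equiv.Perm α}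
    (hk : k ∈ H) : E hα hH (mv k x) = k (E hα hH x) := by
  symm
  apply E_unique hα hH (mv k x)
  · rw [mv_apply]
    exact fun h => E_ne hα hH x (k.injective h)
  · rw [act_mv hH x rho hk]
    simp only [Equiv.Perm.mul_apply]
    have h1 : k⁻¹ (k (E hα hH x)) = E hα hH x := k.symm_apply_apply _
    rw [h1, E_fixed]

theorem blk_mv (hα : Fintype.card α = 11) (hH : Sharp4 H) (x : Fin 4 ↪ α) {k : Equiv.Perm α}
    (hk : k ∈ H) : blk hα hH (mv k x) = k • blk hα hH x := by
  ext p
  rw [mem_blk, E_mv hα hH x hk, Finset.mem_smul_finset]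
  constructor
  · rintro (h | ⟨i, hi⟩)
    · exact ⟨E hα hH x, (mem_blk hα hH x).mpr (Or.inl rfl), h.symm⟩
    · exact ⟨x i, (mem_blk hα hH x).mpr (Or.inr ⟨i, rfl⟩), hi⟩
  · rintro ⟨q, hq, rfl⟩
    rcases (mem_blk hα hH x).mp hq with h | ⟨i, hi⟩
    · left
      rw [h]
      rfl
    · right
      exact ⟨i, by rw [mv_apply, hi]; rfl⟩

theorem blk_eq_of_map_eq (hα : Fintype.card α = 11) (hH : Sharp4 H) (x y : Fin 4 ↪ α)
    (h : Finset.univ.map x = Finset.univ.map y) : blk hα hH y = blk hα hH x := by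
  have hex : ∀ i, ∃ j, x j = y i := by
    intro i
    have h1 : y i ∈ Finset.univ.map x := by
      rw [h]
      exact Finset.mem_map_of_mem y (Finset.mem_univ i)
    obtain ⟨j, -, hj⟩ := Finset.mem_map.mp h1
    exact ⟨j, hj⟩
  choose f hf using hex
  have hfinj : Function.Injective f := by
    intro i j hij
    apply y.injective
    rw [← hf i, ← hf j, hij]
  let π : Equiv.Perm (Fin 4) := Equiv.ofBijective f (Finite.injective_iff_bijective.mp hfinj)
  have hy : y = reix x π := by
    ext i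
    exact (hf i).symm
  rw [hy, blk_reix]

end

end Cfsg.Agent.Helper88.M11P2

namespace Cfsg.Agent.Helper88

open Cfsg.Agent.Helper88.M11P2

/-- PART II (pure permutation groups): a sharply 4-transitive group of degree 11 preserves a
Steiner system S(4,5,11). -/
theorem m11u_part2 {α : Type*} [Fintype α] [DecidableEq α] (hα : Fintype.card α = 11)
    (H : Subgroup (Equiv.Perm α)) (hH : Sharp4 H) :
    ∃ B : Set (Finset α), Cfsg.IsSteinerSystem 4 5 B ∧ H ≤ Cfsg.setSystemAut B := by
  refine ⟨Set.range (blk hα hH), ⟨?_, ?_⟩, ?_⟩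
  · rintro _ ⟨x, rfl⟩
    exact card_blk hα hH x
  · intro s hs
    let e : Fin 4 ≃ s := (Finset.equivFinOfCardEq hs).symm
    let x : Fin 4 ↪ α := e.toEmbedding.trans (Function.Embedding.subtype _)
    have hxs : Finset.univ.map x = s := by
      apply Finset.eq_of_subset_of_card_le
      · intro p hp
        obtain ⟨i, -, rfl⟩ := Finset.mem_map.mp hp
        exact (e i).2
      · rw [Finset.card_map, Finset.card_univ, Fintype.card_fin, hs]
    refine ⟨blk hα hH x, ⟨⟨x, rfl⟩, ?_⟩, ?_⟩
    · rw [← hxs]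
      intro p hp
      exact Finset.mem_insert_of_mem hp
    · rintro b ⟨⟨y, rfl⟩, hsy⟩
      by_cases hE : E hα hH y ∈ s
      · obtain ⟨i, hi⟩ : ∃ i, y i ∉ s := by
          by_contra hno
          push Not at hno
          have hsub : blk hα hH y ⊆ s := by
            intro p hp
            rcases (mem_blk hα hH y).mp hp with h | ⟨i, hi⟩
            · rw [h]
              exact hE
            · rw [← hi]
              exact hno i
          have h1 := Finset.card_le_card hsub
          rw [card_blk, hs] at h1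
          omega
        have hy₁0 : reix y (Equiv.swap 0 i) 0 ∉ s := by
          rw [reix_apply, Equiv.swap_apply_left]
          exact hi
        have hb₁ : blk hα hH (reix y (Equiv.swap 0 i)) = blk hα hH y := blk_reix hα hH y _
        have hb₂ : blk hα hH (exch hα hH (reix y (Equiv.swap 0 i)))
            = blk hα hH (reix y (Equiv.swap 0 i)) := blk_exch hα hH _
        have hsy₂ : s ⊆ Finset.univ.map (exch hα hH (reix y (Equiv.swap 0 i))) := by
          intro p hp
          have hp' := hsy hp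
          rw [← hb₁] at hp'
          rcases (mem_blk hα hH _).mp hp' with h | ⟨j, hj⟩
          · exact Finset.mem_map.mpr ⟨0, Finset.mem_univ _, by rw [exch_zero, h]⟩
          · have hj0 : j ≠ 0 := by
              rintro rfl
              rw [hj] at hy₁0
              exact hy₁0 hp
            exact Finset.mem_map.mpr ⟨j, Finset.mem_univ _, by rw [exch_of_ne hα hH _ hj0, hj]⟩
        have heq : s = Finset.univ.map (exch hα hH (reix y (Equiv.swap 0 i))) :=
          Finset.eq_of_subset_of_card_le hsy₂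
            (by rw [Finset.card_map, Finset.card_univ, Fintype.card_fin, hs])
        have h3 := blk_eq_of_map_eq hα hH x _ (hxs.trans heq)
        rw [← hb₁, ← hb₂, h3]
      · have hsy' : s ⊆ Finset.univ.map y := by
          intro p hp
          rcases Finset.mem_insert.mp (hsy hp) with h | h
          · exact absurd (h ▸ hp) hE
          · exact h
        have heq : s = Finset.univ.map y :=
          Finset.eq_of_subset_of_card_le hsy'
            (by rw [Finset.card_map, Finset.card_univ, Fintype.card_fin, hs])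
        exact blk_eq_of_map_eq hα hH x y (hxs.trans heq)
  · intro k hk
    rw [MulAction.mem_stabilizer_iff]
    have hsub : ∀ k' ∈ H, ∀ b ∈ Set.range (blk hα hH), k' • b ∈ Set.range (blk hα hH) := by
      rintro k' hk' _ ⟨x, rfl⟩
      exact ⟨mv k' x, blk_mv hα hH x hk'⟩
    apply Set.Subset.antisymm
    · rintro _ ⟨b, hb, rfl⟩
      exact hsub k hk b hb
    · intro b hb
      exact ⟨k⁻¹ • b, hsub k⁻¹ (H.inv_mem hk) b hb, smul_inv_smul k b⟩

end Cfsg.Agent.Helper88
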