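import Mathlib
import Cfsg.Agent.Helper48.M11UDefs
import Cfsg.Agent.Helper93.AutTransfer
import Cfsg.Agent.S0426
import Cfsg.Agent.S0411

/-!
# S0420 piece P4, core (helper88): two sharply 4-transitive groups of degree 11, each preserving
a Steiner system `S(4,5,11)`, are isomorphic.
-/

set_option autoImplicit false
open scoped Pointwise
open Cfsg Cfsg.Agent.Helper48.M11U

namespace Cfsg.Agent.Helper88

/-- A sharply 4-transitive group of degree 11 inside the automorphism group of an `S(4,5,11)`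
is the whole automorphism group. -/
theorem sharp4_eq_aut88 {α : Type*} [Fintype α] [DecidableEq α] (hα : Fintype.card α = 11)
    (H : Subgroup (Equiv.Perm α)) (hH : Sharp4 H) (B : Set (Finset α))
    (hB : Cfsg.IsSteinerSystem 4 5 B) (hHB : H ≤ Cfsg.setSystemAut B) :
    H = Cfsg.setSystemAut B := by
  refine le_antisymm hHB ?_
  intro g hg
  have hsh := (Cfsg.Agent.S0426.result hα hB).2.2
  have hcard : Fintype.card (Fin 4) ≤ Fintype.card α := by
    rw [hα, Fintype.card_fin]; norm_num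
  obtain ⟨x₀⟩ := Function.Embedding.nonempty_of_card_le hcard
  obtain ⟨h, hhH, hh⟩ := hH.1 x₀ (x₀.trans g.toEmbedding)
  have hmem : h⁻¹ * g ∈ Cfsg.setSystemAut B := mul_mem (inv_mem (hHB hhH)) hg
  have hstab : (⟨h⁻¹ * g, hmem⟩ : Cfsg.setSystemAut B) ∈
      MulAction.stabilizer (Cfsg.setSystemAut B) x₀ := by
    rw [MulAction.mem_stabilizer_iff]
    ext i
    have h1 : h (x₀ i) = g (x₀ i) := hh i
    show (h⁻¹ * g) (x₀ i) = x₀ i
    rw [Equiv.Perm.mul_apply, ← h1]
    exact h.symm_apply_apply (x₀ i)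
  rw [hsh x₀, Subgroup.mem_bot] at hstab
  have h2 : h⁻¹ * g = 1 := congrArg Subtype.val hstab
  have h3 : g = h := by
    rw [inv_mul_eq_one] at h2
    exact h2.symm
  rw [h3]
  exact hhH

theorem m11u_part4_core88 {α β : Type*} [Fintype α] [DecidableEq α] [Fintype β] [DecidableEq β]
    (hα : Fintype.card α = 11) (hβ : Fintype.card β = 11)
    (H : Subgroup (Equiv.Perm α)) (K : Subgroup (Equiv.Perm β)) (hH : Sharp4 H) (hK : Sharp4 K)
    (B : Set (Finset α)) (hB : Cfsg.IsSteinerSystem 4 5 B) (hHB : H ≤ Cfsg.setSystemAut B)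
    (B' : Set (Finset β)) (hB' : Cfsg.IsSteinerSystem 4 5 B') (hKB' : K ≤ Cfsg.setSystemAut B') :
    Nonempty (H ≃* K) := by
  have e1 := sharp4_eq_aut88 hα H hH B hB hHB
  have e2 := sharp4_eq_aut88 hβ K hK B' hB' hKB'
  obtain ⟨e, he⟩ := Cfsg.Agent.S0411.result hα hβ hB hB'
  exact ⟨(MulEquiv.subgroupCongr e1).trans
    ((Cfsg.Agent.Helper93.autCongr e he).trans (MulEquiv.subgroupCongr e2.symm))⟩

end Cfsg.Agent.Helper88
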