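import Mathlib
import Cfsg.Agent.Helper88.M11UP4Core
import Cfsg.Agent.Helper88.M11UP2

/-!
# S0420 piece P4 (helper88): two sharply 4-transitive groups of degree 11 are isomorphic.
-/

set_option autoImplicit false
open scoped Pointwise
open Cfsg Cfsg.Agent.Helper48.M11U

namespace Cfsg.Agent.Helper88

/-- PART IV (glue): two sharply 4-transitive groups of degree 11 are isomorphic. -/
theorem m11u_part4 {α β : Type*} [Fintype α] [DecidableEq α] [Fintype β] [DecidableEq β]
    (hα : Fintype.card α = 11) (hβ : Fintype.card β = 11)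
    (H : Subgroup (Equiv.Perm α)) (K : Subgroup (Equiv.Perm β)) (hH : Sharp4 H) (hK : Sharp4 K) :
    Nonempty (H ≃* K) := by
  obtain ⟨B, hB, hHB⟩ := m11u_part2 hα H hH
  obtain ⟨B', hB', hKB'⟩ := m11u_part2 hβ K hK
  exact m11u_part4_core88 hα hβ H K hH hK B hB hHB B' hB' hKB'

end Cfsg.Agent.Helper88
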