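import Cfsg.Prelude.Def_Transfer
import Cfsg.Prelude.Def_Solvable
import Cfsg.Agent.Helper63.N15Defs

set_option autoImplicit false
set_option linter.unusedSectionVars false

namespace Cfsg.Agent.Helper88.N15

open Cfsg.Agent.Helper63.N15

variable {G : Type*} [Group G] [Finite G] {V : Type*} [AddCommGroup V] [Module (ZMod 3) V]
  [Finite V] {ρ : Representation (ZMod 3) G V} {R : Subgroup G} {b q₁ q₂ q₃ : G} {v₁ v₂ v₃ : V}

/-- F2. A normal subgroup centralized by `b` is central. -/
theorem f2 (c : Cfg ρ R b q₁ q₂ q₃ v₁ v₂ v₃) :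
    ∀ N : Subgroup G, N.Normal → (∀ x ∈ N, x * b = b * x) → ∀ x ∈ N, ∀ g : G, x * g = g * x := by
  intro N hN hNb x hx g
  haveI := hN
  have hCn : (Subgroup.centralizer (N : Set G)).Normal := Subgroup.normal_centralizer
  have hbC : b ∈ Subgroup.centralizer (N : Set G) := by
    rw [Subgroup.mem_centralizer_iff]
    intro y hy
    exact hNb y hy
  have hz : Subgroup.zpowers b ≤ Subgroup.centralizer (N : Set G) := (Subgroup.zpowers_le).2 hbC
  have hR : R ≤ Subgroup.centralizer (N : Set G) := by
    rw [← c.comm, Subgroup.commutator_le]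
    intro r _ z hz'
    rw [commutatorElement_def]
    exact Subgroup.mul_mem _ (hCn.conj_mem z (hz hz') r) (Subgroup.inv_mem _ (hz hz'))
  have htop : Subgroup.centralizer (N : Set G) = ⊤ := by
    rw [eq_top_iff, ← c.gen]
    exact sup_le hR hz
  have hg : g ∈ Subgroup.centralizer (N : Set G) := by
    rw [htop]
    exact Subgroup.mem_top g
  exact (Subgroup.mem_centralizer_iff.1 hg x hx)

end Cfsg.Agent.Helper88.N15
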