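import Cfsg.Prelude.Def_Transfer
import Cfsg.Prelude.Def_Solvable
import Cfsg.Agent.Helper63.N15Defs

set_option autoImplicit false
set_option linter.unusedSectionVars false

namespace Cfsg.Agent.Helper88.N15

open Cfsg.Agent.Helper63.N15

variable {G : Type*} [Group G] [Finite G] {V : Type*} [AddCommGroup V] [Module (ZMod 3) V]
  [Finite V] {ρ : Representation (ZMod 3) G V} {R : Subgroup G} {b q₁ q₂ q₃ : G} {v₁ v₂ v₃ : V}

/-- F3. `G / R` is cyclic, hence abelian: all commutators lie in `R`. -/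
theorem f3 (c : Cfg ρ R b q₁ q₂ q₃ v₁ v₂ v₃) :
    ∀ g h : G, g * h * g⁻¹ * h⁻¹ ∈ R := by
  intro g h
  haveI := c.Rn
  have key : ∀ x : G, ∃ k : ℤ, (x : G ⧸ R) = (b : G ⧸ R) ^ k := by
    intro x
    have hx : x ∈ ((R ⊔ Subgroup.zpowers b : Subgroup G) : Set G) := by
      rw [c.gen]
      exact Subgroup.mem_top x
    rw [Subgroup.normal_mul, Set.mem_mul] at hx
    obtain ⟨r, hr, z, hz, rfl⟩ := hx
    obtain ⟨k, rfl⟩ := Subgroup.mem_zpowers_iff.1 hz
    refine ⟨k, ?_⟩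
    rw [QuotientGroup.mk_mul, (QuotientGroup.eq_one_iff r).2 hr, one_mul, QuotientGroup.mk_zpow]
  obtain ⟨i, hi⟩ := key g
  obtain ⟨j, hj⟩ := key h
  rw [← QuotientGroup.eq_one_iff, QuotientGroup.mk_mul, QuotientGroup.mk_mul, QuotientGroup.mk_mul,
    QuotientGroup.mk_inv, QuotientGroup.mk_inv, hi, hj, zpow_mul_comm, mul_inv_cancel_right,
    mul_inv_cancel]

end Cfsg.Agent.Helper88.N15
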