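import Cfsg.Agent.Helper55.N9Defs

/-!
# CALL S4409 (helper55), piece HP (helper88, double): a hyperplane avoiding a given element.
-/

set_option autoImplicit false

namespace Cfsg.Agent.Helper88.N9

open Subgroup Cfsg.Agent.Helper55.N9

variable {G : Type*} [Group G] [Finite G]

-- HP
theorem n9_hyperplane (X N : Subgroup G) (hNX : N ≤ X) (hsq : ∀ x ∈ X, x ^ 2 ∈ N)
    (hn : X ≤ normalizer (N : Set G)) (v : G) (hvX : v ∈ X) (hv : v ∉ N) :
    ∃ M : Subgroup G, M ≤ X ∧ M.relIndex X = 2 ∧ N ≤ M ∧ v ∉ M := by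
  -- conjugation by elements of `X` preserves `N`
  have hconj : ∀ x ∈ X, ∀ n ∈ N, x * n * x⁻¹ ∈ N := by
    intro x hx n hnN
    exact ((mem_normalizer_iff.mp (hn hx)) n).mp hnN
  have hconj' : ∀ x ∈ X, ∀ n ∈ N, x⁻¹ * n * x ∈ N := by
    intro x hx n hnN
    have h := hconj x⁻¹ (X.inv_mem hx) n hnN
    rwa [inv_inv] at h
  -- commutators of elements of `X` lie in `N`
  have hcomm : ∀ x ∈ X, ∀ y ∈ X, x * y * x⁻¹ * y⁻¹ ∈ N := by
    intro x hx y hy
    have h1 : (x * y) ^ 2 ∈ N := hsq _ (X.mul_mem hx hy)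
    have h2 : y⁻¹ * (x ^ 2)⁻¹ * y ∈ N := hconj' y hy _ (N.inv_mem (hsq x hx))
    have h3 : (y ^ 2)⁻¹ ∈ N := N.inv_mem (hsq y hy)
    have h4 : x * y * x⁻¹ * y⁻¹ = (x * y) ^ 2 * (y⁻¹ * (x ^ 2)⁻¹ * y) * (y ^ 2)⁻¹ := by
      simp only [pow_two, mul_inv_rev]
      group
    rw [h4]
    exact N.mul_mem (N.mul_mem h1 h2) h3
  obtain ⟨M, hNM, hMmax⟩ := Finite.exists_le_maximal
    (p := fun M : Subgroup G => N ≤ M ∧ M ≤ X ∧ v ∉ M) (a := N) ⟨le_rfl, hNX, hv⟩
  obtain ⟨⟨-, hMX, hvM⟩, hmax⟩ := hMmax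
  -- `M` is normalized by `X`
  have hMconj : ∀ x ∈ X, ∀ m ∈ M, x * m * x⁻¹ ∈ M := by
    intro x hx m hm
    have h1 := hNM (hcomm x hx m (hMX hm))
    have h2 : x * m * x⁻¹ = x * m * x⁻¹ * m⁻¹ * m := by group
    rw [h2]
    exact M.mul_mem h1 hm
  have hMconj' : ∀ x ∈ X, ∀ m ∈ M, x⁻¹ * m * x ∈ M := by
    intro x hx m hm
    have h := hMconj x⁻¹ (X.inv_mem hx) m hm
    rwa [inv_inv] at h
  -- the key claim
  have key : ∀ b ∈ X, b ∉ M → b * v ∈ M := by
    intro b hbX hbM
    have hb2 : b ^ 2 ∈ M := hNM (hsq b hbX)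
    have hP : ∀ g ∈ closure ((M : Set G) ∪ {b}), g ∈ X ∧ (g ∈ M ∨ g * b ∈ M) := by
      intro g hg
      induction hg using closure_induction with
      | mem x hx =>
        rcases hx with hx | hx
        · exact ⟨hMX hx, Or.inl hx⟩
        · rw [Set.mem_singleton_iff.mp hx]
          refine ⟨hbX, Or.inr ?_⟩
          rw [← pow_two]
          exact hb2
      | one => exact ⟨X.one_mem, Or.inl M.one_mem⟩
      | mul x y _ _ hx hy =>
        obtain ⟨hxX, hx'⟩ := hx
        obtain ⟨hyX, hy'⟩ := hy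
        refine ⟨X.mul_mem hxX hyX, ?_⟩
        rcases hx' with hx' | hx' <;> rcases hy' with hy' | hy'
        · exact Or.inl (M.mul_mem hx' hy')
        · right
          rw [mul_assoc]
          exact M.mul_mem hx' hy'
        · right
          have h1 := hMconj' b hbX y hy'
          have h2 : x * y * b = x * b * (b⁻¹ * y * b) := by group
          rw [h2]
          exact M.mul_mem hx' h1
        · left
          have h1 := hMconj' b hbX _ hy'
          have h2 : x * y = x * b * (b⁻¹ * (y * b) * b) * (b ^ 2)⁻¹ := by group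
          rw [h2]
          exact M.mul_mem (M.mul_mem hx' h1) (M.inv_mem hb2)
      | inv x _ hx =>
        obtain ⟨hxX, hx'⟩ := hx
        refine ⟨X.inv_mem hxX, ?_⟩
        rcases hx' with hx' | hx'
        · exact Or.inl (M.inv_mem hx')
        · right
          have h1 := hMconj b hbX _ (M.inv_mem hx')
          have h2 : x⁻¹ * b = b * (x * b)⁻¹ * b⁻¹ * b ^ 2 := by group
          rw [h2]
          exact M.mul_mem h1 hb2
    -- by maximality `v` lies in the closure
    have hvc : v ∈ closure ((M : Set G) ∪ {b}) := by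
      by_contra hvc
      have hle : M ≤ closure ((M : Set G) ∪ {b}) := fun m hm =>
        subset_closure (Or.inl hm)
      have hcX : closure ((M : Set G) ∪ {b}) ≤ X := by
        rw [closure_le]
        rintro x (hx | hx)
        · exact hMX hx
        · rw [Set.mem_singleton_iff.mp hx]
          exact hbX
      have h1 := hmax (y := closure ((M : Set G) ∪ {b})) ⟨hNM.trans hle, hcX, hvc⟩ hle
      exact hbM (h1 (subset_closure (Or.inr rfl)))
    obtain ⟨-, h1 | h1⟩ := hP v hvc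
    · exact absurd h1 hvM
    · have h2 := hNM (hcomm b hbX v hvX)
      have h3 : b * v = b * v * b⁻¹ * v⁻¹ * (v * b) := by group
      rw [h3]
      exact M.mul_mem h2 h1
  refine ⟨M, hMX, ?_, hNM, hvM⟩
  show (M.subgroupOf X).index = 2
  rw [index_eq_two_iff]
  refine ⟨⟨v, hvX⟩, fun b => ?_⟩
  by_cases hb : (b : G) ∈ M
  · right
    refine ⟨mem_subgroupOf.mpr hb, fun h => hvM ?_⟩
    have h1 : (b : G) * v ∈ M := mem_subgroupOf.mp h
    have h2 : v = (b : G)⁻¹ * ((b : G) * v) := by group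
    rw [h2]
    exact M.mul_mem (M.inv_mem hb) h1
  · left
    exact ⟨mem_subgroupOf.mpr (key b b.2 hb), fun h => hb (mem_subgroupOf.mp h)⟩

end Cfsg.Agent.Helper88.N9
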