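-- helper88 library: PIECE T4c of the S5874 call (helper95): a tensor decomposition of a symmetric
-- form with an anisotropic two-dimensional first factor normalises a quadratic extension field.
-- (Adapted from helper96's `Sy.tensor_two_aniso`, with the two-dimensional factor on the left and
-- a general symmetric form.)
import Cfsg.Agent.Helper96.SpT2d

set_option autoImplicit false
set_option linter.unusedSectionVars false
set_option linter.unusedVariables false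
open Cfsg Cfsg.Geo Matrix
open scoped Kronecker

namespace Cfsg.Agent.Helper88

open Cfsg.Agent.Helper96.Sy

variable {ι : Type} [Fintype ι] [DecidableEq ι] {F : Type*} [Field F]

/-- **Piece T4c of the S5874 call.** -/
theorem o12_tensor_two_field (h2 : (2 : F) ≠ 0) (f : (ι → F) → (ι → F) → F)
    (hf : IsSymmetricForm f)
    {n₂ : ℕ} (e : ι ≃ Fin 2 × Fin n₂) (P : GL ι F)
    (f₁ : (Fin 2 → F) → (Fin 2 → F) → F) (f₂ : (Fin n₂ → F) → (Fin n₂ → F) → F)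
    (hf₁ : IsSymmetricForm f₁) (hf₂ : IsSymmetricForm f₂)
    (hT : IsTensorFormStructure id f f₁ f₂ e P) (hn₂ : 0 < n₂)
    (haniso : ∀ s : Fin 2 → F, f₁ s s = 0 → s = 0) :
    ∃ K : Subalgebra F (Matrix ι ι F), IsFieldSubalgebra 2 K ∧
      ∀ g ∈ tensorProductSubgroup 2 n₂ e P,
        (∀ u v : ι → F, f ((g : Matrix ι ι F) *ᵥ u) ((g : Matrix ι ι F) *ᵥ v) = f u v) →
        g ∈ subalgebraNormalizer K := by
  classical
  obtain ⟨c, hc, hT⟩ := hT
  have hkey : ∀ (u u' : Fin 2 → F) (v v' : Fin n₂ → F),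
      f (phiL e P (ptL v u)) (phiL e P (ptL v' u')) = c * (f₁ u u' * f₂ v v') := by
    intro u u' v v'
    rw [phiL_apply, phiL_apply, hT, formOfGram_pt hf₁.bilinear hf₂.bilinear]
  obtain ⟨G, hGdef⟩ : ∃ G : Matrix (Fin 2) (Fin 2) F, G = gramMatrix f₁ := ⟨_, rfl⟩
  have hs : G 1 0 = G 0 1 := by rw [hGdef]; exact hf₁.symm _ _
  obtain ⟨δ, hδ⟩ : ∃ δ : F, δ = G 0 0 * G 1 1 - G 0 1 ^ 2 := ⟨_, rfl⟩
  have hani : ∀ v : Fin 2 → F, v ≠ 0 → f₁ v v ≠ 0 := fun v hv h0 => hv (haniso v h0)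
  have hN : ∀ α β : F, α ^ 2 + δ * β ^ 2 = 0 → α = 0 ∧ β = 0 := by
    intro α β h
    rw [hδ, hGdef] at h
    exact aniso_norm hf₁ hani α β h
  have hδ0 : δ ≠ 0 := by
    intro h0
    have := (hN 0 1 (by rw [h0]; ring)).2
    exact one_ne_zero this
  have hGdet : G.det ≠ 0 := by
    rw [det_two G hs, ← hδ]
    exact hδ0
  have hcard : Fintype.card ι = 2 * n₂ := by
    have := Fintype.card_congr e
    rw [Fintype.card_prod, Fintype.card_fin, Fintype.card_fin] at this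
    exact this
  have hne : Nonempty ι := by
    apply Fintype.card_pos_iff.mp
    rw [hcard]
    omega
  obtain ⟨Jh, hJh⟩ : ∃ Jh : Matrix ι ι F,
      Jh = Helper98.conjReindex e P (jm G ⊗ₖ (1 : Matrix (Fin n₂) (Fin n₂) F)) := ⟨_, rfl⟩
  have hJsq : Jh * Jh = (-δ) • (1 : Matrix ι ι F) := by
    rw [hJh, ← map_mul, ← Matrix.mul_kronecker_mul, Matrix.one_mul, jm_sq, ← hδ,
      Matrix.smul_kronecker, Matrix.one_kronecker_one, map_smul, map_one]
  obtain ⟨K, hKf, hK⟩ := quadField Jh δ hJsq hN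
  refine ⟨K, hKf, ?_⟩
  intro g hgT hgS
  obtain ⟨A, B, hab⟩ := Helper98.mem_tensorProductSubgroup hgT
  have hact : ∀ (u : Fin 2 → F) (v : Fin n₂ → F),
      (g : Matrix ι ι F) *ᵥ phiL e P (ptL v u) =
        phiL e P (ptL ((B : Matrix (Fin n₂) (Fin n₂) F) *ᵥ v)
          ((A : Matrix (Fin 2) (Fin 2) F) *ᵥ u)) := by
    intro u v
    rw [hab, conj_act, kron_mulVec_pt]
  have hprod : ∀ (u u' : Fin 2 → F) (v v' : Fin n₂ → F),
      f₁ ((A : Matrix (Fin 2) (Fin 2) F) *ᵥ u) ((A : Matrix (Fin 2) (Fin 2) F) *ᵥ u') *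
        f₂ ((B : Matrix (Fin n₂) (Fin n₂) F) *ᵥ v) ((B : Matrix (Fin n₂) (Fin n₂) F) *ᵥ v')
        = f₁ u u' * f₂ v v' := by
    intro u u' v v'
    have h3 := hgS (phiL e P (ptL v u)) (phiL e P (ptL v' u'))
    rw [hact, hact, hkey, hkey] at h3
    exact mul_left_cancel₀ hc h3
  obtain ⟨u₀, hu₀⟩ : ∃ u₀ : Fin 2 → F, u₀ ≠ 0 := by
    refine ⟨Pi.single 0 1, ?_⟩
    intro h
    have := congrFun h 0
    simp at this
  have hu := hani u₀ hu₀
  obtain ⟨v₁, v₂, hv⟩ := exists_ne_form hn₂ hf₂.nondegenerate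
  have hβ : f₂ ((B : Matrix (Fin n₂) (Fin n₂) F) *ᵥ v₁)
      ((B : Matrix (Fin n₂) (Fin n₂) F) *ᵥ v₂) ≠ 0 := by
    intro h0
    have h3 := hprod u₀ u₀ v₁ v₂
    rw [h0, mul_zero] at h3
    exact mul_ne_zero hu hv h3.symm
  obtain ⟨μ, hμdef⟩ : ∃ μ : F, μ = f₂ v₁ v₂ / f₂ ((B : Matrix (Fin n₂) (Fin n₂) F) *ᵥ v₁)
      ((B : Matrix (Fin n₂) (Fin n₂) F) *ᵥ v₂) := ⟨_, rfl⟩
  have hμ : μ ≠ 0 := by
    rw [hμdef]
    exact div_ne_zero hv hβ
  have hsim : ∀ u u', f₁ ((A : Matrix (Fin 2) (Fin 2) F) *ᵥ u)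
      ((A : Matrix (Fin 2) (Fin 2) F) *ᵥ u') = μ * f₁ u u' := by
    intro u u'
    have h3 := hprod u u' v₁ v₂
    rw [hμdef, div_mul_eq_mul_div, eq_div_iff hβ, h3]
    ring
  have hrel : (A : Matrix (Fin 2) (Fin 2) F)ᵀ * G * (A : Matrix (Fin 2) (Fin 2) F) = μ • G := by
    have h1 := (Helper97.Gen.isSesq_of_bilinear hf₁.bilinear).gram_of_similar
      (A : Matrix (Fin 2) (Fin 2) F) μ hsim
    rw [hGdef]
    exact h1
  have hAdet : (A : Matrix (Fin 2) (Fin 2) F).det ≠ 0 :=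
    ((Matrix.isUnit_iff_isUnit_det _).mp A.isUnit).ne_zero
  have hAJ := jm_comm G (A : Matrix (Fin 2) (Fin 2) F) hs hGdet hAdet hrel
  obtain ⟨lam, hlam⟩ : ∃ lam : F, lam = μ / (A : Matrix (Fin 2) (Fin 2) F).det := ⟨_, rfl⟩
  rw [← hlam] at hAJ
  have hlam0 : lam ≠ 0 := by
    rw [hlam]
    exact div_ne_zero hμ hAdet
  have hgJ : (g : Matrix ι ι F) * Jh = lam • (Jh * (g : Matrix ι ι F)) := by
    rw [hab, hJh, ← map_mul, ← map_mul, ← Matrix.mul_kronecker_mul, ← Matrix.mul_kronecker_mul,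
      Matrix.mul_one, Matrix.one_mul, hAJ, Matrix.smul_kronecker, map_smul]
  have hgi : (g : Matrix ι ι F) * ((g⁻¹ : GL ι F) : Matrix ι ι F) = 1 := by
    rw [← Units.val_mul, mul_inv_cancel, Units.val_one]
  have hig : ((g⁻¹ : GL ι F) : Matrix ι ι F) * (g : Matrix ι ι F) = 1 := by
    rw [← Units.val_mul, inv_mul_cancel, Units.val_one]
  have hconj : (g : Matrix ι ι F) * Jh * ((g⁻¹ : GL ι F) : Matrix ι ι F) = lam • Jh := by
    rw [hgJ, Matrix.smul_mul, Matrix.mul_assoc, hgi, Matrix.mul_one]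
  have hconj' : ((g⁻¹ : GL ι F) : Matrix ι ι F) * Jh * (g : Matrix ι ι F) = lam⁻¹ • Jh := by
    have h1 : Jh * (g : Matrix ι ι F) = lam⁻¹ • ((g : Matrix ι ι F) * Jh) := by
      rw [hgJ, smul_smul, inv_mul_cancel₀ hlam0, one_smul]
    rw [Matrix.mul_assoc, h1, Matrix.mul_smul, ← Matrix.mul_assoc, hig, Matrix.one_mul]
  rw [Helper97.Gen.mem_subalgebraNormalizer_iff]
  intro k
  constructor
  · intro hk
    obtain ⟨α, β, rfl⟩ := (hK k).mp hk
    refine (hK _).mpr ⟨α, β * lam, ?_⟩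
    rw [Matrix.mul_add, Matrix.add_mul, Matrix.mul_smul, Matrix.smul_mul, Matrix.mul_one, hgi,
      Matrix.mul_smul, Matrix.smul_mul, hconj, smul_smul]
  · intro hk
    obtain ⟨α, β, hk⟩ := (hK _).mp hk
    refine (hK _).mpr ⟨α, β * lam⁻¹, ?_⟩
    have h1 : k = ((g⁻¹ : GL ι F) : Matrix ι ι F) *
        ((g : Matrix ι ι F) * k * ((g⁻¹ : GL ι F) : Matrix ι ι F)) * (g : Matrix ι ι F) := by
      rw [← Matrix.mul_assoc, ← Matrix.mul_assoc, hig, Matrix.one_mul, Matrix.mul_assoc, hig,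
        Matrix.mul_one]
    rw [h1, hk, Matrix.mul_add, Matrix.add_mul, Matrix.mul_smul, Matrix.smul_mul, Matrix.mul_one,
      hig, Matrix.mul_smul, Matrix.smul_mul, hconj', smul_smul]

end Cfsg.Agent.Helper88
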