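import Mathlib
import Cfsg.Agent.Helper21.PEDefs

/-! helper88: piece REALV of CALL S2276 (helper21). -/

set_option autoImplicit false

open Equiv Cfsg.Agent.Helper21.PE

namespace Cfsg.Agent.Helper88.PEREALV

theorem three_le_pow88 {p c : ℕ} (hp3 : 3 ≤ p) (hc : 1 ≤ c) : 3 ≤ p ^ c := by
  have h1 : p ^ 1 ≤ p ^ c := Nat.pow_le_pow_right (by omega) hc
  rw [pow_one] at h1
  omega

theorem pe_realv : V2ConStmt → V2NsStmt → V2NpStmt → RealVStmt := by
  intro hcon hns hnp p n a b c m ν hp hp3 hn hc hcb hm hν hsum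
  have hl3 : 3 ≤ p ^ c := three_le_pow88 hp3 hc
  have hL3 : 3 ≤ p ^ b := three_le_pow88 hp3 (by omega)
  have hν3 : ∀ x ∈ ν, 3 ≤ x := by
    intro x hx
    obtain ⟨i, hi1, -, rfl⟩ := hν x hx
    exact three_le_pow88 hp3 hi1
  obtain ⟨τ, hct, h1, h2, h3, h4⟩ := hcon n (p ^ c) m (p ^ b) ν hl3 hm hL3 hν3 hsum
  have hppos : 0 < p := by omega
  have hmpos : 0 < m * p ^ b := Nat.mul_pos (by omega) (by omega)
  have hstrict : p ^ c + m * p ^ b < n := by
    have hne : p ^ c + m * p ^ b ≠ p ^ a := by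
      intro h
      rcases le_or_gt a c with hac | hac
      · have h5 : p ^ a ≤ p ^ c := Nat.pow_le_pow_right hppos hac
        omega
      · have h5 : p ^ (c + 1) ∣ p ^ a := pow_dvd_pow p (by omega)
        have h6 : p ^ (c + 1) ∣ m * p ^ b := Dvd.dvd.mul_left (pow_dvd_pow p (by omega)) m
        have h7 : p ^ (c + 1) ∣ p ^ c := (Nat.dvd_add_iff_left h6).2 (h ▸ h5)
        have h8 : p ^ (c + 1) ≤ p ^ c := Nat.le_of_dvd (by omega) h7
        have h9 : p ^ c < p ^ (c + 1) := Nat.pow_lt_pow_right (by omega) (by omega)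
        omega
    rw [← hn] at hne
    omega
  have ha1 : 1 ≤ a := by
    by_contra h0
    have ha0 : a = 0 := by omega
    rw [ha0, pow_zero] at hn
    omega
  have hfix : ∀ x : Fin n, p ^ c + m * p ^ b ≤ x.val → (τ ^ (p ^ (b - 1))) x = x := by
    apply h4
    intro x hx
    obtain ⟨i, -, hi2, rfl⟩ := hν x hx
    exact pow_dvd_pow p (by omega)
  refine ⟨τ, hct, ?_, ?_⟩
  · exact hnp p n a (p ^ c) m (p ^ b) τ hp hp3 hn ha1 (dvd_pow_self p (by omega)) hl3 hm hL3
      hstrict h1 h2 h3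
  · exact hns p n a b c m τ hp hp3 hn hc hcb hm hstrict h1 h2 hfix

end Cfsg.Agent.Helper88.PEREALV
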