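import Mathlib
import Cfsg.Agent.Helper21.PEDefs

/-! helper88: piece V2NP of CALL S2276 (helper21). -/

set_option autoImplicit false

open Equiv Cfsg.Agent.Helper21.PE

namespace Cfsg.Agent.Helper88.PEV2NP

/-- the value of the `n`-cycle `finRotate n` -/
theorem finRotate_val88 (n : ℕ) (x : Fin n) : (finRotate n x).val = (x.val + 1) % n := by
  cases n with
  | zero => exact x.elim0
  | succ k =>
    rw [finRotate_succ_apply, Fin.val_add, Fin.val_one', Nat.add_mod_mod]

/-- the number of `x : Fin n` with `1 ≤ x < l` -/
theorem card_Ico88 (n l : ℕ) (hl : l ≤ n) :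
    (Finset.univ.filter (fun x : Fin n => 1 ≤ x.val ∧ x.val < l)).card = l - 1 := by
  rw [← Finset.card_image_of_injective _ Fin.val_injective]
  have h : Finset.image Fin.val (Finset.univ.filter (fun x : Fin n => 1 ≤ x.val ∧ x.val < l)) =
      Finset.Ico 1 l := by
    ext y
    simp only [Finset.mem_image, Finset.mem_filter, Finset.mem_univ, true_and, Finset.mem_Ico]
    constructor
    · rintro ⟨x, hx, rfl⟩
      exact hx
    · intro hy
      exact ⟨⟨y, by omega⟩, hy, rfl⟩
  rw [h, Nat.card_Ico]

theorem pe_v2np : FixcntStmt → V2NpStmt := by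
  intro hfix p n a l m L τ hp hp3 hn ha hpl hl3 hm hL3 hlt h1 h2 h3
  apply hfix p (Fin n) (finRotate n * τ) hp
  have hmL : m * 3 ≤ m * L := Nat.mul_le_mul_left m hL3
  have hmLpos : 0 < m * L := by
    have : 0 < m * 3 := by omega
    omega
  have hset : Finset.univ.filter (fun x : Fin n => (finRotate n * τ) x = x) =
      Finset.univ.filter (fun x : Fin n => 1 ≤ x.val ∧ x.val < l) := by
    apply Finset.filter_congr
    intro x _
    rw [Perm.mul_apply, Fin.ext_iff, finRotate_val88]
    have hxn := x.isLt
    have htn := (τ x).isLt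
    rcases Nat.lt_or_ge x.val l with hxl | hxl
    · rw [h1 x hxl]
      rcases Nat.eq_zero_or_pos x.val with hx0 | hx0
      · rw [hx0, Nat.zero_add, Nat.mod_eq_of_lt (by omega : l - 1 < l),
          Nat.mod_eq_of_lt (by omega : l - 1 + 1 < n)]
        constructor
        · intro h; omega
        · intro h; omega
      · have e1 : x.val + (l - 1) = (x.val - 1) + l := by omega
        rw [e1, Nat.add_mod_right, Nat.mod_eq_of_lt (by omega : x.val - 1 < l),
          Nat.mod_eq_of_lt (by omega : x.val - 1 + 1 < n)]
        constructor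
        · intro _; exact ⟨hx0, hxl⟩
        · intro _; omega
    · rcases Nat.lt_or_ge x.val (l + m * L) with hxm | hxm
      · rw [h2 x hxl hxm]
        have hr : (x.val - l + m) % (m * L) < m * L := Nat.mod_lt _ hmLpos
        rw [Nat.mod_eq_of_lt (by omega : l + (x.val - l + m) % (m * L) + 1 < n)]
        constructor
        · intro h
          exfalso
          rcases Nat.lt_or_ge (x.val - l + m) (m * L) with hc | hc
          · rw [Nat.mod_eq_of_lt hc] at h
            omega
          · rw [Nat.mod_eq_sub_mod hc, Nat.mod_eq_of_lt (by omega)] at h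
            omega
        · intro h; omega
      · obtain ⟨h4, h5⟩ := h3 x hxm
        constructor
        · intro h
          exfalso
          rcases Nat.lt_or_ge ((τ x).val + 1) n with hc | hc
          · rw [Nat.mod_eq_of_lt hc] at h
            exact h5 h
          · have e2 : (τ x).val + 1 = n := by omega
            rw [e2, Nat.mod_self] at h
            omega
        · intro h; omega
  rw [hset, card_Ico88 n l (by omega), Fintype.card_fin]
  intro hmod
  have h0 : n ≡ 0 [MOD p] := by
    rw [Nat.modEq_zero_iff_dvd, hn]
    exact dvd_pow_self p (by omega)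
  have h6 : p ∣ l - 1 := (Nat.modEq_zero_iff_dvd).1 (hmod.symm.trans h0)
  have h7 : p ∣ l - (l - 1) := Nat.dvd_sub hpl h6
  have h8 : l - (l - 1) = 1 := by omega
  rw [h8] at h7
  have h9 := Nat.le_of_dvd one_pos h7
  omega

end Cfsg.Agent.Helper88.PEV2NP
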