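import Mathlib
import Cfsg.Agent.Helper21.PEDefs
import Cfsg.Agent.Helper88.PEREALV
import Cfsg.Agent.Helper88.PEV2NP

/-! helper88: piece REALB of CALL S2276 (helper21). -/

set_option autoImplicit false

open Equiv Cfsg.Agent.Helper21.PE

namespace Cfsg.Agent.Helper88.PEREALB

open Cfsg.Agent.Helper88.PEREALV Cfsg.Agent.Helper88.PEV2NP

theorem pe_realb : ShiftStmt → Comm3Stmt → FixcntStmt → RotStmt → GlueStmt → RealBStmt := by
  intro hshift hcomm3 hfix hrot hglue p n a c hp hp3 hn hc hca
  have hl3 : 3 ≤ p ^ c := three_le_pow88 hp3 hc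
  have hln : p ^ c < n := by
    rw [hn]
    exact Nat.pow_lt_pow_right (by omega) hca
  have hpl : p ∣ p ^ c := dvd_pow_self p (by omega)
  have h5 : 5 ≤ n := by
    have h1 : p ^ 2 ≤ p ^ a := Nat.pow_le_pow_right (by omega) (by omega : 2 ≤ a)
    have h2 : 9 ≤ p ^ 2 := by nlinarith
    omega
  have hodd : Odd n := by
    rw [hn]
    exact (hp.eq_two_or_odd'.resolve_left (by omega)).pow
  have hpn : p ∣ n := by
    rw [hn]
    exact dvd_pow_self p (by omega)
  obtain ⟨l, hl⟩ : ∃ l, l = p ^ c := ⟨_, rfl⟩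
  rw [← hl] at hl3 hln hpl ⊢
  obtain ⟨n', rfl⟩ : ∃ n', n = l + n' := ⟨n - l, by omega⟩
  have hnd : ¬ l ∣ l - 1 := fun h => by
    have := Nat.le_of_dvd (by omega) h
    omega
  obtain ⟨R, hR, hRct⟩ := hrot l (l - 1) (by omega) hnd
  have hgcd : Nat.gcd (l - 1) l = 1 := by
    have h1 := Nat.gcd_dvd_left (l - 1) l
    have h2 := Nat.gcd_dvd_right (l - 1) l
    have h3 : Nat.gcd (l - 1) l ∣ l - (l - 1) := Nat.dvd_sub h2 h1
    have h4 : l - (l - 1) = 1 := by omega
    rw [h4] at h3
    exact Nat.dvd_one.1 h3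
  rw [hgcd, Nat.div_one, Multiset.replicate_one] at hRct
  obtain ⟨τ, hτct, hτ1, hτ2⟩ := hglue l n' R 1
  rw [hRct, Perm.cycleType_one, add_zero] at hτct
  have hv1 : ∀ x : Fin (l + n'), x.val < l → (τ x).val = (x.val + (l - 1)) % l := by
    intro x hx
    have h := hτ1 ⟨x.val, hx⟩
    rw [hR] at h
    have e : Fin.castAdd n' ⟨x.val, hx⟩ = x := Fin.ext rfl
    rw [e] at h
    exact h
  have hv2 : ∀ x : Fin (l + n'), l ≤ x.val → τ x = x := by
    intro x hx
    have hxn := x.isLt
    have h := hτ2 ⟨x.val - l, by omega⟩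
    have e : Fin.natAdd l (⟨x.val - l, by omega⟩ : Fin n') = x :=
      Fin.ext (by rw [Fin.coe_natAdd]; show l + (x.val - l) = x.val; omega)
    rw [e, Perm.one_apply] at h
    apply Fin.ext
    rw [h]
    show l + (x.val - l) = x.val
    omega
  have hroton : RotOn (l + n') 0 l (l - 1) τ := by
    refine ⟨fun x _ hx => ?_, fun x hx => ?_⟩
    · rw [Nat.zero_add] at hx
      rw [Nat.zero_add, Nat.sub_zero]
      exact hv1 x hx
    · rcases hx with hx | hx
      · exact absurd hx (Nat.not_lt_zero _)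
      · rw [Nat.zero_add] at hx
        exact hv2 x hx
  obtain ⟨h3c, hsupp⟩ := hcomm3 (l + n') 0 l (l - 1) τ (by omega) (by omega) (by omega) hroton
  have hNS : ¬ Group.IsSolvable
      ↥(Subgroup.closure ({finRotate (l + n'), τ} : Set (Perm (Fin (l + n'))))) := by
    have hσ : finRotate (l + n') ∈
        Subgroup.closure ({finRotate (l + n'), τ} : Set (Perm (Fin (l + n')))) :=
      Subgroup.subset_closure (Set.mem_insert _ _)
    have hτ : τ ∈ Subgroup.closure ({finRotate (l + n'), τ} : Set (Perm (Fin (l + n')))) :=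
      Subgroup.subset_closure (Set.mem_insert_of_mem _ rfl)
    have hθ : finRotate (l + n') * τ * (finRotate (l + n'))⁻¹ * τ⁻¹ ∈
        Subgroup.closure ({finRotate (l + n'), τ} : Set (Perm (Fin (l + n')))) :=
      Subgroup.mul_mem _ (Subgroup.mul_mem _ (Subgroup.mul_mem _ hσ hτ) (Subgroup.inv_mem _ hσ))
        (Subgroup.inv_mem _ hτ)
    refine hshift (l + n') _ _ _ _ _ h5 hodd hσ hθ h3c ?_ ?_ hsupp ?_
    · show (0 : ℕ) < 0 + (l - 1)
      omega
    · show 0 + (l - 1) < 0 + l
      omega
    · rintro ⟨h1, -⟩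
      have h1' : 0 + (l - 1) - 0 = 0 + l - (0 + (l - 1)) := h1
      omega
  have hNP : ¬ ∃ k : ℕ, orderOf (finRotate (l + n') * τ) = p ^ k := by
    apply hfix p (Fin (l + n')) (finRotate (l + n') * τ) hp
    have hset : Finset.univ.filter (fun x : Fin (l + n') => (finRotate (l + n') * τ) x = x) =
        Finset.univ.filter (fun x : Fin (l + n') => 1 ≤ x.val ∧ x.val < l) := by
      apply Finset.filter_congr
      intro x _
      rw [Perm.mul_apply, Fin.ext_iff, finRotate_val88]
      have hxn := x.isLt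
      rcases Nat.lt_or_ge x.val l with hxl | hxl
      · rw [hv1 x hxl]
        rcases Nat.eq_zero_or_pos x.val with hx0 | hx0
        · rw [hx0, Nat.zero_add, Nat.mod_eq_of_lt (by omega : l - 1 < l),
            Nat.mod_eq_of_lt (by omega : l - 1 + 1 < l + n')]
          constructor
          · intro h; omega
          · intro h; omega
        · have e1 : x.val + (l - 1) = (x.val - 1) + l := by omega
          rw [e1, Nat.add_mod_right, Nat.mod_eq_of_lt (by omega : x.val - 1 < l),
            Nat.mod_eq_of_lt (by omega : x.val - 1 + 1 < l + n')]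
          constructor
          · intro _; exact ⟨hx0, hxl⟩
          · intro _; omega
      · rw [hv2 x hxl]
        constructor
        · intro h
          exfalso
          rcases Nat.lt_or_ge (x.val + 1) (l + n') with hc' | hc'
          · rw [Nat.mod_eq_of_lt hc'] at h
            omega
          · have e2 : x.val + 1 = l + n' := by omega
            rw [e2, Nat.mod_self] at h
            omega
        · intro h; omega
    rw [hset, card_Ico88 (l + n') l (by omega), Fintype.card_fin]
    intro hmod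
    have h0 : l + n' ≡ 0 [MOD p] := (Nat.modEq_zero_iff_dvd).2 hpn
    have h6 : p ∣ l - 1 := (Nat.modEq_zero_iff_dvd).1 (hmod.symm.trans h0)
    have h7 : p ∣ l - (l - 1) := Nat.dvd_sub hpl h6
    have h8 : l - (l - 1) = 1 := by omega
    rw [h8] at h7
    have h9 := Nat.le_of_dvd one_pos h7
    omega
  exact ⟨τ, hτct, hNP, hNS⟩

end Cfsg.Agent.Helper88.PEREALB
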