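import Mathlib
import Cfsg.Agent.Helper21.PEDefs

/-! helper88: piece V2CON of CALL S2276 (helper21) (double). -/

set_option autoImplicit false

open Equiv Cfsg.Agent.Helper21.PE

namespace Cfsg.Agent.Helper88.PEV2CON

theorem pe_v2con : GlueStmt → RotStmt → FwdStmt → V2ConStmt := by
  intro hglue hrot hfwd n l m L ν hl3 hm hL3 hν hsum
  have hmL3 : m * 3 ≤ m * L := Nat.mul_le_mul_left m hL3
  obtain ⟨N', rfl⟩ : ∃ N', n = l + (m * L + N') := ⟨n - l - m * L, by omega⟩
  have hnd1 : ¬ l ∣ l - 1 := fun h => by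
    have := Nat.le_of_dvd (by omega) h
    omega
  obtain ⟨R1, hR1, hR1ct⟩ := hrot l (l - 1) (by omega) hnd1
  have hgcd1 : Nat.gcd (l - 1) l = 1 := by
    have h1 := Nat.gcd_dvd_left (l - 1) l
    have h2 := Nat.gcd_dvd_right (l - 1) l
    have h3 : Nat.gcd (l - 1) l ∣ l - (l - 1) := Nat.dvd_sub h2 h1
    have h4 : l - (l - 1) = 1 := by omega
    rw [h4] at h3
    exact Nat.dvd_one.1 h3
  rw [hgcd1, Nat.div_one, Multiset.replicate_one] at hR1ct
  have hnd2 : ¬ m * L ∣ m := fun h => by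
    have := Nat.le_of_dvd (by omega) h
    omega
  obtain ⟨R2, hR2, hR2ct⟩ := hrot (m * L) m (by omega) hnd2
  have hgcd2 : Nat.gcd m (m * L) = m := Nat.gcd_eq_left (Dvd.intro L rfl)
  rw [hgcd2, Nat.mul_div_cancel_left L (by omega : 0 < m)] at hR2ct
  obtain ⟨E, hEct, hE⟩ := hfwd ν N' hν (by omega)
  obtain ⟨G1, hG1ct, hG1a, hG1b⟩ := hglue (m * L) N' R2 E
  obtain ⟨τ, hτct, hτa, hτb⟩ := hglue l (m * L + N') R1 G1
  refine ⟨τ, ?_, ?_, ?_, ?_, ?_⟩
  · rw [hτct, hR1ct, hG1ct, hR2ct, hEct, Multiset.singleton_add]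
  · intro x hx
    have h := hτa ⟨x.val, hx⟩
    rw [hR1] at h
    have e : Fin.castAdd (m * L + N') ⟨x.val, hx⟩ = x := Fin.ext rfl
    rw [e] at h
    exact h
  · intro x hx1 hx2
    have hxn := x.isLt
    have h := hτb ⟨x.val - l, by omega⟩
    have e : Fin.natAdd l (⟨x.val - l, by omega⟩ : Fin (m * L + N')) = x :=
      Fin.ext (by rw [Fin.coe_natAdd]; show l + (x.val - l) = x.val; omega)
    rw [e] at h
    have h' := hG1a ⟨x.val - l, by omega⟩
    rw [hR2] at h'
    have e' : Fin.castAdd N' (⟨x.val - l, by omega⟩ : Fin (m * L)) =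
        (⟨x.val - l, by omega⟩ : Fin (m * L + N')) := Fin.ext rfl
    rw [e'] at h'
    rw [h, h']
  · intro x hx
    have hxn := x.isLt
    have h := hτb ⟨x.val - l, by omega⟩
    have e : Fin.natAdd l (⟨x.val - l, by omega⟩ : Fin (m * L + N')) = x :=
      Fin.ext (by rw [Fin.coe_natAdd]; show l + (x.val - l) = x.val; omega)
    rw [e] at h
    have h' := hG1b ⟨x.val - l - m * L, by omega⟩
    have e' : Fin.natAdd (m * L) (⟨x.val - l - m * L, by omega⟩ : Fin N') =
        (⟨x.val - l, by omega⟩ : Fin (m * L + N')) :=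
      Fin.ext (by rw [Fin.coe_natAdd]; show m * L + (x.val - l - m * L) = x.val - l; omega)
    rw [e'] at h'
    rw [h, h']
    have hE' := hE ⟨x.val - l - m * L, by omega⟩
    constructor
    · omega
    · intro hc
      apply hE'
      show (E ⟨x.val - l - m * L, _⟩).val + 1 = x.val - l - m * L
      omega
  · intro k hk x hx
    have hEk : E ^ k = 1 := by
      rw [← orderOf_dvd_iff_pow_eq_one, ← Perm.lcm_cycleType, Multiset.lcm_dvd, hEct]
      exact hk
    have hemb : ∀ z : Fin N', τ (Fin.natAdd l (Fin.natAdd (m * L) z)) =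
        Fin.natAdd l (Fin.natAdd (m * L) (E z)) := by
      intro z
      apply Fin.ext
      rw [hτb, hG1b, Fin.coe_natAdd, Fin.coe_natAdd]
    have hpow : ∀ (j : ℕ) (z : Fin N'), (τ ^ j) (Fin.natAdd l (Fin.natAdd (m * L) z)) =
        Fin.natAdd l (Fin.natAdd (m * L) ((E ^ j) z)) := by
      intro j
      induction j with
      | zero => intro z; rfl
      | succ j ih =>
        intro z
        rw [pow_succ, Perm.mul_apply, hemb, ih, pow_succ, Perm.mul_apply]
    have hxn := x.isLt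
    have ex : Fin.natAdd l (Fin.natAdd (m * L) (⟨x.val - l - m * L, by omega⟩ : Fin N')) = x :=
      Fin.ext (by
        rw [Fin.coe_natAdd, Fin.coe_natAdd]
        show l + (m * L + (x.val - l - m * L)) = x.val
        omega)
    rw [← ex, hpow, hEk, Perm.one_apply]

end Cfsg.Agent.Helper88.PEV2CON
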