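import Mathlib
import Cfsg.Prelude.Def_LieTwisted
import Cfsg.Agent.S1157

/-!
# S2787 piece REE (helper88): in the small Ree groups two elements generating a 2-group commute.
-/

set_option autoImplicit false

namespace Cfsg.Agent.Helper88

open Cfsg

/-- PIECE REE: in the Ree group `²G₂(3^(2m+1))` two elements generating a 2-group commute
(Sylow 2-subgroups are self-centralizing, S1157). -/
theorem qr_ree {K : Type*} [Field K] [Fintype K] {m : ℕ} (hm : 1 ≤ m)
    (hK : Fintype.card K = 3 ^ (2 * m + 1)) (x y : ↥(Cfsg.Lie.twistedG2 K (3 ^ m)))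
    (hT : IsPGroup 2 (Subgroup.closure ({x, y} : Set ↥(Cfsg.Lie.twistedG2 K (3 ^ m))))) :
    x * y = y * x := by
  obtain ⟨S, hS⟩ := hT.exists_le_sylow
  have hx : x ∈ (S : Subgroup ↥(Cfsg.Lie.twistedG2 K (3 ^ m))) :=
    hS (Subgroup.subset_closure (by simp))
  have hy : y ∈ (S : Subgroup ↥(Cfsg.Lie.twistedG2 K (3 ^ m))) :=
    hS (Subgroup.subset_closure (by simp))
  have hc := (Cfsg.Agent.S1157.result hm hK S).1
  rw [← hc] at hy
  exact (Subgroup.mem_centralizer_iff.1 hy) x hx

end Cfsg.Agent.Helper88
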