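import Cfsg.Agent.Helper88.RealNormal
import Cfsg.Agent.Helper84.FusionGroup2

set_option autoImplicit false

namespace Cfsg.Agent.Helper88

open Cfsg Cfsg.FusionSystem

universe u

/-- A realization passes to the quotient by a normal subgroup meeting the image of `S` trivially. -/
theorem realized_quotient {Ω : Type*} [Group Ω] {S : Subgroup Ω} [Finite S] (p : ℕ) [Fact p.Prime]
    (hS : IsPGroup p S) (F : FusionSystem S) {G : Type*} [Group G] [Finite G] {ι : S →* G}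
    (hι : F.IsRealizedBy ι) (P₀ : Sylow p G) (hP₀ : (P₀ : Subgroup G) = ι.range) (N : Subgroup G)
    [hN : N.Normal] (hT : pre ι N = ⊥) :
    F.IsRealizedBy ((QuotientGroup.mk' N).comp ι) ∧
      ∃ T : Sylow p (G ⧸ N), (T : Subgroup (G ⧸ N)) = ((QuotientGroup.mk' N).comp ι).range := by
  have htriv : ∀ s : S, ι s ∈ N → s = 1 := by
    intro s hs
    have h1 : (s : Ω) ∈ pre ι N := mem_pre.2 ⟨s.2, by rw [iext_apply ι s.2]; exact hs⟩
    rw [hT, Subgroup.mem_bot] at h1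
    exact Subtype.ext h1
  refine ⟨⟨?_, fun P hP φ hφ => ?_⟩, P₀.mapSurjective (QuotientGroup.mk'_surjective N), ?_⟩
  · intro a b hab
    have h1 : ((ι a : G) : G ⧸ N) = ((ι b : G) : G ⧸ N) := hab
    rw [QuotientGroup.eq] at h1
    have h2 : ι (a⁻¹ * b) ∈ N := by rw [map_mul, map_inv]; exact h1
    have h3 := htriv _ h2
    exact inv_mul_eq_one.mp h3
  · rw [hι.2 P hP φ hφ]
    constructor
    · rintro ⟨g, hg⟩
      refine ⟨(g : G ⧸ N), fun x => ?_⟩
      show ((ι ⟨φ x, hφ x⟩ : G) : G ⧸ N) = (g : G ⧸ N) * ((ι ⟨x, hP x.2⟩ : G) : G ⧸ N) * (g : G ⧸ N)⁻¹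
      rw [hg x]
      rfl
    · rintro ⟨gbar, hgbar⟩
      obtain ⟨g, rfl⟩ := QuotientGroup.mk_surjective gbar
      have hmod : ∀ x : P, (g * ι ⟨x, hP x.2⟩ * g⁻¹)⁻¹ * ι ⟨φ x, hφ x⟩ ∈ N := by
        intro x
        rw [← QuotientGroup.eq]
        exact (hgbar x).symm
      have hBp : IsPGroup p ((P.subgroupOf S).map ((MulAut.conj g).toMonoidHom.comp ι)) :=
        (hS.to_subgroup (P.subgroupOf S)).map _
      have hBM : (P.subgroupOf S).map ((MulAut.conj g).toMonoidHom.comp ι) ≤ (P₀ : Subgroup G) ⊔ N := by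
        rintro _ ⟨s, hs, rfl⟩
        have hs' : (s : Ω) ∈ P := hs
        show g * ι s * g⁻¹ ∈ (P₀ : Subgroup G) ⊔ N
        have h1 : g * ι s * g⁻¹ = ι ⟨φ ⟨s, hs'⟩, hφ _⟩ *
            ((g * ι ⟨((⟨s, hs'⟩ : P) : Ω), hP hs'⟩ * g⁻¹)⁻¹ * ι ⟨φ ⟨s, hs'⟩, hφ _⟩)⁻¹ := by
          show g * ι s * g⁻¹ = ι ⟨φ ⟨s, hs'⟩, hφ _⟩ * ((g * ι s * g⁻¹)⁻¹ * ι ⟨φ ⟨s, hs'⟩, hφ _⟩)⁻¹
          group
        rw [h1]
        refine Subgroup.mul_mem _ (Subgroup.mem_sup_left ?_) (Subgroup.mem_sup_right (N.inv_mem (hmod ⟨s, hs'⟩)))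
        rw [hP₀]
        exact ⟨_, rfl⟩
      obtain ⟨m, hmM, hm⟩ := Helper84.exists_cj_le_sylow_of_le P₀ (le_sup_left : (P₀ : Subgroup G) ≤ (P₀ : Subgroup G) ⊔ N) hBM hBp
      obtain ⟨s₀, hs₀, n', hn', hmsn⟩ := Helper85.exists_mul_of_mem_sup (R := (P₀ : Subgroup G)) (T := N)
        (fun r _ t ht => hN.conj_mem t ht r) hmM
      refine ⟨n' * g, fun x => ?_⟩
      have hb : m * (g * ι ⟨x, hP x.2⟩ * g⁻¹) * m⁻¹ ∈ (P₀ : Subgroup G) :=
        hm (Helper84.cj_mem ⟨⟨x, hP x.2⟩, x.2, rfl⟩)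
      have hb' : n' * (g * ι ⟨x, hP x.2⟩ * g⁻¹) * n'⁻¹ ∈ ι.range := by
        rw [← hP₀]
        have h1 : n' * (g * ι ⟨x, hP x.2⟩ * g⁻¹) * n'⁻¹ = s₀⁻¹ * (m * (g * ι ⟨x, hP x.2⟩ * g⁻¹) * m⁻¹) * s₀ := by
          rw [hmsn]
          group
        rw [h1]
        exact Subgroup.mul_mem _ (Subgroup.mul_mem _ (Subgroup.inv_mem _ hs₀) hb) hs₀
      obtain ⟨s₁, hs₁⟩ := hb'
      have h2 : ι (s₁⁻¹ * ⟨φ x, hφ x⟩) ∈ N := by
        rw [map_mul, map_inv, hs₁]
        have h3 : (n' * (g * ι ⟨x, hP x.2⟩ * g⁻¹) * n'⁻¹)⁻¹ * ι ⟨φ x, hφ x⟩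
            = n' * ((g * ι ⟨x, hP x.2⟩ * g⁻¹)⁻¹ * ι ⟨φ x, hφ x⟩) *
              ((ι ⟨φ x, hφ x⟩)⁻¹ * n'⁻¹ * (ι ⟨φ x, hφ x⟩)⁻¹⁻¹) := by group
        rw [h3]
        exact N.mul_mem (N.mul_mem hn' (hmod x)) (hN.conj_mem _ (N.inv_mem hn') _)
      have h4 := htriv _ h2
      have h5 : (⟨φ x, hφ x⟩ : S) = s₁ := (inv_mul_eq_one.mp h4).symm
      rw [h5, hs₁]
      group
  · rw [Sylow.coe_mapSurjective, hP₀]
    exact MonoidHom.map_range _ _

/-- If the system of a normal subgroup is everything, the normal subgroup realizes the system. -/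
theorem realized_sub {Ω : Type*} [Group Ω] {S : Subgroup Ω} (p : ℕ) [Fact p.Prime]
    (F : FusionSystem S) {G : Type*} [Group G] {ι : S →* G}
    (hι : F.IsRealizedBy ι) (P₀ : Sylow p G) (hP₀ : (P₀ : Subgroup G) = ι.range) (N : Subgroup G)
    (hT : pre ι N = S) (hE : ∀ P : Subgroup Ω, (nsub hι.1 N).Hom P = F.Hom P) :
    ∃ ι' : S →* ↥N, F.IsRealizedBy ι' ∧ ∃ T : Sylow p ↥N, (T : Subgroup ↥N) = ι'.range := by
  have hrange : ∀ s : S, ι s ∈ N := by
    intro s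
    have h1 : (s : Ω) ∈ pre ι N := by rw [hT]; exact s.2
    have h2 := (mem_pre.1 h1).2
    rw [iext_apply ι s.2] at h2
    exact h2
  have hPN : (P₀ : Subgroup G) ≤ N := by
    rw [hP₀]
    rintro _ ⟨s, rfl⟩
    exact hrange s
  refine ⟨ι.codRestrict N hrange, ⟨?_, fun P hP φ hφ => ?_⟩, P₀.subtype hPN, ?_⟩
  · intro a b hab
    exact hι.1 (congrArg Subtype.val hab)
  · constructor
    · intro h
      rw [← hE P] at h
      obtain ⟨-, -, n, hn, hnφ⟩ := h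
      refine ⟨⟨n, hn⟩, fun x => Subtype.ext ?_⟩
      have := hnφ x
      rw [iext_apply ι (hφ x), iext_apply ι (hP x.2)] at this
      exact this
    · rintro ⟨g, hg⟩
      exact (hι.2 P hP φ hφ).2 ⟨g.1, fun x => congrArg Subtype.val (hg x)⟩
  · rw [Sylow.coe_subtype]
    ext y
    rw [Subgroup.mem_subgroupOf, hP₀]
    constructor
    · rintro ⟨s, hs⟩
      exact ⟨s, Subtype.ext hs⟩
    · rintro ⟨s, rfl⟩
      exact ⟨s, rfl⟩

/-- A realizable simple fusion system is realized by a simple group. -/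
theorem exists_simple_realization {Ω : Type u} [Group Ω] {S : Subgroup Ω} [Finite S] (p : ℕ) [Fact p.Prime]
    (hS : IsPGroup p S) (F : FusionSystem S) (hsimple : F.IsSimple p) :
    ∀ (k : ℕ) (G : Type u) [Group G] [Finite G] (ι : S →* G), Nat.card G = k → F.IsRealizedBy ι →
      (∃ T : Sylow p G, (T : Subgroup G) = ι.range) →
      ∃ (G' : Type u) (_ : Group G') (_ : Finite G') (_ : IsSimpleGroup G') (ι' : S →* G'),
        F.IsRealizedBy ι' ∧ ∃ T : Sylow p G', (T : Subgroup G') = ι'.range := by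
  intro k
  induction k using Nat.strong_induction_on with
  | _ k ih =>
    intro G _ _ ι hk hι hsyl
    obtain ⟨P₀, hP₀⟩ := hsyl
    by_cases hs : IsSimpleGroup G
    · exact ⟨G, inferInstance, inferInstance, hs, ι, hι, P₀, hP₀⟩
    · have hnt : Nontrivial G := by
        obtain ⟨s, hs1, hs2⟩ : ∃ s ∈ S, s ≠ 1 := by
          by_contra h
          push Not at h
          exact hsimple.2.1 ((Subgroup.eq_bot_iff_forall S).2 h)
        refine ⟨⟨ι ⟨s, hs1⟩, 1, fun h => hs2 ?_⟩⟩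
        have := hι.1 (h.trans (map_one ι).symm)
        exact congrArg Subtype.val this
      obtain ⟨N, hN, hNbot, hNtop⟩ : ∃ N : Subgroup G, N.Normal ∧ N ≠ ⊥ ∧ N ≠ ⊤ := by
        by_contra h
        apply hs
        refine ⟨fun H hH => ?_⟩
        by_contra h2
        push Not at h2
        exact h ⟨H, hH, h2.1, h2.2⟩
      have hEn := nsub_isNormalIn p F hsimple.1 hι P₀ hP₀ N
      rcases hsimple.2.2 (pre ι N) (nsub hι.1 N) hEn with hT | ⟨hT, hE⟩
      · obtain ⟨h1, h2⟩ := realized_quotient p hS F hι P₀ hP₀ N hT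
        have hlt : Nat.card (G ⧸ N) < k := by
          rw [← hk, Subgroup.card_eq_card_quotient_mul_card_subgroup N]
          have h3 : 1 < Nat.card N := N.one_lt_card_iff_ne_bot.mpr hNbot
          have h4 : 0 < Nat.card (G ⧸ N) := Nat.card_pos
          nlinarith
        exact ih _ hlt (G ⧸ N) _ rfl h1 h2
      · obtain ⟨ι', h1, h2⟩ := realized_sub p F hι P₀ hP₀ N hT hE
        have hlt : Nat.card N < k := by
          rw [← hk]
          exact lt_of_le_of_ne (Subgroup.card_le_card_group N)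
            (fun h => hNtop ((Subgroup.card_eq_iff_eq_top N).1 h))
        exact ih _ hlt N ι' rfl h1 h2

end Cfsg.Agent.Helper88
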