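import Mathlib
import Cfsg.Prelude.Def_GeometricClasses
import Cfsg.Prelude.Def_Classical
import Cfsg.Agent.Helper65.S74Defs
import Cfsg.Agent.Helper35.TSSTDP
import Cfsg.Agent.Helper53.S74CAUH
import Cfsg.Agent.Helper50.S88ORD
import Cfsg.Agent.Helper96.S88BadEl
import Cfsg.Agent.Helper88.S74OEBCore

set_option autoImplicit false
set_option linter.unusedSectionVars false
set_option linter.unusedVariables false

/-!
# helper88: CALL S74 (helper65, row S5974), stage OEB modulo NDIVH (`s74_even_bad_mid`)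

`s74_even_bad` verbatim plus ONE hypothesis `hndivH` (the non-divisibility statement NDIVH in the
row wording).  Assembled from CAUH (helper53 `s74_cauchy`), ORD (helper50 `s88_ord`), the bad
elements of helper96 (`s88_bad_even`) and `s74_even_bad_of`.
-/

namespace Cfsg.Agent.Helper88.S74

open Module Cfsg Cfsg.Geo Cfsg.Agent.Helper65.S74
open scoped MatrixGroups

variable {F : Type*} [Field F] [Fintype F]

/-- OEB modulo NDIVH. -/
theorem s74_even_bad_mid {p : ℕ} [Fact p.Prime] [CharP F p] {q : ℕ} (hq : Fintype.card F = q)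
    (d m : ℕ) (hd : 4 ≤ d) (hm : 2 ≤ m) (hme : Even m) (hmd : m < d) (r : ℕ) [Fact r.Prime]
    (hr2 : 2 < r) (hrp : r ≠ p) (i : ℕ) (hi : i = orderOf (q : ZMod r)) (heven : Even i)
    (hrΩ : r ∣ Nat.card {W : Submodule F (Fin d ⊕ Fin d → F) // (Module.finrank F ↥W = m ∧
      (∀ u ∈ W, u ≠ 0 → ∃ v ∈ W, QuadraticMap.polar (Cfsg.quadFormPlus d F) u v ≠ 0) ∧
      ∃ U : Submodule F (Fin d ⊕ Fin d → F), U ≤ W ∧ 2 * Module.finrank F ↥U = m ∧
        ∀ u ∈ U, Cfsg.quadFormPlus d F u = 0)})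
    (hall : AllHyp (Cfsg.quadFormPlus d F) r m)
    (hndivH : i ≤ 2 * d → m < i →
      (m < (2 * d) % i ∨ (m = (2 * d) % i ∧ Even ((2 * d) / i))) →
      ¬ r ∣ Nat.card {W : Submodule F (Fin d ⊕ Fin d → F) // (Module.finrank F ↥W = m ∧
        (∀ u ∈ W, u ≠ 0 → ∃ v ∈ W, QuadraticMap.polar (Cfsg.quadFormPlus d F) u v ≠ 0) ∧
        ∃ U : Submodule F (Fin d ⊕ Fin d → F), U ≤ W ∧ 2 * Module.finrank F ↥U = m ∧
          ∀ u ∈ U, Cfsg.quadFormPlus d F u = 0)}) :
    ((2 * d) % i = 0 ∧ (Odd ((2 * d) / i) ∨ (m % i = 0 ∧ Even (m / i)))) ∨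
      (i ≤ m ∧ ((m % i < (2 * d) % i ∧ 0 < m % i) ∨
        ((2 * d) % i = m % i ∧ 0 < m % i ∧ Even ((2 * d + m - 2 * ((2 * d) % i)) / i)) ∨
        (0 < (2 * d) % i ∧ m % i = 0 ∧ Even (m / i)))) := by
  classical
  have hQ := (Cfsg.Agent.Helper35.TS5973.ts_std_plus (F := F) d).1
  have hpl := (Cfsg.Agent.Helper35.TS5973.ts_std_plus (F := F) d).2
  have hcard : Fintype.card (Fin d ⊕ Fin d) = 2 * d := by simp; omega
  have hc : i = if Even i then i else 2 * i := by rw [if_pos heven]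
  obtain ⟨x0, hx0, hx0r, hx01⟩ :=
    Cfsg.Agent.Helper53.S74.s74_cauchy (Cfsg.quadFormPlus d F) hQ d m hcard hpl hm hme hmd r hrΩ
  have hid : i ≤ 2 * d :=
    Cfsg.Agent.Helper50.S88.s88_ord hq (Cfsg.quadFormPlus d F) hQ d hcard r hr2 hrp i i hi hc
      x0 hx0 hx0r hx01
  refine s74_even_bad_of hq d m hm hme r hr2 hrp i hi heven ?_ ?_ hall
  · intro hadm
    exact Cfsg.Agent.Helper96.S88E.s88_bad_even p d hd r hr2 hrp i (by rw [hq]; exact hi)
      heven hid hadm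
  · intro hlt hk
    exact hndivH hid hlt hk hrΩ

end Cfsg.Agent.Helper88.S74
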