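import Mathlib
import Cfsg.Prelude.Def_GeometricClasses
import Cfsg.Prelude.Def_Classical
import Cfsg.Agent.Helper65.S74Defs
import Cfsg.Agent.Helper35.TSSTDP
import Cfsg.Agent.Helper86.S74NDIVH
import Cfsg.Agent.Helper88.S74OEBmid

set_option autoImplicit false
set_option linter.unusedSectionVars false
set_option linter.unusedVariables false

/-!
# helper88: CALL S74 (helper65, row S5974), stage OEB (`s74_even_bad`, verbatim)

`s74_even_bad_mid` (Helper88/S74OEBmid.lean: CAUH of helper53, ORD of helper50, bad elements of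
helper96, hyperbolic port of helper96's OEB core) with helper86's NDIVH `s74_ndiv`.
-/

namespace Cfsg.Agent.Helper88.S74

open Module Cfsg Cfsg.Geo Cfsg.Agent.Helper65.S74
open scoped MatrixGroups

variable {F : Type*} [Field F] [Fintype F]

/-- OEB. -/
theorem s74_even_bad {p : ℕ} [Fact p.Prime] [CharP F p] {q : ℕ} (hq : Fintype.card F = q)
    (d m : ℕ) (hd : 4 ≤ d) (hm : 2 ≤ m) (hme : Even m) (hmd : m < d) (r : ℕ) [Fact r.Prime]
    (hr2 : 2 < r) (hrp : r ≠ p) (i : ℕ) (hi : i = orderOf (q : ZMod r)) (heven : Even i)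
    (hrΩ : r ∣ Nat.card {W : Submodule F (Fin d ⊕ Fin d → F) // (Module.finrank F ↥W = m ∧
      (∀ u ∈ W, u ≠ 0 → ∃ v ∈ W, QuadraticMap.polar (Cfsg.quadFormPlus d F) u v ≠ 0) ∧
      ∃ U : Submodule F (Fin d ⊕ Fin d → F), U ≤ W ∧ 2 * Module.finrank F ↥U = m ∧
        ∀ u ∈ U, Cfsg.quadFormPlus d F u = 0)})
    (hall : AllHyp (Cfsg.quadFormPlus d F) r m) :
    ((2 * d) % i = 0 ∧ (Odd ((2 * d) / i) ∨ (m % i = 0 ∧ Even (m / i)))) ∨
      (i ≤ m ∧ ((m % i < (2 * d) % i ∧ 0 < m % i) ∨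
        ((2 * d) % i = m % i ∧ 0 < m % i ∧ Even ((2 * d + m - 2 * ((2 * d) % i)) / i)) ∨
        (0 < (2 * d) % i ∧ m % i = 0 ∧ Even (m / i)))) := by
  classical
  have hQ := (Cfsg.Agent.Helper35.TS5973.ts_std_plus (F := F) d).1
  have hpl := (Cfsg.Agent.Helper35.TS5973.ts_std_plus (F := F) d).2
  have hcard : Fintype.card (Fin d ⊕ Fin d) = 2 * d := by simp; omega
  have hc : i = if Even i then i else 2 * i := by rw [if_pos heven]
  refine s74_even_bad_mid hq d m hd hm hme hmd r hr2 hrp i hi heven hrΩ hall ?_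
  intro hid hlt hk
  refine Cfsg.Agent.Helper86.S74.s74_ndiv hq (Cfsg.quadFormPlus d F) hQ d m hcard hpl hm hme hmd
    r hr2 hrp i i hi hc hlt hid ?_
  rcases hk with h | ⟨h1, h2⟩
  · exact Or.inl h
  · exact Or.inr ⟨h1, Or.inr h2⟩

end Cfsg.Agent.Helper88.S74
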