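import Mathlib
import Cfsg.Agent.Helper67.S77Defs

/-! helper88: piece F17 of CALL S0429 (helper67). -/

set_option autoImplicit false
set_option linter.unusedSectionVars false

namespace Cfsg.Agent.Helper88.S77F17

open Finset Cfsg.Agent.Helper67.S77

variable {V : Type*} [Fintype V] [DecidableEq V] {G : SimpleGraph V} [DecidableRel G.Adj]

theorem p_F17 (hG : G.IsSRGWith 77 16 0 4) (h10 : F10 G) (h11 : F11 G) (h16 : F16 G)
    (h17a : F17a G) (h17b : F17b G) : F17 G := by
  intro x y z hxy hxz hyz ht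
  have hK : IsLine G (lineOf G y z) := h10 y z hyz
  obtain ⟨hxK, hxadj⟩ := h17a x y z hxy hxz hyz ht
  have hC₀ := h17b (lineOf G y z) hK x hxK hxadj
  have hyK : y ∈ lineOf G y z := by
    rw [mem_lineOf]
    exact Or.inl rfl
  have hzK : z ∈ lineOf G y z := by
    rw [mem_lineOf]
    exact Or.inr (Or.inl rfl)
  refine ⟨(lineOf G y z).biUnion (fun v => lineOf G x v), ⟨hC₀, ?_, ?_, ?_⟩, ?_⟩
  · rw [Finset.mem_biUnion]
    exact ⟨y, hyK, by rw [mem_lineOf]; exact Or.inl rfl⟩
  · rw [Finset.mem_biUnion]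
    exact ⟨y, hyK, by rw [mem_lineOf]; exact Or.inr (Or.inl rfl)⟩
  · rw [Finset.mem_biUnion]
    exact ⟨z, hzK, by rw [mem_lineOf]; exact Or.inr (Or.inl rfl)⟩
  · rintro C ⟨hC, hxC, hyC, hzC⟩
    have hKC : ∀ v ∈ lineOf G y z, v ∈ C := by
      intro v hv
      rw [mem_lineOf] at hv
      rcases hv with rfl | rfl | hv
      · exact hyC
      · exact hzC
      · exact (h16 C hC y hyC z hzC hyz.1).1 hv
    have hsub : (lineOf G y z).biUnion (fun v => lineOf G x v) ⊆ C := by
      intro u hu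
      rw [Finset.mem_biUnion] at hu
      obtain ⟨v, hv, hu⟩ := hu
      have hvC := hKC v hv
      have hxv : x ≠ v := fun h => hxK (h ▸ hv)
      rw [mem_lineOf] at hu
      rcases hu with rfl | rfl | hu
      · exact hxC
      · exact hvC
      · exact (h16 C hC x hxC v hvC hxv).1 hu
    exact (Finset.eq_of_subset_of_card_le hsub (by rw [hC.1, hC₀.1])).symm

end Cfsg.Agent.Helper88.S77F17
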