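import Mathlib
import Cfsg.Prelude.Def_GeometricClasses
import Cfsg.Prelude.Def_Classical
import Cfsg.Agent.Helper35.S88Defs
import Cfsg.Agent.Helper58.TSDefs
import Cfsg.Agent.Helper43.PrimeOrdO3
import Cfsg.Agent.Helper33.OType
import Cfsg.Agent.Helper43.S88OEDefs
import Cfsg.Agent.Helper88.S88OEBMof
import Cfsg.Agent.Helper35.ELSUBT
import Cfsg.Agent.Helper98.S88OEBSPLIT

set_option autoImplicit false

/-!
# helper88: sub-CALL S88OE (helper43, row S5988), piece BM (`oe_bad_model`, verbatim)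

`oe_bad_model_of` with helper98's BSPLIT `oe_bad_split`; MODEL0 is proved here under the fresh name
`bm_model0_88` (from helper35's `el_model`).
-/

namespace Cfsg.Agent.Helper88.S88OE

open Module Polynomial Cfsg Cfsg.Geo Cfsg.Agent.Helper58.TS Cfsg.Agent.Helper35.S88
open Cfsg.Agent.Helper43 Cfsg.Agent.Helper43.OrthEven Cfsg.Agent.Helper43.CycFactors
  Cfsg.Agent.Helper43.PrimeOrdMat Cfsg.Agent.Helper43.S88OE
open scoped MatrixGroups

universe u

section fin

variable {F : Type u} [Field F] [Fintype F]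

/-- MODEL0 (own copy): a nondegenerate space of dimension `2 k` of prescribed type. -/
theorem bm_model0_88 (k : ℕ) (b : Prop) (hb : k = 0 → b) :
    ∃ (V₀ : Type u) (_ : AddCommGroup V₀) (_ : Module F V₀) (_ : FiniteDimensional F V₀)
      (Q₀ : QuadraticForm F V₀), PolarNondeg Q₀ ∧ finrank F V₀ = 2 * k ∧ (HasTS Q₀ k ↔ b) := by
  rcases Nat.eq_zero_or_pos k with hk | hk
  · subst hk
    refine ⟨PUnit.{u + 1}, inferInstance, inferInstance, inferInstance, 0, ?_, ?_, ?_⟩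
    · intro v _
      exact Subsingleton.elim _ _
    · rw [Module.finrank_zero_of_subsingleton]
    · exact ⟨fun _ => hb rfl, fun _ => ⟨⊥, Nat.zero_le _, fun u _ => rfl⟩⟩
  · exact Cfsg.Agent.Helper35.EL.el_model (F := F) k hk b

/-- BM: the bad model for the profile `(A, k₀)`. -/
theorem oe_bad_model (p : ℕ) [Fact p.Prime] [CharP F p] (r : ℕ) [Fact r.Prime] (hr2 : 2 < r)
    (hrp : r ≠ p) (heven : Even (orderOf ((Fintype.card F : ℕ) : ZMod r))) (A k₀ : ℕ)
    (hA : 1 ≤ A) (hk₀ : k₀ = 0 → Even A) :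
    ∃ (V' : Type u) (_ : AddCommGroup V') (_ : Module F V') (_ : FiniteDimensional F V')
      (Q' : QuadraticForm F V') (T' : Module.End F V'),
      PolarNondeg Q' ∧
      finrank F V' = 2 * (k₀ + orderOf ((Fintype.card F : ℕ) : ZMod r) / 2 * A) ∧
      HasTS Q' (k₀ + orderOf ((Fintype.card F : ℕ) : ZMod r) / 2 * A) ∧
      (∀ v, Q' (T' v) = Q' v) ∧ T' ^ r = 1 ∧ T' ≠ 1 ∧
      ∀ (l : ℕ) (W : Submodule F V'), InvEllSub Q' T' l W →
        ∃ s w₂, Val A k₀ s w₂ ∧
          l = orderOf ((Fintype.card F : ℕ) : ZMod r) / 2 * s + w₂ :=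
  oe_bad_model_of p r hr2 hrp heven A k₀ hA hk₀
    (bm_model0_88 (F := F) k₀ (Even A) hk₀)
    (fun Q₀ Q₁ T₁ hblk l W hW hWdim hWnd =>
      Cfsg.Agent.Helper98.S88OE.oe_bad_split p r hr2 hrp heven Q₀ Q₁ T₁ hblk l W hW hWdim hWnd)

end fin

end Cfsg.Agent.Helper88.S88OE
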