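import Mathlib
import Cfsg.Agent.Helper64.UCDefs
import Cfsg.Agent.Helper88.STUS4B

/-! helper88: piece S4A of CALL S2100 (helper64) (double). -/

set_option autoImplicit false
set_option linter.unusedSimpArgs false
set_option linter.unusedSectionVars false

namespace Cfsg.Agent.Helper88.STUS4A

open Cfsg Cfsg.Lie Cfsg.Agent.Helper36 Cfsg.Agent.Helper64.UC Cfsg.Agent.Helper88.STUS4B

variable {K : Type*} [Field K] {E : Type*} [Group E]

/-- the normal-form computation behind the shape 4a -/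
theorem core4a88 (A B1 B2 B3 Z : K → E)
    (hA : ∀ t u : K, A t * A u = A (t + u)) (hB1 : ∀ t u : K, B1 t * B1 u = B1 (t + u))
    (hB2 : ∀ t u : K, B2 t * B2 u = B2 (t + u)) (hB3 : ∀ t u : K, B3 t * B3 u = B3 (t + u))
    (hZ : ∀ t u : K, Z t * Z u = Z (t + u)) (N M : K)
    (cN : ∀ t u : K, B3 u * A t = A t * B3 u * Z (N * (-t) * u))
    (cM : ∀ t u : K, B2 u * B1 t = B1 t * B2 u * Z (M * (-t) * u))
    (c1 : ∀ t u : K, B1 u * A t = A t * B1 u)
    (c2 : ∀ t u : K, B2 u * A t = A t * B2 u)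
    (c4 : ∀ t u : K, Z u * A t = A t * Z u)
    (c13 : ∀ t u : K, B3 u * B1 t = B1 t * B3 u)
    (c14 : ∀ t u : K, Z u * B1 t = B1 t * Z u)
    (c23 : ∀ t u : K, B3 u * B2 t = B2 t * B3 u)
    (c24 : ∀ t u : K, Z u * B2 t = B2 t * Z u)
    (c34 : ∀ t u : K, Z u * B3 t = B3 t * Z u)
    (t t' a1 a2 a3 a4 a1' a2' a3' a4' a4'' : K) :
    ∃ P : K, A t * (B1 a1 * (B2 a2 * (B3 a3 * Z a4))) *
        (A t' * (B1 a1' * (B2 a2' * (B3 a3' * Z a4')))) =
      A (t + t') * (B1 (a1 + a1') * (B2 (a2 + a2') * (B3 (a3 + a3') * Z a4''))) * Z P := by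
  have hA' : ∀ (t u : K) (w : E), A t * (A u * w) = A (t + u) * w := fun t u w => by
    rw [← mul_assoc, hA]
  have hB1' : ∀ (t u : K) (w : E), B1 t * (B1 u * w) = B1 (t + u) * w := fun t u w => by
    rw [← mul_assoc, hB1]
  have hB2' : ∀ (t u : K) (w : E), B2 t * (B2 u * w) = B2 (t + u) * w := fun t u w => by
    rw [← mul_assoc, hB2]
  have hB3' : ∀ (t u : K) (w : E), B3 t * (B3 u * w) = B3 (t + u) * w := fun t u w => by
    rw [← mul_assoc, hB3]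
  have hZ' : ∀ (t u : K) (w : E), Z t * (Z u * w) = Z (t + u) * w := fun t u w => by
    rw [← mul_assoc, hZ]
  have cN' : ∀ (t u : K) (w : E), B3 u * (A t * w) = A t * (B3 u * (Z (N * (-t) * u) * w)) :=
    fun t u w => by rw [← mul_assoc, cN, mul_assoc, mul_assoc]
  have cM' : ∀ (t u : K) (w : E), B2 u * (B1 t * w) = B1 t * (B2 u * (Z (M * (-t) * u) * w)) :=
    fun t u w => by rw [← mul_assoc, cM, mul_assoc, mul_assoc]
  have c1' : ∀ (t u : K) (w : E), B1 u * (A t * w) = A t * (B1 u * w) := fun t u w => by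
    rw [← mul_assoc, c1, mul_assoc]
  have c2' : ∀ (t u : K) (w : E), B2 u * (A t * w) = A t * (B2 u * w) := fun t u w => by
    rw [← mul_assoc, c2, mul_assoc]
  have c4' : ∀ (t u : K) (w : E), Z u * (A t * w) = A t * (Z u * w) := fun t u w => by
    rw [← mul_assoc, c4, mul_assoc]
  have c13' : ∀ (t u : K) (w : E), B3 u * (B1 t * w) = B1 t * (B3 u * w) := fun t u w => by
    rw [← mul_assoc, c13, mul_assoc]
  have c14' : ∀ (t u : K) (w : E), Z u * (B1 t * w) = B1 t * (Z u * w) := fun t u w => by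
    rw [← mul_assoc, c14, mul_assoc]
  have c23' : ∀ (t u : K) (w : E), B3 u * (B2 t * w) = B2 t * (B3 u * w) := fun t u w => by
    rw [← mul_assoc, c23, mul_assoc]
  have c24' : ∀ (t u : K) (w : E), Z u * (B2 t * w) = B2 t * (Z u * w) := fun t u w => by
    rw [← mul_assoc, c24, mul_assoc]
  have c34' : ∀ (t u : K) (w : E), Z u * (B3 t * w) = B3 t * (Z u * w) := fun t u w => by
    rw [← mul_assoc, c34, mul_assoc]
  refine ⟨a4 + a4' - a4'' - N * t' * a3 - M * a1' * a2, ?_⟩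
  simp only [mul_assoc, cN, cM, c1, c2, c4, c13, c14, c23, c24, c34, cN', cM', c1', c2', c4',
    c13', c14', c23', c24', c34', hA, hB1, hB2, hB3, hZ, hA', hB1', hB2', hB3', hZ']
  apply norm_eq88 <;> ring

/-- PIECE S4A: terms `(k₁; 1, 1), (k₂; 2, 1), (k₃; 3, 1), (k₄; 3, 2)`. -/
theorem s4a_res (D : ChevalleyDatum) (y : ℕ → K → E)
    (hy : ∀ (r : ℕ) (t u : K), y r t * y r u = y r (t + u)) {r s k1 k2 k3 k4 : ℕ}
    (hsig : sig D r s = [(k1, 1, 1), (k2, 2, 1), (k3, 3, 1), (k4, 3, 2)]) (N M : K)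
    (cN : ∀ t u : K, y k3 u * y s t = y s t * y k3 u * y k4 (N * (-t) * u))
    (cM : ∀ t u : K, y k2 u * y k1 t = y k1 t * y k2 u * y k4 (M * (-t) * u))
    (c1 : ∀ t u : K, y k1 u * y s t = y s t * y k1 u)
    (c2 : ∀ t u : K, y k2 u * y s t = y s t * y k2 u)
    (c4 : ∀ t u : K, y k4 u * y s t = y s t * y k4 u)
    (c13 : ∀ t u : K, y k3 u * y k1 t = y k1 t * y k3 u)
    (c14 : ∀ t u : K, y k4 u * y k1 t = y k1 t * y k4 u)
    (c23 : ∀ t u : K, y k3 u * y k2 t = y k2 t * y k3 u)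
    (c24 : ∀ t u : K, y k4 u * y k2 t = y k2 t * y k4 u)
    (c34 : ∀ t u : K, y k4 u * y k3 t = y k3 t * y k4 u) :
    ∀ t u u' : K, ∃ P : K, y s u * sW y (D.commWord K r s t u) *
        (y s u' * sW y (D.commWord K r s t u')) =
      y s (u + u') * sW y (D.commWord K r s t (u + u')) * y k4 P := by
  intro t u u'
  unfold sig at hsig
  obtain ⟨C1, C2, C3, C4, hct⟩ := commTerms_of_sig4_88 _ _ _ _ _ _ _ _ _ _ _ _ _ hsig
  have hw : ∀ u : K, sW y (D.commWord K r s t u) =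
      y k1 ((C1 : K) * (-t) ^ 1 * u ^ 1) * (y k2 ((C2 : K) * (-t) ^ 2 * u ^ 1) *
        (y k3 ((C3 : K) * (-t) ^ 3 * u ^ 1) * y k4 ((C4 : K) * (-t) ^ 3 * u ^ 2))) := by
    intro u
    unfold ChevalleyDatum.commWord
    rw [hct]
    simp only [List.map_cons, List.map_nil, sW_cons, sW_nil, mul_one]
  rw [hw u, hw u', hw (u + u')]
  have e1 : (C1 : K) * (-t) ^ 1 * (u + u') ^ 1 = C1 * (-t) ^ 1 * u ^ 1 + C1 * (-t) ^ 1 * u' ^ 1 := by
    ring
  have e2 : (C2 : K) * (-t) ^ 2 * (u + u') ^ 1 = C2 * (-t) ^ 2 * u ^ 1 + C2 * (-t) ^ 2 * u' ^ 1 := by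
    ring
  have e3 : (C3 : K) * (-t) ^ 3 * (u + u') ^ 1 = C3 * (-t) ^ 3 * u ^ 1 + C3 * (-t) ^ 3 * u' ^ 1 := by
    ring
  rw [e1, e2, e3]
  exact core4a88 (y s) (y k1) (y k2) (y k3) (y k4) (hy s) (hy k1) (hy k2) (hy k3) (hy k4) N M
    cN cM c1 c2 c4 c13 c14 c23 c24 c34 u u' _ _ _ _ _ _ _ _ _

end Cfsg.Agent.Helper88.STUS4A
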