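import Cfsg.Agent.Helper88.SmallCrit
import Cfsg.Agent.Helper88.CentricCent
import Cfsg.Agent.Helper88.FusionAlperin
import Cfsg.Agent.Helper88.FusionE
import Cfsg.Agent.Helper88.FusionF
import Cfsg.Agent.Helper84.FusionNK
import Cfsg.Agent.Helper84.FusionNormal
import Cfsg.Agent.Helper84.ModelSub

/-!
# Small-exponent abelian subgroups control fusion (Benson–Grodal–Henke), helper88

`small_abelian_control`: saturated `E ≤ F` over `S` with the same maps on all abelian subgroups of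
exponent `p` (or `4` when `p = 2`) inside a subgroup `W` that is closed under the maps of `F` and
contains all `x⁻¹ α(x)` for `α` of order prime to `p` are equal.

The proof is an induction over triples `(E, F, V)` with `V` a small abelian subgroup normal in `F`,
through the centralizer system of `V` and the normalizer systems of small abelian subgroups properly
containing `V`.
-/

set_option autoImplicit false

namespace Cfsg.Agent.Helper88

open Cfsg Cfsg.FusionSystem

open scoped commutatorElement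

variable {Ω : Type*} [Group Ω] {S : Subgroup Ω}

/-! ### Small abelian subgroups -/

/-- `A` is abelian and all its elements have order dividing `p` (or `4` when `p = 2`). -/
def SmallAb (p : ℕ) (A : Subgroup Ω) : Prop :=
  (∀ a ∈ A, ∀ b ∈ A, a * b = b * a) ∧ ∀ a ∈ A, Sm p a

/-- Every element of `A` is a product of an element of `W` and an element of `V`. -/
def InWV (W V A : Subgroup Ω) : Prop := ∀ a ∈ A, ∃ w ∈ W, ∃ v ∈ V, a = w * v

theorem mem_sup_of_commute {A B : Subgroup Ω} (hc : ∀ a ∈ A, ∀ b ∈ B, a * b = b * a) {x : Ω}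
    (hx : x ∈ A ⊔ B) : ∃ a ∈ A, ∃ b ∈ B, x = a * b := by
  rw [Subgroup.sup_eq_closure] at hx
  induction hx using Subgroup.closure_induction with
  | mem x hx =>
    rcases hx with h | h
    · exact ⟨x, h, 1, B.one_mem, (mul_one x).symm⟩
    · exact ⟨1, A.one_mem, x, h, (one_mul x).symm⟩
  | one => exact ⟨1, A.one_mem, 1, B.one_mem, (mul_one 1).symm⟩
  | mul x y _ _ ihx ihy =>
    obtain ⟨a, ha, b, hb, rfl⟩ := ihx
    obtain ⟨a', ha', b', hb', rfl⟩ := ihy
    refine ⟨a * a', A.mul_mem ha ha', b * b', B.mul_mem hb hb', ?_⟩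
    calc a * b * (a' * b') = a * (b * a') * b' := by group
      _ = a * (a' * b) * b' := by rw [hc a' ha' b hb]
      _ = a * a' * (b * b') := by group
  | inv x _ ih =>
    obtain ⟨a, ha, b, hb, rfl⟩ := ih
    refine ⟨a⁻¹, A.inv_mem ha, b⁻¹, B.inv_mem hb, ?_⟩
    rw [mul_inv_rev]
    exact (hc _ (A.inv_mem ha) _ (B.inv_mem hb)).symm

theorem SmallAb.sup {p : ℕ} {A B : Subgroup Ω} (hA : SmallAb p A) (hB : SmallAb p B)
    (hc : ∀ a ∈ A, ∀ b ∈ B, a * b = b * a) : SmallAb p (A ⊔ B) := by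
  refine ⟨fun x hx y hy => ?_, fun x hx => ?_⟩
  · obtain ⟨a, ha, b, hb, rfl⟩ := mem_sup_of_commute hc hx
    obtain ⟨a', ha', b', hb', rfl⟩ := mem_sup_of_commute hc hy
    calc a * b * (a' * b') = a * (b * a') * b' := by group
      _ = a * (a' * b) * b' := by rw [hc a' ha' b hb]
      _ = (a * a') * (b * b') := by group
      _ = (a' * a) * (b' * b) := by rw [hA.1 a ha a' ha', hB.1 b hb b' hb']
      _ = a' * (a * b') * b := by group
      _ = a' * (b' * a) * b := by rw [hc a ha b' hb']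
      _ = a' * b' * (a * b) := by group
  · obtain ⟨a, ha, b, hb, rfl⟩ := mem_sup_of_commute hc hx
    exact (hA.2 a ha).mul (hB.2 b hb) (hc a ha b hb)

theorem smallAb_zpowers {p : ℕ} {y : Ω} (hy : Sm p y) : SmallAb p (Subgroup.zpowers y) := by
  refine ⟨fun a ha b hb => ?_, fun a ha => ?_⟩
  · obtain ⟨i, rfl⟩ := Subgroup.mem_zpowers_iff.mp ha
    obtain ⟨j, rfl⟩ := Subgroup.mem_zpowers_iff.mp hb
    rw [← zpow_add, ← zpow_add, add_comm]
  · obtain ⟨i, rfl⟩ := Subgroup.mem_zpowers_iff.mp ha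
    exact hy.zpow i

theorem smallAb_bot {p : ℕ} : SmallAb p (⊥ : Subgroup Ω) := by
  refine ⟨fun a ha b hb => ?_, fun a ha => ?_⟩
  · rw [Subgroup.mem_bot] at ha hb
    rw [ha, hb]
  · rw [Subgroup.mem_bot] at ha
    rw [ha]
    exact sm_one

theorem sm_coe {p : ℕ} {A : Subgroup Ω} (a : A) : Sm p (a : Ω) ↔ Sm p a := by
  unfold Sm
  rw [← Subgroup.coe_pow, ← Subgroup.coe_pow, OneMemClass.coe_eq_one, OneMemClass.coe_eq_one]

theorem SmallAb.img {F : FusionSystem S} {p : ℕ} {A : Subgroup Ω} {f : Ω → Ω} (hA : SmallAb p A)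
    (hf : IsMap F A f) : SmallAb p (img A f) := by
  refine ⟨fun x hx y hy => ?_, fun x hx => ?_⟩
  · obtain ⟨a, ha, rfl⟩ := hf.mem_img.mp hx
    obtain ⟨b, hb, rfl⟩ := hf.mem_img.mp hy
    rw [← hf.map_mul ha hb, ← hf.map_mul hb ha, hA.1 a ha b hb]
  · obtain ⟨a, ha, rfl⟩ := hf.mem_img.mp hx
    obtain ⟨φ, hφ, hfφ⟩ := hf
    rw [← hfφ ⟨a, ha⟩]
    exact ((sm_coe (⟨a, ha⟩ : A)).mp (hA.2 a ha)).map φ

theorem inWV_self (W V : Subgroup Ω) : InWV W V V :=
  fun v hv => ⟨1, W.one_mem, v, hv, (one_mul v).symm⟩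

theorem InWV.sup {W V A B : Subgroup Ω} (hB : InWV W A B) (hA : InWV W V A)
    (hc : ∀ b ∈ B, ∀ a ∈ A, b * a = a * b) : InWV W V (B ⊔ A) := by
  intro x hx
  obtain ⟨b, hb, a, ha, rfl⟩ := mem_sup_of_commute hc hx
  obtain ⟨w, hw, a₁, ha₁, rfl⟩ := hB b hb
  obtain ⟨w₂, hw₂, v, hv, h2⟩ := hA (a₁ * a) (A.mul_mem ha₁ ha)
  refine ⟨w * w₂, W.mul_mem hw hw₂, v, hv, ?_⟩
  rw [mul_assoc, h2, mul_assoc]

theorem InWV.img {F : FusionSystem S} {W V A : Subgroup Ω} {f : Ω → Ω} (hA : InWV W V A)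
    (hf : IsMap F A f) (hVA : V ≤ A) (hW : ∀ x ∈ A, x ∈ W → f x ∈ W) (hV : ∀ v ∈ V, f v ∈ V) :
    InWV W V (img A f) := by
  intro y hy
  obtain ⟨a, ha, rfl⟩ := hf.mem_img.mp hy
  obtain ⟨w, hw, v, hv, rfl⟩ := hA a ha
  have hwA : w ∈ A := by
    have e : w = w * v * v⁻¹ := by group
    rw [e]
    exact A.mul_mem ha (A.inv_mem (hVA hv))
  exact ⟨f w, hW w hwA hw, f v, hV v hv, hf.map_mul hwA (hVA hv)⟩

/-! ### Normalizer and centralizer systems through ambient maps -/

/-- Ambient form of membership in the normalizer system `N_F(Q)`. -/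
def IsNMap (F : FusionSystem S) (Q P : Subgroup Ω) (f : Ω → Ω) : Prop :=
  IsMap F P f ∧ P ≤ normalizerIn S Q ∧ (∀ x ∈ P, f x ∈ normalizerIn S Q) ∧
    ∃ f', IsMap F (P ⊔ Q) f' ∧ (∀ x ∈ P, f' x = f x) ∧ ∀ x ∈ Q, f' x ∈ Q

theorem mem_normalizerHom_iff [Finite S] (F : FusionSystem S) (Q : Subgroup Ω) {P : Subgroup Ω}
    (φ : P →* Ω) : φ ∈ F.normalizerHom Q P ↔ IsNMap F Q P (extHom φ) := by
  constructor
  · rintro ⟨hφ, hP, hval, ψ, hψ, hψφ, hψQ⟩
    refine ⟨isMap_extHom hφ, hP, fun x hx => ?_, extHom ψ, isMap_extHom hψ, fun x hx => ?_,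
      fun z hz => ?_⟩
    · rw [extHom_apply' φ hx]; exact hval _
    · rw [extHom_apply' φ hx, extHom_apply' ψ (Subgroup.mem_sup_left hx)]
      exact hψφ ⟨x, hx⟩
    · rw [extHom_apply' ψ (Subgroup.mem_sup_right hz)]
      have h1 : ψ ⟨z, Subgroup.mem_sup_right hz⟩ ∈ (Q.subgroupOf (P ⊔ Q)).map ψ :=
        ⟨_, Subgroup.mem_subgroupOf.mpr hz, rfl⟩
      rw [hψQ] at h1
      exact h1
  · rintro ⟨hφ, hP, hval, f', hf', hf'P, hf'Q⟩
    obtain ⟨ψ, hψ, hψf⟩ := hf'
    have hQS : Q ≤ S := le_sup_right.trans (F.le_of_mem hψ).1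
    have : Finite Q := finite_of_le hQS
    refine ⟨(isMap_iff_hom F φ).mpr hφ, hP, fun x => ?_, ψ, hψ, fun x => ?_, ?_⟩
    · rw [← extHom_apply φ x]; exact hval x x.2
    · rw [hψf, ← extHom_apply φ x]
      exact hf'P x x.2
    · exact Helper84.map_subgroupOf_eq_of_forall_mem le_sup_right (F.injective_of_mem hψ)
        (fun x hx => by rw [hψf]; exact hf'Q x hx)

theorem IsNMap.congr {F : FusionSystem S} {Q P : Subgroup Ω} {f g : Ω → Ω} (h : IsNMap F Q P f)
    (hg : ∀ x ∈ P, g x = f x) : IsNMap F Q P g := by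
  obtain ⟨hf, hP, hval, f', hf', hf'P, hf'Q⟩ := h
  exact ⟨hf.congr hg, hP, fun x hx => by rw [hg x hx]; exact hval x hx, f', hf',
    fun x hx => by rw [hg x hx]; exact hf'P x hx, hf'Q⟩

theorem isMap_nsys_iff [Finite S] {F : FusionSystem S} {Q : Subgroup Ω}
    {N : FusionSystem (normalizerIn S Q)} (hN : F.IsNormalizerSystem Q N) {P : Subgroup Ω}
    {f : Ω → Ω} : IsMap N P f ↔ IsNMap F Q P f := by
  constructor
  · rintro ⟨φ, hφ, hf⟩
    rw [hN P] at hφ
    exact ((mem_normalizerHom_iff F Q φ).mp hφ).congr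
      (fun x hx => by rw [extHom_apply' φ hx]; exact (hf ⟨x, hx⟩).symm)
  · intro h
    obtain ⟨φ, hφ, hf⟩ := h.1
    refine ⟨φ, ?_, hf⟩
    rw [hN P]
    exact (mem_normalizerHom_iff F Q φ).mpr
      (h.congr (fun x hx => by rw [extHom_apply' φ hx]; exact hf ⟨x, hx⟩))

theorem isMap_csys_iff {F : FusionSystem S} {Z : Subgroup Ω}
    {C : FusionSystem (centralizerIn S Z)} (hC : F.IsCentralizerSystem Z C) {P : Subgroup Ω}
    {f : Ω → Ω} : IsMap C P f ↔ IsCMap F Z P f := by
  constructor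
  · rintro ⟨φ, hφ, hf⟩
    rw [hC P] at hφ
    exact ((mem_centralizerHom_iff F Z φ).mp hφ).congr
      (fun x hx => by rw [extHom_apply' φ hx]; exact (hf ⟨x, hx⟩).symm)
  · intro h
    obtain ⟨φ, hφ, hf⟩ := h.1
    refine ⟨φ, ?_, hf⟩
    rw [hC P]
    exact (mem_centralizerHom_iff F Z φ).mpr
      (h.congr (fun x hx => by rw [extHom_apply' φ hx]; exact hf ⟨x, hx⟩))

/-! ### Arithmetic of the measure -/

theorem ctl_measure_lt {a s v v' : ℕ} (h1 : a ≤ s) (h2 : v < v') (h3 : v' ≤ a) :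
    a ^ 2 + (a - v') < s ^ 2 + (s - v) := by
  rcases Nat.lt_or_ge a s with h | h
  · have h4 : (a + 1) ^ 2 ≤ s ^ 2 := Nat.pow_le_pow_left (by omega) 2
    have h5 : a - v' ≤ a := Nat.sub_le _ _
    nlinarith
  · have h4 : a = s := le_antisymm h1 h
    subst h4
    omega

theorem isPGroup_of_no_pprime {G : Type*} [Group G] [Finite G] {p : ℕ} [Fact p.Prime]
    (h : ∀ g : G, ∀ m : ℕ, m.Coprime p → g ^ m = 1 → g = 1) : IsPGroup p G := by
  intro g
  have hpp : p.Prime := Fact.out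
  obtain ⟨k, m, hm, he⟩ := Nat.exists_eq_pow_mul_and_not_dvd (orderOf_pos g).ne' p hpp.ne_one
  refine ⟨k, h _ m ?_ ?_⟩
  · exact ((Nat.Prime.coprime_iff_not_dvd hpp).mpr hm).symm
  · rw [← pow_mul, ← he]
    exact pow_orderOf_eq_one g

/-! ### The inductive statement -/

/-- The data of the induction: saturated `E ≤ F` over `S`, a small abelian subgroup `V`, and the
hypothesis that `E` and `F` have the same maps on the small abelian subgroups of `C_S(V)` inside
`W V`, where `W` is closed under the maps of `F` and contains the commutators with automorphisms of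
order prime to `p`. -/
structure Ctl (p : ℕ) (S : Subgroup Ω) (E F : FusionSystem S) (V W : Subgroup Ω) : Prop where
  hp : IsPGroup p S
  hE : E.IsSaturated p
  hF : F.IsSaturated p
  hle : E ≤ F
  hVS : V ≤ S
  hVsm : SmallAb p V
  hW1 : ∀ (P : Subgroup Ω) (f : Ω → Ω), IsMap F P f → ∀ x ∈ P, x ∈ W → f x ∈ W
  hW2 : ∀ R : Subgroup Ω, R ≤ S → ∀ α ∈ F.autGroup R, ∀ m : ℕ, m.Coprime p → α ^ m = 1 →
    ∀ x : R, (x : Ω)⁻¹ * ((α x : R) : Ω) ∈ W
  hH : ∀ A : Subgroup Ω, SmallAb p A → A ≤ centralizerIn S V → InWV W V A →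
    ∀ f : Ω → Ω, IsMap F A f → IsMap E A f

/-- The case where `V` is fixed elementwise by all maps of `F` defined on it. -/
theorem ctl_central {p : ℕ} [Fact p.Prime] {S : Subgroup Ω} [Finite S] {E F : FusionSystem S}
    {V W : Subgroup Ω} (h : Ctl p S E F V W)
    (hVc : ∀ (P : Subgroup Ω) (f : Ω → Ω), IsMap F P f → V ≤ P → ∀ v ∈ V, f v = v)
    (IH : ∀ (S' : Subgroup Ω) (_ : Finite S') (E' F' : FusionSystem S') (V' : Subgroup Ω),
      Nat.card S' ^ 2 + (Nat.card S' - Nat.card V') < Nat.card S ^ 2 + (Nat.card S - Nat.card V) →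
      Ctl p S' E' F' V' W → F'.IsNormal V' →
      ∀ (P : Subgroup Ω) (f : Ω → Ω), IsMap F' P f → IsMap E' P f) :
    ∀ (P : Subgroup Ω) (f : Ω → Ω), IsMap F P f → IsMap E P f := by
  have hS := h.hp
  have hVS := h.hVS
  have hVZ : ∀ v ∈ V, ∀ s ∈ S, s * v = v * s := by
    intro v hv s hs
    have h1 := hVc S (fun x => s * x * s⁻¹) (isMap_conj F le_rfl hs) hVS v hv
    have h1' : s * v * s⁻¹ = v := h1
    calc s * v = s * v * s⁻¹ * s := by group
      _ = v * s := by rw [h1']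
  have hCS : ∀ A₀ : Subgroup Ω, A₀ ≤ S → A₀ ≤ centralizerIn S V := fun A₀ hA₀ a ha =>
    mem_centralizerIn_iff.mpr ⟨hA₀ ha, fun v hv => (hVZ v hv a (hA₀ ha)).symm⟩
  -- maps defined on the normalizer of a small abelian subgroup properly containing `V`
  have hN' : ∀ A : Subgroup Ω, SmallAb p A → InWV W V A → V ≤ A → Nat.card V < Nat.card A →
      ∀ (P : Subgroup Ω) (f : Ω → Ω), A ≤ P → P ≤ normalizerIn S A → IsMap F P f → IsMap E P f := by
    intro A hAsm hAW hVA hcard P f hAP hPN hf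
    have hPS : P ≤ S := hf.le
    have hAS : A ≤ S := hAP.trans hPS
    have hfA : IsMap F A f := hf.restrict hAP
    have hfAE : IsMap E A f := h.hH A hAsm (hCS A hAS) hAW f hfA
    obtain ⟨A', hconj, hA'a, hA'r⟩ := h.hE A hAS
    have hA'S : A' ≤ S := hA'a.1
    obtain ⟨ρ, hρ, hρA⟩ := exists_normalizer_map hS hA'a hA'r hconj
    have hconj1 : E.IsConj (img A f) A' := isConj_trans E (isConj_symm E hfAE.isConj) hconj
    obtain ⟨ρ₁, hρ₁, hρ₁A⟩ := exists_normalizer_map hS hA'a hA'r hconj1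
    have hρAm : IsMap E A ρ := hρ.restrict (le_normalizerIn hAS)
    have hA'sm : SmallAb p A' := by rw [← hρA]; exact hAsm.img hρAm
    have hρV : ∀ v ∈ V, ρ v = v := fun v hv => hVc A ρ (hρAm.mono h.hle) hVA v hv
    have hVA' : V ≤ A' := by
      intro v hv
      rw [← hρA, ← hρV v hv]
      exact hρAm.apply_mem_img (hVA hv)
    have hA'W : InWV W V A' := by
      rw [← hρA]
      exact hAW.img hρAm hVA (fun x hx hxW => h.hW1 A ρ (hρAm.mono h.hle) x hx hxW)
        (fun v hv => by rw [hρV v hv]; exact hv)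
    have hcardA' : Nat.card A' = Nat.card A := by rw [← hρA]; exact hρAm.card_img
    have hA'nE : E.IsFullyNormalized A' := fullyNormalized_of_automized_receptive hS hA'a hA'r
    have hA'nF : F.IsFullyNormalized A' := by
      refine ⟨hA'S, fun Q hQ => hA'nE.2 Q ?_⟩
      obtain ⟨g, hg, rfl⟩ := (isConj_iff F).mp hQ
      exact (h.hH A' hA'sm (hCS A' hA'S) hA'W g hg).isConj
    obtain ⟨NE, hNE⟩ := Helper84.exists_normalizerSystem E A' hA'S
    obtain ⟨NF, hNF⟩ := Helper84.exists_normalizerSystem F A' hA'S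
    have hfin' : Finite ↥(normalizerIn S A') := finite_of_le inf_le_left
    have hA'N : A' ≤ normalizerIn S A' := le_normalizerIn hA'S
    have hctl : Ctl p (normalizerIn S A') NE NF A' W :=
      { hp := hS.to_le inf_le_left
        hE := Helper84.normalizerSystem_saturated p hS E h.hE A' hA'nE NE hNE
        hF := Helper84.normalizerSystem_saturated p hS F h.hF A' hA'nF NF hNF
        hle := by
          intro P φ hφ
          rw [hNE P] at hφ
          rw [hNF P]
          obtain ⟨h1, h2, h3, ψ, hψ, h4, h5⟩ := hφ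
          exact ⟨h.hle P h1, h2, h3, ψ, h.hle _ hψ, h4, h5⟩
        hVS := hA'N
        hVsm := hA'sm
        hW1 := fun P f hf => h.hW1 P f ((isMap_nsys_iff hNF).mp hf).1
        hW2 := by
          intro R hR α hα m hm hαm x
          have hRS : R ≤ S := hR.trans inf_le_left
          refine h.hW2 R hRS α ?_ m hm hαm x
          exact (mem_autGroup_iff F hRS α).mpr
            ((isMap_nsys_iff hNF).mp ((mem_autGroup_iff NF hR α).mp hα)).1
        hH := by
          intro B hB hBc hBW f hf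
          obtain ⟨hfF, hBN, hval, f', hf', hf'B, hf'A⟩ := (isMap_nsys_iff hNF).mp hf
          have hcomm : ∀ b ∈ B, ∀ a ∈ A', b * a = a * b :=
            fun b hb a ha => ((mem_centralizerIn_iff.mp (hBc hb)).2 a ha).symm
          have hsm : SmallAb p (B ⊔ A') := hB.sup hA'sm hcomm
          have hcen : B ⊔ A' ≤ centralizerIn S V :=
            hCS _ (sup_le (hBN.trans inf_le_left) hA'S)
          have hwv : InWV W V (B ⊔ A') := hBW.sup hA'W hcomm
          have hE' : IsMap E (B ⊔ A') f' := h.hH _ hsm hcen hwv f' hf'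
          exact (isMap_nsys_iff hNE).mpr
            ⟨(hE'.restrict le_sup_left).congr (fun x hx => (hf'B x hx).symm), hBN, hval, f', hE',
              hf'B, hf'A⟩ }
    have hmeas : Nat.card ↥(normalizerIn S A') ^ 2 + (Nat.card ↥(normalizerIn S A') - Nat.card A') <
        Nat.card S ^ 2 + (Nat.card S - Nat.card V) := by
      have h1 : Nat.card ↥(normalizerIn S A') ≤ Nat.card S := Subgroup.card_le_of_le inf_le_left
      have h3 : Nat.card A' ≤ Nat.card ↥(normalizerIn S A') := Subgroup.card_le_of_le hA'N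
      exact ctl_measure_lt h1 (by rw [hcardA']; exact hcard) h3
    have hIH := IH (normalizerIn S A') hfin' NE NF A' hmeas hctl (Helper84.nsys_isNormal F hA'S NF hNF)
    -- transport `f` to a map of `N_F(A')`
    have hρP : IsMap E P ρ := hρ.restrict hPN
    obtain ⟨ρi, hρi, hρi1, hρi2, -⟩ := hρP.exists_inv
    have hP₁N : img P f ≤ normalizerIn S (img A f) := by
      intro y hy
      obtain ⟨x, hx, rfl⟩ := hf.mem_img.mp hy
      exact mem_normalizerIn_iff.mpr
        ⟨hf.mem hx, hf.map_mem_normalizer hAP hx (mem_normalizerIn_iff.mp (hPN hx)).2⟩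
    have hρ₁P₁ : IsMap E (img P f) ρ₁ := hρ₁.restrict hP₁N
    have hθ : IsMap F (img P ρ) (ρ₁ ∘ (f ∘ ρi)) :=
      ((hρi.mono h.hle).comp hf (fun y hy => (hρi2 y hy).1)).comp (hρ₁P₁.mono h.hle)
        (fun y hy => hf.apply_mem_img (hρi2 y hy).1)
    have hA'P' : A' ≤ img P ρ := by rw [← hρA]; exact hρP.img_restrict_le hAP
    have hP'N : img P ρ ≤ normalizerIn S A' := by
      have h1 := (hρ.img_restrict_le hPN).trans (img_normalizerIn_le hρ hAS)
      rwa [hρA] at h1
    have hθN : IsNMap F A' (img P ρ) (ρ₁ ∘ (f ∘ ρi)) := by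
      refine ⟨hθ, hP'N, fun y hy => ?_, ρ₁ ∘ (f ∘ ρi), ?_, fun _ _ => rfl, fun x hx => ?_⟩
      · have h1 : f (ρi y) ∈ normalizerIn S (img A f) := hP₁N (hf.apply_mem_img (hρi2 y hy).1)
        have h2 := img_normalizerIn_le hρ₁ hfA.img_le (hρ₁.apply_mem_img h1)
        rwa [hρ₁A] at h2
      · rw [sup_eq_left.mpr hA'P']; exact hθ
      · rw [← hρA] at hx
        obtain ⟨a, ha, rfl⟩ := hρAm.mem_img.mp hx
        show ρ₁ (f (ρi (ρ a))) ∈ A'
        rw [hρi1 a (hAP ha), ← hρ₁A]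
        exact (hρ₁.restrict (le_normalizerIn hfA.img_le)).apply_mem_img (hfA.apply_mem_img ha)
    have hθE : IsMap E (img P ρ) (ρ₁ ∘ (f ∘ ρi)) :=
      ((isMap_nsys_iff hNE).mp (hIH _ _ ((isMap_nsys_iff hNF).mpr hθN))).1
    obtain ⟨ρ₁i, hρ₁i, hρ₁i1, -, -⟩ := hρ₁P₁.exists_inv
    have hcomp : IsMap E P (ρ₁i ∘ ((ρ₁ ∘ (f ∘ ρi)) ∘ ρ)) := by
      refine (hρP.comp hθE (fun x hx => hρP.apply_mem_img hx)).comp hρ₁i (fun x hx => ?_)
      show ρ₁ (f (ρi (ρ x))) ∈ _
      rw [hρi1 x hx]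
      exact hρ₁P₁.apply_mem_img (hf.apply_mem_img hx)
    refine hcomp.congr (fun x hx => ?_)
    show f x = ρ₁i (ρ₁ (f (ρi (ρ x))))
    rw [hρi1 x hx, hρ₁i1 _ (hf.apply_mem_img hx)]
  -- Alperin's fusion theorem for `F`
  intro P f hf
  refine alperin_induction hS h.hF (fun P f => IsMap E P f) ?_
    (fun P Q f g _ _ hfE hgE hPQ => hfE.comp hgE hPQ) (fun P f g _ hfE hgf => hfE.congr hgf) hf
  intro R hRa hRr hRc hRrad α hα P hPR
  have hRS := hRc.1
  have hαm : IsMap F R (autFun α) := IsMap.of_mem_autGroup hRS hα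
  suffices hER : IsMap E R (autFun α) from hER.restrict hPR
  have hVR : V ≤ R := by
    intro v hv
    apply centralizerIn_le_of_isCentric hRc
    exact mem_centralizerIn_iff.mpr ⟨hVS hv, fun y hy => hVZ v hv y (hRS hy)⟩
  have hRfin : Finite R := finite_of_le hRS
  have hRp : IsPGroup p R := hS.to_le hRS
  by_cases hpg : ∀ β ∈ F.autGroup R, ∀ m : ℕ, m.Coprime p → β ^ m = 1 → β = 1
  · -- `Aut_F(R)` is a `p`-group, so `α` is induced by an element of `S`
    have hfinM : Finite (MulAut R) := inferInstance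
    have hpG : IsPGroup p (F.autGroup R) := by
      apply isPGroup_of_no_pprime
      rintro ⟨β, hβ⟩ m hm hβm
      apply Subtype.ext
      apply hpg β hβ m hm
      have := congrArg Subtype.val hβm
      simpa using this
    have h1 := normal_pSubgroup_le_autInducedBy hRa ⊤ inferInstance (hpG.to_subgroup ⊤)
    have h2 : α ∈ autInducedBy S R := h1 ⟨⟨α, hα⟩, Subgroup.mem_top _, rfl⟩
    obtain ⟨g, hg, hgα⟩ := (mem_autInducedBy_iff' S α).mp h2
    exact (isMap_conj E hRS hg).congr (fun x hx => hgα x hx)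
  · push Not at hpg
    obtain ⟨κ, hκ, m, hm, hκm, hκ1⟩ := hpg
    obtain ⟨y, hyW, hyV, hys, hyc⟩ := exists_small_mod_central hRp (F.autGroup R)
      (fun r => inn_le_autGroup F hRS ⟨r, rfl⟩) (V.subgroupOf R) (W.subgroupOf R)
      (fun g hg v hv => by
        apply Subtype.ext
        rw [← autFun_apply]
        exact hVc R (autFun g) (IsMap.of_mem_autGroup hRS hg) hVR v (Subgroup.mem_subgroupOf.mp hv))
      (fun g hg x hx => by
        rw [Subgroup.mem_subgroupOf] at hx ⊢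
        rw [← autFun_apply]
        exact h.hW1 R (autFun g) (IsMap.of_mem_autGroup hRS hg) x x.2 hx)
      (fun g hg m hm hgm x => by
        rw [Subgroup.mem_subgroupOf]
        exact h.hW2 R hRS g hg m hm hgm x)
      hκ hm hκm hκ1
    have hyΩs : Sm p (y : Ω) := (sm_coe y).mpr hys
    have hyWΩ : (y : Ω) ∈ W := Subgroup.mem_subgroupOf.mp hyW
    have hyVΩ : (y : Ω) ∉ V := fun hh => hyV (Subgroup.mem_subgroupOf.mpr hh)
    have hzR : Subgroup.zpowers (y : Ω) ≤ R := Subgroup.zpowers_le.mpr y.2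
    have hcomm : ∀ v ∈ V, ∀ z ∈ Subgroup.zpowers (y : Ω), v * z = z * v :=
      fun v hv z hz => (hVZ v hv z (hRS (hzR hz))).symm
    have hAsm : SmallAb p (V ⊔ Subgroup.zpowers (y : Ω)) :=
      h.hVsm.sup (smallAb_zpowers hyΩs) hcomm
    have hAW : InWV W V (V ⊔ Subgroup.zpowers (y : Ω)) := by
      intro a ha
      obtain ⟨v, hv, z, hz, rfl⟩ := mem_sup_of_commute hcomm ha
      exact ⟨z, (Subgroup.zpowers_le.mpr hyWΩ) hz, v, hv, hcomm v hv z hz⟩
    have hVA : V ≤ V ⊔ Subgroup.zpowers (y : Ω) := le_sup_left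
    have hyA : (y : Ω) ∈ V ⊔ Subgroup.zpowers (y : Ω) :=
      Subgroup.mem_sup_right (Subgroup.mem_zpowers _)
    have hAR : V ⊔ Subgroup.zpowers (y : Ω) ≤ R := sup_le hVR hzR
    have hcard : Nat.card V < Nat.card ↥(V ⊔ Subgroup.zpowers (y : Ω)) :=
      card_lt_of_lt (hAR.trans hRS) hVA hyA hyVΩ
    have key : ∀ r ∈ R, ∀ a ∈ V ⊔ Subgroup.zpowers (y : Ω),
        r * a * r⁻¹ ∈ V ⊔ Subgroup.zpowers (y : Ω) := by
      intro r hr a ha
      obtain ⟨v, hv, z, hz, rfl⟩ := mem_sup_of_commute hcomm ha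
      obtain ⟨k, rfl⟩ := Subgroup.mem_zpowers_iff.mp hz
      have h1 : r * (y : Ω) * r⁻¹ ∈ V ⊔ Subgroup.zpowers (y : Ω) := by
        have h2 := hyc ⟨r, hr⟩
        rw [Subgroup.mem_subgroupOf, commutatorElement_def] at h2
        simp only [Subgroup.coe_mul, Subgroup.coe_inv] at h2
        have e : r * (y : Ω) * r⁻¹ = (r * (y : Ω) * r⁻¹ * (y : Ω)⁻¹) * (y : Ω) := by group
        rw [e]
        exact Subgroup.mul_mem _ (hVA h2) hyA
      have h4 : r * v * r⁻¹ = v := by
        rw [hVZ v hv r (hRS hr)]; group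
      have e : r * (v * (y : Ω) ^ k) * r⁻¹ = (r * v * r⁻¹) * (r * (y : Ω) * r⁻¹) ^ k := by
        rw [conj_zpow]; group
      rw [e, h4]
      exact Subgroup.mul_mem _ (hVA hv) (Subgroup.zpow_mem _ h1 k)
    have hRN : R ≤ normalizerIn S (V ⊔ Subgroup.zpowers (y : Ω)) := by
      intro r hr
      refine mem_normalizerIn_iff.mpr ⟨hRS hr, ?_⟩
      rw [Subgroup.mem_normalizer_iff]
      intro x
      constructor
      · exact key r hr x
      · intro hx
        have := key r⁻¹ (R.inv_mem hr) _ hx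
        simpa [mul_assoc] using this
    exact hN' _ hAsm hAW hVA hcard R (autFun α) hAR hRN hαm

/-- The inductive statement: `E = F` when `V` is normal in `F`. -/
theorem ctl_main (p : ℕ) [Fact p.Prime] (W : Subgroup Ω) :
    ∀ (n : ℕ) (S : Subgroup Ω) (_ : Finite S) (E F : FusionSystem S) (V : Subgroup Ω),
      Nat.card S ^ 2 + (Nat.card S - Nat.card V) = n → Ctl p S E F V W → F.IsNormal V →
      ∀ (P : Subgroup Ω) (f : Ω → Ω), IsMap F P f → IsMap E P f := by
  intro n
  induction n using Nat.strong_induction_on with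
  | _ n ih =>
    intro S hfin E F V hn h hVn
    have := hfin
    have hS := h.hp
    have hVS := h.hVS
    have hsc := stronglyClosed_of_isNormal hVn
    have hVab := h.hVsm.1
    have hCfin : Finite ↥(centralizerIn S V) := finite_of_le inf_le_left
    have hconjV : ∀ Q, F.IsConj V Q → Q = V := by
      intro Q hQ
      obtain ⟨g, hg, rfl⟩ := (isConj_iff F).mp hQ
      exact hg.img_eq_of_mapsTo (isNormal_mapsTo hVn hg le_rfl)
    have hVfcF : F.IsFullyCentralized V := ⟨hVS, fun Q hQ => by rw [hconjV Q hQ]⟩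
    have hVfcE : E.IsFullyCentralized V :=
      ⟨hVS, fun Q hQ => by rw [hconjV Q (isConj_mono h.hle hQ)]⟩
    have hCEsys := isCentralizerSystem_centralizerSystem E V hVS
    have hCFsys := isCentralizerSystem_centralizerSystem F V hVS
    have hVcen : V ≤ centralizerIn S V :=
      fun v hv => mem_centralizerIn_iff.mpr ⟨hVS hv, fun w hw => hVab w hw v hv⟩
    have hctl : Ctl p (centralizerIn S V) (centralizerSystem E V hVS) (centralizerSystem F V hVS) V W :=
      { hp := hS.to_le inf_le_left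
        hE := Helper84.centralizerSystem_saturated p hS E h.hE V hVfcE _ hCEsys
        hF := Helper84.centralizerSystem_saturated p hS F h.hF V hVfcF _ hCFsys
        hle := by
          intro P φ hφ
          obtain ⟨h1, h2, h3, ψ, hψ, h4, h5⟩ := hφ
          exact ⟨h.hle P h1, h2, h3, ψ, h.hle _ hψ, h4, h5⟩
        hVS := hVcen
        hVsm := h.hVsm
        hW1 := fun P f hf => h.hW1 P f ((isMap_csys_iff hCFsys).mp hf).1
        hW2 := by
          intro R hR α hα m hm hαm x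
          have hRS : R ≤ S := hR.trans inf_le_left
          refine h.hW2 R hRS α ?_ m hm hαm x
          exact (mem_autGroup_iff F hRS α).mpr
            ((isMap_csys_iff hCFsys).mp ((mem_autGroup_iff _ hR α).mp hα)).1
        hH := by
          intro B hB hBc hBW f hf
          obtain ⟨hfF, hBC, hval, f', hf', hf'B, hf'V⟩ := (isMap_csys_iff hCFsys).mp hf
          have hcomm : ∀ b ∈ B, ∀ v ∈ V, b * v = v * b :=
            fun b hb v hv => ((mem_centralizerIn_iff.mp (hBC hb)).2 v hv).symm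
          have hsm : SmallAb p (B ⊔ V) := hB.sup h.hVsm hcomm
          have hcen : B ⊔ V ≤ centralizerIn S V := sup_le hBC hVcen
          have hwv : InWV W V (B ⊔ V) := hBW.sup (inWV_self W V) hcomm
          have hE' : IsMap E (B ⊔ V) f' := h.hH _ hsm hcen hwv f' hf'
          exact (isMap_csys_iff hCEsys).mpr
            ⟨(hE'.restrict le_sup_left).congr (fun x hx => (hf'B x hx).symm), hBC, hval, f', hE',
              hf'B, hf'V⟩ }
    have hVcC : ∀ (P : Subgroup Ω) (f : Ω → Ω), IsMap (centralizerSystem F V hVS) P f → V ≤ P →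
        ∀ v ∈ V, f v = v := by
      intro P f hf hVP v hv
      obtain ⟨-, -, -, f', hf', hf'P, hf'V⟩ := (isMap_csys_iff hCFsys).mp hf
      rw [← hf'P v (hVP hv)]
      exact hf'V v hv
    have hmeas : Nat.card ↥(centralizerIn S V) ^ 2 + (Nat.card ↥(centralizerIn S V) - Nat.card V) ≤ n := by
      rw [← hn]
      have hcs : Nat.card ↥(centralizerIn S V) ≤ Nat.card S := Subgroup.card_le_of_le inf_le_left
      exact Nat.add_le_add (Nat.pow_le_pow_left hcs 2) (Nat.sub_le_sub_right hcs _)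
    have hcentral := ctl_central hctl hVcC (fun S' hfin' E' F' V' hlt hctl' hn' =>
      ih _ (lt_of_lt_of_le hlt hmeas) S' hfin' E' F' V' rfl hctl' hn')
    -- Alperin's fusion theorem for `F`
    intro P f hf
    refine alperin_induction hS h.hF (fun P f => IsMap E P f) ?_
      (fun P Q f g _ _ hfE hgE hPQ => hfE.comp hgE hPQ) (fun P f g _ hfE hgf => hfE.congr hgf) hf
    intro R hRa hRr hRc hRrad α hα P hPR
    have hRS := hRc.1
    have hαm : IsMap F R (autFun α) := IsMap.of_mem_autGroup hRS hα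
    suffices hER : IsMap E R (autFun α) from hER.restrict hPR
    have hVR : V ≤ R := Helper84.normal_le_of_centric_radical hS F hVn hRc hRrad
    have hgV : IsMap F V (autFun α) := hαm.restrict hVR
    have hgVV : ∀ v ∈ V, autFun α v ∈ V := isNormal_mapsTo hVn hgV le_rfl
    have himgV : img V (autFun α) = V := hgV.img_eq_of_mapsTo hgVV
    have hgVE : IsMap E V (autFun α) := h.hH V h.hVsm hVcen (inWV_self W V) _ hgV
    have hVrE : E.IsReceptive V := by
      obtain ⟨Q, hQ, -, hQr⟩ := h.hE V hVS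
      rw [hconjV Q (isConj_mono h.hle hQ)] at hQr
      exact hQr
    obtain ⟨ε, hε, hεV⟩ := receptive_extend hVrE hgVE himgV (N := R) (fun x hx =>
      ⟨hRS hx, stronglyClosed_le_normalizer hsc (hRS hx), autFun α x, hαm.mem hx, fun v hv => by
        rw [hαm.map_mul (R.mul_mem hx (hVR hv)) (R.inv_mem hx), hαm.map_mul hx (hVR hv),
          hαm.map_inv hx]⟩)
    have hεR : IsMap E R ε := hε.restrict le_sup_left
    have hαi : IsMap F R (autFun α⁻¹) := IsMap.of_mem_autGroup hRS (inv_mem hα)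
    have hτ : IsMap F R (ε ∘ autFun α⁻¹) :=
      hαi.comp (hεR.mono h.hle) (fun x hx => autFun_mem _ hx)
    have hαiV : ∀ v ∈ V, autFun α⁻¹ v ∈ V := isNormal_mapsTo hVn (hαi.restrict hVR) le_rfl
    have hτV : ∀ v ∈ V, (ε ∘ autFun α⁻¹) v = v := by
      intro v hv
      show ε (autFun α⁻¹ v) = v
      rw [hεV _ (hαiV v hv), autFun_apply_inv α (hVR hv)]
    have hmemM : ∀ x, x ∈ R ⊓ Subgroup.centralizer (V : Set Ω) ↔ x ∈ R ∧ ∀ v ∈ V, v * x = x * v := by
      intro x
      rw [Subgroup.mem_inf, Subgroup.mem_centralizer_iff]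
      rfl
    have hMR : R ⊓ Subgroup.centralizer (V : Set Ω) ≤ R := inf_le_left
    have hMC : R ⊓ Subgroup.centralizer (V : Set Ω) ≤ centralizerIn S V :=
      fun x hx => mem_centralizerIn_iff.mpr ⟨hRS hx.1, ((hmemM x).mp hx).2⟩
    have hτM : IsCMap F V (R ⊓ Subgroup.centralizer (V : Set Ω)) (ε ∘ autFun α⁻¹) := by
      refine ⟨hτ.restrict hMR, hMC, fun x hx => ?_, ε ∘ autFun α⁻¹, hτ.restrict (sup_le hMR hVR),
        fun _ _ => rfl, hτV⟩
      refine mem_centralizerIn_iff.mpr ⟨hτ.mem (hMR hx), fun v hv => ?_⟩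
      have h1 := ((hmemM x).mp hx).2 v hv
      have h2 := congrArg (ε ∘ autFun α⁻¹) h1
      rw [hτ.map_mul (hVR hv) (hMR hx), hτ.map_mul (hMR hx) (hVR hv), hτV v hv] at h2
      exact h2
    have hτME : IsMap E (R ⊓ Subgroup.centralizer (V : Set Ω)) (ε ∘ autFun α⁻¹) :=
      ((isMap_csys_iff hCEsys).mp (hcentral _ _ ((isMap_csys_iff hCFsys).mpr hτM))).1
    have hgM : ∀ x ∈ R ⊓ Subgroup.centralizer (V : Set Ω),
        autFun α x ∈ R ⊓ Subgroup.centralizer (V : Set Ω) := by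
      intro x hx
      rw [hmemM] at hx ⊢
      refine ⟨autFun_mem α hx.1, fun v hv => ?_⟩
      have h1 := hαiV v hv
      have h2 := hx.2 _ h1
      have h3 := congrArg (autFun α) h2
      rw [hαm.map_mul (hVR h1) hx.1, hαm.map_mul hx.1 (hVR h1), autFun_apply_inv α (hVR hv)] at h3
      exact h3
    obtain ⟨τi, hτi, hτi1, -, -⟩ := hτME.exists_inv
    have hεα : ∀ x ∈ R, ε x = (ε ∘ autFun α⁻¹) (autFun α x) := by
      intro x hx
      show ε x = ε (autFun α⁻¹ (autFun α x))
      rw [autFun_inv_apply α hx]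
    have hgME : IsMap E (R ⊓ Subgroup.centralizer (V : Set Ω)) (autFun α) := by
      have hεM : IsMap E (R ⊓ Subgroup.centralizer (V : Set Ω)) ε := hεR.restrict hMR
      have hc : IsMap E (R ⊓ Subgroup.centralizer (V : Set Ω)) (τi ∘ ε) := by
        refine hεM.comp hτi (fun x hx => ?_)
        rw [hεα x (hMR hx)]
        exact hτME.apply_mem_img (hgM x hx)
      refine hc.congr (fun x hx => ?_)
      show autFun α x = τi (ε x)
      rw [hεα x (hMR hx), hτi1 _ (hgM x hx)]
    have hMc : F.IsCentric (R ⊓ Subgroup.centralizer (V : Set Ω)) :=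
      isCentric_inf_centralizer hS h.hF hVn hVab hRc hRrad hVR
    exact isMap_of_restrict_centric hS h.hF h.hE h.hle _ rfl hMc hMR hαm hgME

/-- **Small-exponent abelian subgroups control fusion.** -/
theorem small_abelian_control [Finite S] (p : ℕ) [Fact p.Prime] (hS : IsPGroup p S)
    (E F : FusionSystem S) (hE : E.IsSaturated p) (hF : F.IsSaturated p) (hEF : E.IsSubsystemOf F)
    (W : Subgroup Ω)
    (hW1 : ∀ (P : Subgroup Ω) (f : Ω → Ω), IsMap F P f → ∀ x ∈ P, x ∈ W → f x ∈ W)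
    (hW2 : ∀ R : Subgroup Ω, R ≤ S → ∀ α ∈ F.autGroup R, ∀ m : ℕ, m.Coprime p → α ^ m = 1 →
      ∀ x : R, (x : Ω)⁻¹ * ((α x : R) : Ω) ∈ W)
    (hH : ∀ A : Subgroup Ω, SmallAb p A → A ≤ S → A ≤ W → ∀ f : Ω → Ω, IsMap F A f → IsMap E A f) :
    ∀ P : Subgroup Ω, E.Hom P = F.Hom P := by
  have hctl : Ctl p S E F ⊥ W :=
    { hp := hS
      hE := hE
      hF := hF
      hle := hEF
      hVS := bot_le
      hVsm := smallAb_bot
      hW1 := hW1
      hW2 := hW2
      hH := by
        intro A hA hAc hAW f hf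
        refine hH A hA hf.le (fun a ha => ?_) f hf
        obtain ⟨w, hw, v, hv, rfl⟩ := hAW a ha
        rw [Subgroup.mem_bot] at hv
        rw [hv, mul_one]
        exact hw }
  have hmain := ctl_central hctl
    (fun P f hf _ v hv => by
      rw [Subgroup.mem_bot] at hv
      rw [hv]
      exact hf.map_one)
    (fun S' hfin' E' F' V' _ hctl' hn' => ctl_main p W _ S' hfin' E' F' V' rfl hctl' hn')
  intro P
  apply Set.Subset.antisymm (hEF P)
  intro φ hφ
  exact (isMap_iff_hom E φ).mpr (hmain P (extHom φ) (isMap_extHom hφ))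

end Cfsg.Agent.Helper88
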