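import Cfsg.Agent.Helper88.OmegaFix
import Cfsg.Agent.Helper88.StableFix

/-!
# Elements of small order and a critical-subgroup lemma (helper88)

`Sm p x`: `x` has order dividing `p` (or dividing `4` when `p = 2`).  The main lemma
`exists_small_mod_central`: if a group `G` of automorphisms of a finite `p`-group `R` containing the inner
automorphisms is not a `p`-group and fixes a subgroup `V` elementwise, then some small element `y ∉ V` of
`[R, O^p(G)]` has all its commutators with `R` in `V`.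
-/

set_option autoImplicit false

namespace Cfsg.Agent.Helper88

open scoped commutatorElement

/-- `x` has order dividing `p`, or dividing `4` when `p = 2`. -/
def Sm (p : ℕ) {G : Type*} [Group G] (x : G) : Prop := x ^ p = 1 ∨ (p = 2 ∧ x ^ 4 = 1)

section Sm

variable {p : ℕ} {G : Type*} [Group G]

theorem Sm.pow_four {x : G} (h : Sm p x) (hp : p = 2) : x ^ 4 = 1 := by
  rcases h with h | ⟨-, h⟩
  · subst hp
    calc x ^ 4 = (x ^ 2) ^ 2 := by rw [← pow_mul]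
      _ = 1 := by rw [h, one_pow]
  · exact h

theorem Sm.pow_p {x : G} (h : Sm p x) (hp : p ≠ 2) : x ^ p = 1 := by
  rcases h with h | ⟨h2, -⟩
  · exact h
  · exact absurd h2 hp

theorem sm_one : Sm p (1 : G) := Or.inl (one_pow p)

theorem Sm.mul {x y : G} (hx : Sm p x) (hy : Sm p y) (hc : Commute x y) : Sm p (x * y) := by
  by_cases hp : p = 2
  · right
    exact ⟨hp, by rw [hc.mul_pow, hx.pow_four hp, hy.pow_four hp, one_mul]⟩
  · left
    rw [hc.mul_pow, hx.pow_p hp, hy.pow_p hp, one_mul]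

theorem Sm.inv {x : G} (hx : Sm p x) : Sm p x⁻¹ := by
  rcases hx with h | ⟨h2, h⟩
  · left; rw [inv_pow, h, inv_one]
  · right; exact ⟨h2, by rw [inv_pow, h, inv_one]⟩

theorem Sm.map {H : Type*} [Group H] (f : G →* H) {x : G} (hx : Sm p x) : Sm p (f x) := by
  rcases hx with h | ⟨h2, h⟩
  · left; rw [← map_pow, h, map_one]
  · right; exact ⟨h2, by rw [← map_pow, h, map_one]⟩

theorem Sm.zpow {x : G} (hx : Sm p x) (k : ℤ) : Sm p (x ^ k) := by
  rcases hx with h | ⟨h2, h⟩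
  · left; rw [← zpow_natCast, ← zpow_mul, mul_comm, zpow_mul, zpow_natCast, h, one_zpow]
  · right; exact ⟨h2, by rw [← zpow_natCast, ← zpow_mul, mul_comm, zpow_mul, zpow_natCast, h, one_zpow]⟩

end Sm

/-- **Critical subgroup lemma.** Let `G` be a group of automorphisms of the finite `p`-group `R` containing the
inner automorphisms, `V` a subgroup fixed elementwise by `G`, and `W` a `G`-invariant subgroup containing
all `x⁻¹ g(x)` for `g ∈ G` of order prime to `p`. If `G` has a nontrivial element of order prime to `p`, then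
there is `y ∈ W`, `y ∉ V`, of order `p` (or dividing `4` if `p = 2`), with `[R, y] ≤ V`. -/
theorem exists_small_mod_central {R : Type*} [Group R] [Finite R] {p : ℕ} [Fact p.Prime]
    (hR : IsPGroup p R) (G : Subgroup (MulAut R)) (hInn : ∀ r : R, MulAut.conj r ∈ G)
    (V W : Subgroup R) (hVfix : ∀ g ∈ G, ∀ v ∈ V, g v = v)
    (hWinv : ∀ g ∈ G, ∀ x ∈ W, g x ∈ W)
    (hWc : ∀ g ∈ G, ∀ m : ℕ, m.Coprime p → g ^ m = 1 → ∀ x : R, x⁻¹ * g x ∈ W)
    {κ : MulAut R} (hκ : κ ∈ G) {m : ℕ} (hm : m.Coprime p) (hκm : κ ^ m = 1) (hκ1 : κ ≠ 1) :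
    ∃ y : R, y ∈ W ∧ y ∉ V ∧ Sm p y ∧ ∀ r : R, ⁅r, y⁆ ∈ V := by
  classical
  have hTW : ¬ (∀ g ∈ G, ∀ m : ℕ, m.Coprime p → g ^ m = 1 → ∀ x ∈ W, g x = x) := by
    intro h
    apply hκ1
    ext x
    exact mulAut_fix_of_comm_fixed hR κ hm hκm (h κ hκ m hm hκm _ (hWc κ hκ m hm hκm x))
  obtain ⟨D, ⟨hDW, hDinv, hDT⟩, hmin⟩ :=
    (Set.toFinite {D : Subgroup R | D ≤ W ∧ (∀ g ∈ G, ∀ x ∈ D, g x ∈ D) ∧
      ¬ (∀ g ∈ G, ∀ m : ℕ, m.Coprime p → g ^ m = 1 → ∀ x ∈ D, g x = x)}).exists_minimal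
      ⟨W, le_rfl, hWinv, hTW⟩
  have hmin' : ∀ D₀ : Subgroup R, D₀ ≤ D → (∀ g ∈ G, ∀ x ∈ D₀, g x ∈ D₀) → D₀ ≠ D →
      ∀ g ∈ G, ∀ m : ℕ, m.Coprime p → g ^ m = 1 → ∀ x ∈ D₀, g x = x := by
    intro D₀ h1 h2 h3
    by_contra h4
    exact h3 (le_antisymm h1 (hmin ⟨h1.trans hDW, h2, h4⟩ h1))
  -- `D = [D, O^p(G)]`
  have hCD : Subgroup.closure {c | ∃ y ∈ D, ∃ g ∈ G, ∃ m : ℕ, m.Coprime p ∧ g ^ m = 1 ∧ c = y⁻¹ * g y}
      ≤ D := by
    rw [Subgroup.closure_le]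
    rintro _ ⟨y, hy, g, hg, m, hm, hgm, rfl⟩
    exact D.mul_mem (D.inv_mem hy) (hDinv g hg y hy)
  have hCinv : ∀ h ∈ G, ∀ c ∈ Subgroup.closure {c | ∃ y ∈ D, ∃ g ∈ G, ∃ m : ℕ, m.Coprime p ∧
      g ^ m = 1 ∧ c = y⁻¹ * g y}, h c ∈ Subgroup.closure {c | ∃ y ∈ D, ∃ g ∈ G, ∃ m : ℕ,
      m.Coprime p ∧ g ^ m = 1 ∧ c = y⁻¹ * g y} := by
    intro h hh c hc
    induction hc using Subgroup.closure_induction with
    | mem c hc =>
      obtain ⟨y, hy, g, hg, m, hm, hgm, rfl⟩ := hc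
      apply Subgroup.subset_closure
      refine ⟨h y, hDinv h hh y hy, h * g * h⁻¹, G.mul_mem (G.mul_mem hh hg) (G.inv_mem hh), m, hm,
        ?_, ?_⟩
      · rw [conj_pow, hgm, mul_one, mul_inv_cancel]
      · rw [map_mul, map_inv, MulAut.mul_apply, MulAut.mul_apply, MulAut.inv_apply_self]
    | one => rw [map_one]; exact Subgroup.one_mem _
    | mul a b _ _ iha ihb => rw [map_mul]; exact Subgroup.mul_mem _ iha ihb
    | inv a _ iha => rw [map_inv]; exact Subgroup.inv_mem _ iha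
  have hCeq : Subgroup.closure {c | ∃ y ∈ D, ∃ g ∈ G, ∃ m : ℕ, m.Coprime p ∧ g ^ m = 1 ∧
      c = y⁻¹ * g y} = D := by
    by_contra hne
    apply hDT
    intro g hg m hm hgm x hx
    have h1 : x⁻¹ * g x ∈ Subgroup.closure {c | ∃ y ∈ D, ∃ g ∈ G, ∃ m : ℕ, m.Coprime p ∧
        g ^ m = 1 ∧ c = y⁻¹ * g y} := Subgroup.subset_closure ⟨x, hx, g, hg, m, hm, hgm, rfl⟩
    exact mulAut_fix_of_comm_fixed hR g hm hgm (hmin' _ hCD hCinv hne g hg m hm hgm _ h1)
  -- the Frattini-like subgroup `M`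
  have hDbot : D ≠ ⊥ := by
    rintro rfl
    apply hDT
    intro g hg m hm hgm x hx
    rw [Subgroup.mem_bot] at hx
    rw [hx, map_one]
  obtain ⟨K, hKD, hKlt, hKpow, hKcomm⟩ := exists_frattini_like D (hR.to_subgroup D) hDbot
  have hMK : Subgroup.closure ({u | ∃ a ∈ D, ∃ b ∈ D, u = ⁅a, b⁆} ∪ {u | ∃ a ∈ D, u = a ^ p}) ≤ K := by
    rw [Subgroup.closure_le]
    rintro u (⟨a, ha, b, hb, rfl⟩ | ⟨a, ha, rfl⟩)
    · exact hKcomm a ha b hb
    · exact hKpow a ha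
  have hMD := hMK.trans hKD
  have hMne : Subgroup.closure ({u | ∃ a ∈ D, ∃ b ∈ D, u = ⁅a, b⁆} ∪ {u | ∃ a ∈ D, u = a ^ p}) ≠ D := by
    intro h
    rw [h] at hMK
    exact absurd (Subgroup.card_le_of_le hMK) (not_le.mpr hKlt)
  have hMinv : ∀ g ∈ G, ∀ u ∈ Subgroup.closure ({u | ∃ a ∈ D, ∃ b ∈ D, u = ⁅a, b⁆} ∪
      {u | ∃ a ∈ D, u = a ^ p}), g u ∈ Subgroup.closure ({u | ∃ a ∈ D, ∃ b ∈ D, u = ⁅a, b⁆} ∪
      {u | ∃ a ∈ D, u = a ^ p}) := by
    intro g hg u hu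
    induction hu using Subgroup.closure_induction with
    | mem u hu =>
      apply Subgroup.subset_closure
      rcases hu with ⟨a, ha, b, hb, rfl⟩ | ⟨a, ha, rfl⟩
      · left
        exact ⟨g a, hDinv g hg a ha, g b, hDinv g hg b hb, map_commutatorElement g a b⟩
      · right
        exact ⟨g a, hDinv g hg a ha, map_pow g a p⟩
    | one => rw [map_one]; exact Subgroup.one_mem _
    | mul a b _ _ iha ihb => rw [map_mul]; exact Subgroup.mul_mem _ iha ihb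
    | inv a _ iha => rw [map_inv]; exact Subgroup.inv_mem _ iha
  have hTM := hmin' _ hMD hMinv hMne
  have hcommM : ∀ a ∈ D, ∀ b ∈ D, ⁅a, b⁆ ∈ Subgroup.closure ({u | ∃ a ∈ D, ∃ b ∈ D, u = ⁅a, b⁆} ∪
      {u | ∃ a ∈ D, u = a ^ p}) :=
    fun a ha b hb => Subgroup.subset_closure (Or.inl ⟨a, ha, b, hb, rfl⟩)
  have hpowM : ∀ a ∈ D, a ^ p ∈ Subgroup.closure ({u | ∃ a ∈ D, ∃ b ∈ D, u = ⁅a, b⁆} ∪
      {u | ∃ a ∈ D, u = a ^ p}) :=
    fun a ha => Subgroup.subset_closure (Or.inr ⟨a, ha, rfl⟩)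
  -- `D` centralizes `M`
  have hcent : ∀ d ∈ D, ∀ u ∈ Subgroup.closure ({u | ∃ a ∈ D, ∃ b ∈ D, u = ⁅a, b⁆} ∪
      {u | ∃ a ∈ D, u = a ^ p}), u * d = d * u := by
    have hle : Subgroup.closure {c | ∃ y ∈ D, ∃ g ∈ G, ∃ m : ℕ, m.Coprime p ∧ g ^ m = 1 ∧
        c = y⁻¹ * g y} ≤ Subgroup.centralizer ((Subgroup.closure ({u | ∃ a ∈ D, ∃ b ∈ D, u = ⁅a, b⁆} ∪
        {u | ∃ a ∈ D, u = a ^ p}) : Subgroup R) : Set R) := by
      rw [Subgroup.closure_le]
      rintro _ ⟨y, hy, g, hg, m, hm, hgm, rfl⟩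
      rw [SetLike.mem_coe, Subgroup.mem_centralizer_iff]
      intro u hu
      have h1 : y * u * y⁻¹ ∈ Subgroup.closure ({u | ∃ a ∈ D, ∃ b ∈ D, u = ⁅a, b⁆} ∪
          {u | ∃ a ∈ D, u = a ^ p}) := by
        have h := hcommM y hy u (hMD hu)
        rw [commutatorElement_def] at h
        have e : y * u * y⁻¹ = y * u * y⁻¹ * u⁻¹ * u := by group
        rw [e]
        exact Subgroup.mul_mem _ h hu
      have h2 := hTM g hg m hm hgm _ h1
      rw [map_mul, map_mul, map_inv, hTM g hg m hm hgm u hu] at h2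
      calc u * (y⁻¹ * g y) = y⁻¹ * (y * u * y⁻¹) * g y := by group
        _ = y⁻¹ * (g y * u * (g y)⁻¹) * g y := by rw [h2]
        _ = y⁻¹ * g y * u := by group
    intro d hd u hu
    rw [← hCeq] at hd
    exact Subgroup.mem_centralizer_iff.mp (hle hd) u hu
  -- commutators have order dividing `p`
  have hcp : ∀ a ∈ D, ∀ b ∈ D, ⁅a, b⁆ ^ p = 1 := by
    intro a ha b hb
    have hz : Commute ⁅a, b⁆ b := hcent b hb _ (hcommM a ha b hb)
    have h3 := mul_pow_eq_of_commute b a hz p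
    have h4 : b ^ p * a = a * b ^ p := hcent a ha _ (hpowM b hb)
    rw [← h4, mul_assoc] at h3
    exact mul_right_cancel (h3.symm.trans (one_mul _).symm)
  -- small elements of `D` are closed under products
  have hsmul : ∀ x ∈ D, ∀ y ∈ D, Sm p x → Sm p y → Sm p (x * y) := by
    intro x hx y hy hsx hsy
    have hzx : Commute ⁅y, x⁆ x := hcent x hx _ (hcommM y hy x hx)
    have hzy : Commute ⁅y, x⁆ y := hcent y hy _ (hcommM y hy x hx)
    have hz := hcp y hy x hx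
    by_cases hp2 : p = 2
    · right
      refine ⟨hp2, ?_⟩
      rw [mul_pow_class_two x y hzx hzy 4, hsx.pow_four hp2, hsy.pow_four hp2, one_mul, one_mul]
      subst hp2
      have e : (4 : ℕ).choose 2 = 2 * 3 := by decide
      rw [e, pow_mul, hz, one_pow]
    · left
      rw [mul_pow_class_two x y hzx hzy p, hsx.pow_p hp2, hsy.pow_p hp2, one_mul, one_mul]
      have hpp : p.Prime := Fact.out
      obtain ⟨t, ht⟩ := hpp.dvd_choose_self (by norm_num) (lt_of_le_of_ne hpp.two_le (Ne.symm hp2))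
      rw [ht, pow_mul, hz, one_pow]
  -- all elements of `D` are small
  have hDsm : ∀ x ∈ D, Sm p x := by
    let Os : Subgroup R :=
      { carrier := {x | x ∈ D ∧ Sm p x}
        one_mem' := ⟨D.one_mem, sm_one⟩
        mul_mem' := fun {a b} ha hb => ⟨D.mul_mem ha.1 hb.1, hsmul a ha.1 b hb.1 ha.2 hb.2⟩
        inv_mem' := fun {a} ha => ⟨D.inv_mem ha.1, ha.2.inv⟩ }
    have hOsD : Os ≤ D := fun x hx => hx.1
    have hOsinv : ∀ g ∈ G, ∀ x ∈ Os, g x ∈ Os :=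
      fun g hg x hx => ⟨hDinv g hg x hx.1, hx.2.map g.toMonoidHom⟩
    have hOs : Os = D := by
      by_contra hne
      apply hDT
      intro g hg m hm hgm x hx
      have hfix : ∀ x ∈ D, (x ^ p = 1 ∨ (p = 2 ∧ x ^ 4 = 1)) → g x = x :=
        fun x hx hs => hmin' Os hOsD hOsinv hne g hg m hm hgm x ⟨hx, hs⟩
      exact mulAut_fix_of_fix_small hR g hm hgm _ D rfl (hDinv g hg) hfix x hx
    intro x hx
    have h : x ∈ Os := by rw [hOs]; exact hx
    exact h.2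
  -- the upper central series argument
  have hDnV : ∃ y ∈ D, y ∉ V := by
    by_contra h
    push Not at h
    apply hDT
    intro g hg m hm hgm x hx
    exact hVfix g hg x (h x hx)
  have hnil : Group.IsNilpotent R := hR.isNilpotent
  obtain ⟨n, hn⟩ := hnil.nilpotent'
  have hex : ∃ i, ∃ y ∈ D, y ∈ Subgroup.upperCentralSeries R i ∧ y ∉ V := by
    obtain ⟨y, hy, hyV⟩ := hDnV
    exact ⟨n, y, hy, by rw [hn]; exact Subgroup.mem_top _, hyV⟩
  have hmin2 := fun j (hj : j < Nat.find hex) => Nat.find_min hex hj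
  obtain ⟨y, hyD, hyZ, hyV⟩ := Nat.find_spec hex
  have hi0 : Nat.find hex ≠ 0 := by
    intro h0
    rw [h0, Subgroup.upperCentralSeries_zero, Subgroup.mem_bot] at hyZ
    exact hyV (hyZ ▸ V.one_mem)
  obtain ⟨j, hj⟩ := Nat.exists_eq_succ_of_ne_zero hi0
  refine ⟨y, hDW hyD, hyV, hDsm y hyD, fun r => ?_⟩
  by_contra hrV
  apply hmin2 j (by omega)
  refine ⟨⁅r, y⁆, ?_, ?_, hrV⟩
  · rw [commutatorElement_def]
    have h1 : r * y * r⁻¹ ∈ D := hDinv (MulAut.conj r) (hInn r) y hyD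
    exact D.mul_mem h1 (D.inv_mem hyD)
  · rw [hj, Subgroup.mem_upperCentralSeries_succ_iff] at hyZ
    have h2 := hyZ r
    have e : ⁅r, y⁆ = (y * r * y⁻¹ * r⁻¹)⁻¹ := by rw [commutatorElement_def]; group
    rw [e]
    exact Subgroup.inv_mem _ h2

end Cfsg.Agent.Helper88
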