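import Cfsg.Agent.Helper88.SLnSimple

set_option autoImplicit false
set_option linter.unusedSectionVars false

/-!
# Generic `SL_n` lemmas for the torus part of the unitary simplicity proof (helper88)

`GoodIn` (a relative version of `GoodElt`), the block unipotent radicals `blkU lo hi`, conjugation of them by
transvections, commuting transvections, a general form of the torus identity.
-/

namespace Cfsg.Agent.Helper88

open Cfsg Matrix Cfsg.Agent.Helper44.PSLn

universe u

section GoodInSec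

variable {Ω : Type*} [Group Ω]

/-- relative version of `GoodElt`: all the `p`-elements used lie in the subgroup `G` -/
def GoodIn (p : ℕ) (G S : Subgroup Ω) (h : Ω) : Prop :=
  (∀ y ∈ S, h * y * h⁻¹ ∈ S) ∧ ∃ Q : Subgroup Ω, Q ≤ S ∧ (∀ s ∈ S, ∀ x ∈ Q, s * x * s⁻¹ ∈ Q) ∧
    (∀ s ∈ S, (∀ x ∈ Q, s * x = x * s) → s ∈ Q) ∧
    h ∈ Subgroup.closure {x : Ω | x ∈ G ∧ (∃ k : ℕ, x ^ p ^ k = 1) ∧ ∀ y ∈ Q, x * y * x⁻¹ ∈ Q}

theorem goodElt_of_goodIn {p : ℕ} {G S : Subgroup Ω} (hSG : S ≤ G) (h : G)
    (hh : GoodIn p G S (h : Ω)) : GoodElt p (S.subgroupOf G) h := by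
  obtain ⟨hn, Q, hQS, hQn, hQc, hcl⟩ := hh
  refine ⟨fun y hy => ?_, Q.subgroupOf G, ?_, ?_, ?_, ?_⟩
  · rw [Subgroup.mem_subgroupOf] at hy ⊢
    exact hn _ hy
  · intro x hx
    rw [Subgroup.mem_subgroupOf] at hx ⊢
    exact hQS hx
  · intro s hs x hx
    rw [Subgroup.mem_subgroupOf] at hs hx ⊢
    exact hQn _ hs _ hx
  · intro s hs hcomm
    rw [Subgroup.mem_subgroupOf] at hs ⊢
    apply hQc _ hs
    intro x hx
    have hxG : x ∈ G := hSG (hQS hx)
    have := hcomm ⟨x, hxG⟩ (by rw [Subgroup.mem_subgroupOf]; exact hx)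
    exact congrArg Subtype.val this
  · have key : ∀ x : Ω, x ∈ Subgroup.closure {x : Ω | x ∈ G ∧ (∃ k : ℕ, x ^ p ^ k = 1) ∧
        ∀ y ∈ Q, x * y * x⁻¹ ∈ Q} → ∃ hx : x ∈ G, (⟨x, hx⟩ : G) ∈
          Subgroup.closure {x : G | (∃ k : ℕ, x ^ p ^ k = 1) ∧
            ∀ y ∈ Q.subgroupOf G, x * y * x⁻¹ ∈ Q.subgroupOf G} := by
      intro x hx
      induction hx using Subgroup.closure_induction with
      | mem x hx =>
        obtain ⟨hxG, ⟨k, hk⟩, hxQ⟩ := hx
        refine ⟨hxG, Subgroup.subset_closure ⟨⟨k, Subtype.ext ?_⟩, fun y hy => ?_⟩⟩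
        · rw [Subgroup.coe_pow]
          exact hk
        · rw [Subgroup.mem_subgroupOf] at hy ⊢
          exact hxQ _ hy
      | one => exact ⟨one_mem _, one_mem _⟩
      | mul a b _ _ iha ihb =>
        obtain ⟨ha, ha'⟩ := iha
        obtain ⟨hb, hb'⟩ := ihb
        exact ⟨mul_mem ha hb, mul_mem ha' hb'⟩
      | inv a _ iha =>
        obtain ⟨ha, ha'⟩ := iha
        exact ⟨inv_mem ha, inv_mem ha'⟩
    obtain ⟨hx, h'⟩ := key _ hcl
    exact h'

end GoodInSec

section Blk

variable {n : ℕ} {F : Type u} [Field F] [Fintype F]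

/-- unitriangular matrices which are trivial on the diagonal block `[lo, hi]` -/
def blkU (lo hi : Fin n) : Subgroup (SLn n F) where
  carrier := {s | s ∈ UniS n F ∧ ∀ x y : Fin n, lo ≤ x → x ≤ hi → lo ≤ y → y ≤ hi → x ≠ y →
    (s : Mn n F) x y = 0}
  mul_mem' := by
    rintro a b ⟨ha, ha0⟩ ⟨hb, hb0⟩
    refine ⟨(UniS n F).mul_mem ha hb, ?_⟩
    intro x y hx1 hx2 hy1 hy2 hxy
    rw [Matrix.SpecialLinearGroup.coe_mul, Matrix.mul_apply]
    apply Finset.sum_eq_zero
    intro c _
    by_cases h1 : c < x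
    · rw [ha.1 x c h1, zero_mul]
    · by_cases h2 : y < c
      · rw [hb.1 c y h2, mul_zero]
      · push Not at h1 h2
        by_cases h3 : c = x
        · rw [h3, hb0 x y hx1 hx2 hy1 hy2 hxy, mul_zero]
        · rw [ha0 x c hx1 hx2 (le_trans hx1 h1) (le_trans h2 hy2) (Ne.symm h3), zero_mul]
  one_mem' := ⟨(UniS n F).one_mem, fun x y _ _ _ _ hxy => by
    rw [Matrix.SpecialLinearGroup.coe_one, Matrix.one_apply_ne hxy]⟩
  inv_mem' := by
    rintro a ⟨ha, ha0⟩
    have hai := (UniS n F).inv_mem ha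
    refine ⟨hai, ?_⟩
    intro x y hx1 hx2 hy1 hy2 hxy
    rcases lt_or_gt_of_ne hxy with hlt | hgt
    · have h1 : ((a⁻¹ * a : SLn n F) : Mn n F) x y = 0 := by
        rw [inv_mul_cancel, Matrix.SpecialLinearGroup.coe_one, Matrix.one_apply_ne hxy]
      rw [Matrix.SpecialLinearGroup.coe_mul, Matrix.mul_apply, Finset.sum_eq_single y] at h1
      · rwa [ha.2 y, mul_one] at h1
      · intro c _ hc
        by_cases h2 : c < x
        · rw [hai.1 x c h2, zero_mul]
        · by_cases h3 : y < c
          · rw [ha.1 c y h3, mul_zero]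
          · push Not at h2 h3
            rw [ha0 c y (le_trans hx1 h2) (le_trans h3 hy2) hy1 hy2 hc, mul_zero]
      · intro h
        exact absurd (Finset.mem_univ _) h
    · exact hai.1 x y hgt

theorem mem_blkU {lo hi : Fin n} {s : SLn n F} :
    s ∈ blkU lo hi ↔ s ∈ UniS n F ∧ ∀ x y : Fin n, lo ≤ x → x ≤ hi → lo ≤ y → y ≤ hi → x ≠ y →
      (s : Mn n F) x y = 0 := Iff.rfl

theorem blkU_le (lo hi : Fin n) : blkU (F := F) lo hi ≤ UniS n F := fun _ hs => hs.1

/-- `blkU` is normal in the unitriangular group -/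
theorem blkU_normal (lo hi : Fin n) :
    ∀ s ∈ UniS n F, ∀ u ∈ blkU (F := F) lo hi, s * u * s⁻¹ ∈ blkU lo hi := by
  rintro s hs u ⟨hu, hu0⟩
  have hsi := (UniS n F).inv_mem hs
  refine ⟨(UniS n F).mul_mem ((UniS n F).mul_mem hs hu) hsi, ?_⟩
  intro x y hx1 hx2 hy1 hy2 hxy
  have h1 : ((s * u * s⁻¹ : SLn n F) : Mn n F)
      = (s : Mn n F) * ((u : Mn n F) - 1) * ((s⁻¹ : SLn n F) : Mn n F) + 1 := by
    have h2 : (s : Mn n F) * ((s⁻¹ : SLn n F) : Mn n F) = 1 := by
      rw [← Matrix.SpecialLinearGroup.coe_mul, mul_inv_cancel, Matrix.SpecialLinearGroup.coe_one]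
    rw [Matrix.SpecialLinearGroup.coe_mul, Matrix.SpecialLinearGroup.coe_mul, mul_sub, sub_mul, mul_one,
      h2, sub_add_cancel]
  rw [h1, Matrix.add_apply, Matrix.one_apply_ne hxy, add_zero, Matrix.mul_apply]
  apply Finset.sum_eq_zero
  intro d _
  by_cases hd : y < d
  · rw [hsi.1 d y hd, mul_zero]
  · push Not at hd
    have h3 : ((s : Mn n F) * ((u : Mn n F) - 1)) x d = 0 := by
      rw [Matrix.mul_apply]
      apply Finset.sum_eq_zero
      intro c _
      by_cases hc : c < x
      · rw [hs.1 x c hc, zero_mul]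
      · push Not at hc
        have h4 : ((u : Mn n F) - 1) c d = 0 := by
          rw [Matrix.sub_apply]
          by_cases hcd : c = d
          · rw [hcd, hu.2 d, Matrix.one_apply_eq, sub_self]
          · rw [Matrix.one_apply_ne hcd, sub_zero]
            rcases lt_or_gt_of_ne hcd with h | h
            · exact hu0 c d (le_trans hx1 hc) (le_trans (le_of_lt h) (le_trans hd hy2))
                (le_trans hx1 (le_trans hc (le_of_lt h))) (le_trans hd hy2) hcd
            · exact hu.1 c d h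
        rw [h4, mul_zero]
    rw [h3, zero_mul]

omit [Fintype F] in
/-- entries of a conjugate by a transvection away from the column of the transvection -/
theorem tv_conj_apply {a b : Fin n} (hab : a ≠ b) (c : F) (u : SLn n F) (r y : Fin n) (hy : y ≠ b) :
    ((Matrix.SpecialLinearGroup.transvection hab c * u *
      (Matrix.SpecialLinearGroup.transvection hab c)⁻¹ : SLn n F) : Mn n F) r y
      = (u : Mn n F) r y + (if r = a then c * (u : Mn n F) b y else 0) := by
  obtain ⟨w, hw⟩ : ∃ w : SLn n F, w = Matrix.SpecialLinearGroup.transvection hab c * u *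
      (Matrix.SpecialLinearGroup.transvection hab c)⁻¹ := ⟨_, rfl⟩
  rw [← hw]
  have heq : w * Matrix.SpecialLinearGroup.transvection hab c
      = Matrix.SpecialLinearGroup.transvection hab c * u := by rw [hw]; group
  have h1 := congrArg Subtype.val heq
  rw [Matrix.SpecialLinearGroup.coe_mul, Matrix.SpecialLinearGroup.coe_mul,
    Matrix.SpecialLinearGroup.transvection_coe, mul_add, add_mul, mul_one, one_mul] at h1
  have h2 := congrFun (congrFun h1 r) y
  rw [Matrix.add_apply, Matrix.add_apply, Matrix.mul_single_apply_of_ne _ _ _ _ _ hy, add_zero] at h2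
  rw [h2]
  by_cases hr : r = a
  · rw [hr, if_pos rfl, Matrix.single_mul_apply_same]
  · rw [if_neg hr, Matrix.single_mul_apply_of_ne _ _ _ _ _ hr]

omit [Fintype F] in
/-- entries of a conjugate by a transvection in the column of the transvection -/
theorem tv_conj_apply_col {a b : Fin n} (hab : a ≠ b) (c : F) (u : SLn n F) (r : Fin n) :
    ((Matrix.SpecialLinearGroup.transvection hab c * u *
      (Matrix.SpecialLinearGroup.transvection hab c)⁻¹ : SLn n F) : Mn n F) r b
      = (u : Mn n F) r b + (if r = a then c * (u : Mn n F) b b else 0)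
        - ((u : Mn n F) r a + (if r = a then c * (u : Mn n F) b a else 0)) * c := by
  have hE := tv_conj_apply hab c u r a hab
  obtain ⟨w, hw⟩ : ∃ w : SLn n F, w = Matrix.SpecialLinearGroup.transvection hab c * u *
      (Matrix.SpecialLinearGroup.transvection hab c)⁻¹ := ⟨_, rfl⟩
  rw [← hw] at hE ⊢
  have heq : w * Matrix.SpecialLinearGroup.transvection hab c
      = Matrix.SpecialLinearGroup.transvection hab c * u := by rw [hw]; group
  have h1 := congrArg Subtype.val heq
  rw [Matrix.SpecialLinearGroup.coe_mul, Matrix.SpecialLinearGroup.coe_mul,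
    Matrix.SpecialLinearGroup.transvection_coe, mul_add, add_mul, mul_one, one_mul] at h1
  have h2 := congrFun (congrFun h1 r) b
  rw [Matrix.add_apply, Matrix.add_apply, Matrix.mul_single_apply_same, hE] at h2
  have h3 : (Matrix.single a b c * (u : Mn n F)) r b = if r = a then c * (u : Mn n F) b b else 0 := by
    by_cases hr : r = a
    · rw [hr, if_pos rfl, Matrix.single_mul_apply_same]
    · rw [if_neg hr, Matrix.single_mul_apply_of_ne _ _ _ _ _ hr]
  rw [h3] at h2
  rw [← h2]
  ring

/-- conjugation by a transvection supported in the block preserves `blkU` -/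
theorem tv_conj_blkU (lo hi : Fin n) {a b : Fin n} (hab : a ≠ b) (ha1 : lo ≤ a) (ha2 : a ≤ hi)
    (hb1 : lo ≤ b) (hb2 : b ≤ hi) (c : F) :
    ∀ u ∈ blkU (F := F) lo hi, Matrix.SpecialLinearGroup.transvection hab c * u *
      (Matrix.SpecialLinearGroup.transvection hab c)⁻¹ ∈ blkU lo hi := by
  rintro u ⟨hu, hu0⟩
  have hba : (u : Mn n F) b a = 0 := hu0 b a hb1 hb2 ha1 ha2 hab.symm
  -- entries of `u` in row `b`, away from the diagonal, at columns before `a`
  have hrow : ∀ y : Fin n, y ≠ b → y ≤ hi → (u : Mn n F) b y = 0 := by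
    intro y hy hyhi
    by_cases hlo : lo ≤ y
    · exact hu0 b y hb1 hb2 hlo hyhi hy.symm
    · push Not at hlo
      exact hu.1 b y (lt_of_lt_of_le hlo hb1)
  have hcol : ∀ r : Fin n, r ≠ a → lo ≤ r → (u : Mn n F) r a = 0 := by
    intro r hr hrlo
    by_cases hhi : r ≤ hi
    · exact hu0 r a hrlo hhi ha1 ha2 hr
    · push Not at hhi
      exact hu.1 r a (lt_of_le_of_lt ha2 hhi)
  have hE1 : ∀ r y : Fin n, y ≠ b → ((Matrix.SpecialLinearGroup.transvection hab c * u *
      (Matrix.SpecialLinearGroup.transvection hab c)⁻¹ : SLn n F) : Mn n F) r y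
      = (u : Mn n F) r y + (if r = a then c * (u : Mn n F) b y else 0) :=
    fun r y hy => tv_conj_apply hab c u r y hy
  have hE2 : ∀ r : Fin n, ((Matrix.SpecialLinearGroup.transvection hab c * u *
      (Matrix.SpecialLinearGroup.transvection hab c)⁻¹ : SLn n F) : Mn n F) r b
      = (u : Mn n F) r b + (if r = a then c else 0) - (u : Mn n F) r a * c := by
    intro r
    rw [tv_conj_apply_col hab c u r, hba, hu.2 b, mul_zero, mul_one]
    by_cases hr : r = a
    · rw [if_pos hr, if_pos hr, add_zero]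
    · rw [if_neg hr, if_neg hr, add_zero, add_zero]
  refine ⟨?_, ?_⟩
  · rw [mem_UniS]
    refine ⟨fun r y hyr => ?_, fun r => ?_⟩
    · by_cases hy : y = b
      · rw [hy] at hyr
        rw [hy, hE2 r, hu.1 r b hyr]
        by_cases hr : r = a
        · rw [if_pos hr, hr, hu.2 a]
          ring
        · rw [if_neg hr, hcol r hr (le_trans hb1 (le_of_lt hyr))]
          ring
      · rw [hE1 r y hy, hu.1 r y hyr]
        by_cases hr : r = a
        · rw [if_pos hr, hrow y hy (le_trans (le_of_lt hyr) (hr ▸ ha2))]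
          ring
        · rw [if_neg hr, add_zero]
    · by_cases hr : r = b
      · rw [hr, hE2 b, hu.2 b, if_neg hab.symm, hba]
        ring
      · rw [hE1 r r hr, hu.2 r]
        by_cases hr' : r = a
        · rw [if_pos hr', hr', hba]
          ring
        · rw [if_neg hr', add_zero]
  · intro x y hx1 hx2 hy1 hy2 hxy
    by_cases hy : y = b
    · rw [hy] at hxy
      rw [hy, hE2 x, hu0 x b hx1 hx2 hb1 hb2 hxy]
      by_cases hx : x = a
      · rw [if_pos hx, hx, hu.2 a]
        ring
      · rw [if_neg hx, hu0 x a hx1 hx2 ha1 ha2 hx]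
        ring
    · rw [hE1 x y hy, hu0 x y hx1 hx2 hy1 hy2 hxy, hu0 b y hb1 hb2 hy1 hy2 (Ne.symm hy)]
      by_cases hx : x = a
      · rw [if_pos hx]
        ring
      · rw [if_neg hx, add_zero]

/-- conjugation by a transvection supported in one block preserves the intersection with the `blkU` of a
disjoint block -/
theorem tv_conj_blkU_inf (lo hi lo' hi' : Fin n) {a b : Fin n} (hab : a ≠ b) (ha1 : lo ≤ a) (ha2 : a ≤ hi)
    (hb1 : lo ≤ b) (hb2 : b ≤ hi) (hdisj : ∀ x : Fin n, lo' ≤ x → x ≤ hi' → x ≠ a ∧ x ≠ b) (c : F) :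
    ∀ u ∈ blkU (F := F) lo hi ⊓ blkU lo' hi', Matrix.SpecialLinearGroup.transvection hab c * u *
      (Matrix.SpecialLinearGroup.transvection hab c)⁻¹ ∈ blkU (F := F) lo hi ⊓ blkU lo' hi' := by
  rintro u ⟨hu1, hu2⟩
  have h1 := tv_conj_blkU lo hi hab ha1 ha2 hb1 hb2 c u hu1
  refine ⟨h1, h1.1, ?_⟩
  intro x y hx1 hx2 hy1 hy2 hxy
  rw [tv_conj_apply hab c u x y (hdisj y hy1 hy2).2, if_neg (hdisj x hx1 hx2).1, add_zero]
  exact hu2.2 x y hx1 hx2 hy1 hy2 hxy

omit [Fintype F] in
/-- transvections with unrelated positions commute -/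
theorem tv_commute {i j i' j' : Fin n} (hij : i ≠ j) (hij' : i' ≠ j') (h1 : j ≠ i') (h2 : j' ≠ i)
    (a b : F) : Commute (Matrix.SpecialLinearGroup.transvection hij a : SLn n F)
      (Matrix.SpecialLinearGroup.transvection hij' b) := by
  apply Subtype.ext
  have e1 : Matrix.single i j a * Matrix.single i' j' b = (0 : Mn n F) :=
    Matrix.single_mul_single_of_ne a i j i' h1 b
  have e2 : Matrix.single i' j' b * Matrix.single i j a = (0 : Mn n F) :=
    Matrix.single_mul_single_of_ne b i' j' i h2 a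
  rw [Matrix.SpecialLinearGroup.coe_mul, Matrix.SpecialLinearGroup.coe_mul,
    Matrix.SpecialLinearGroup.transvection_coe, Matrix.SpecialLinearGroup.transvection_coe]
  simp only [add_mul, mul_add, one_mul, mul_one, e1, e2]
  abel

omit [Fintype F] in
theorem tv2_coe {i j i' j' : Fin n} (hij : i ≠ j) (hij' : i' ≠ j') (h1 : j ≠ i') (a b : F) :
    ((Matrix.SpecialLinearGroup.transvection hij a * Matrix.SpecialLinearGroup.transvection hij' b :
      SLn n F) : Mn n F) = 1 + Matrix.single i j a + Matrix.single i' j' b := by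
  have e1 : Matrix.single i j a * Matrix.single i' j' b = (0 : Mn n F) :=
    Matrix.single_mul_single_of_ne a i j i' h1 b
  rw [Matrix.SpecialLinearGroup.coe_mul,
    Matrix.SpecialLinearGroup.transvection_coe, Matrix.SpecialLinearGroup.transvection_coe]
  simp only [add_mul, mul_add, one_mul, mul_one, e1]
  abel

omit [Fintype F] in
theorem tv3_coe {i j i' j' i'' j'' : Fin n} (hij : i ≠ j) (hij' : i' ≠ j') (hij'' : i'' ≠ j'')
    (h12 : j ≠ i') (h13 : j ≠ i'') (h23 : j' ≠ i'') (a b c : F) :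
    ((Matrix.SpecialLinearGroup.transvection hij a * Matrix.SpecialLinearGroup.transvection hij' b *
      Matrix.SpecialLinearGroup.transvection hij'' c : SLn n F) : Mn n F)
      = 1 + Matrix.single i j a + Matrix.single i' j' b + Matrix.single i'' j'' c := by
  have e1 : Matrix.single i j a * Matrix.single i'' j'' c = (0 : Mn n F) :=
    Matrix.single_mul_single_of_ne a i j i'' h13 c
  have e2 : Matrix.single i' j' b * Matrix.single i'' j'' c = (0 : Mn n F) :=
    Matrix.single_mul_single_of_ne b i' j' i'' h23 c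
  rw [Matrix.SpecialLinearGroup.coe_mul, tv2_coe hij hij' h12,
    Matrix.SpecialLinearGroup.transvection_coe]
  simp only [add_mul, mul_add, one_mul, mul_one, e1, e2]
  abel

omit [Fintype F] in
/-- general form of the torus identity: `h(a/b) = w(a) w(-b)` with `w(a) = x(a) y(-1/a) x(a)` -/
theorem hElt_eq_prod_gen {k k' : Fin n} (hkk' : k ≠ k') {a b : F} (ha : a ≠ 0) (hb : b ≠ 0) :
    diagSL (hEltFun k k' (a / b)) (hEltFun_prod hkk' (div_ne_zero ha hb)) =
      Matrix.SpecialLinearGroup.transvection hkk' a * Matrix.SpecialLinearGroup.transvection hkk'.symm (-a⁻¹) *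
        Matrix.SpecialLinearGroup.transvection hkk' a * Matrix.SpecialLinearGroup.transvection hkk' (-b) *
        Matrix.SpecialLinearGroup.transvection hkk'.symm b⁻¹ *
        Matrix.SpecialLinearGroup.transvection hkk' (-b) := by
  apply Subtype.ext
  rw [Matrix.ext_iff_mulVec]
  intro w
  simp only [Matrix.SpecialLinearGroup.coe_mul, ← Matrix.mulVec_mulVec, diagSL_coe]
  ext r
  rw [Matrix.mulVec_diagonal]
  simp only [tv_mulVec_apply]
  unfold hEltFun
  by_cases hr : r = k
  · subst hr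
    simp only [if_true, if_neg hkk', if_neg hkk'.symm, add_zero]
    field_simp
    ring
  · by_cases hr' : r = k'
    · subst hr'
      simp only [if_true, if_neg hkk', if_neg hkk'.symm, add_zero]
      field_simp
      ring
    · simp only [if_neg hr, if_neg hr', add_zero, one_mul]

omit [Fintype F] in
theorem diagSL_congr {d d' : Fin n → F} (h : d = d') (hd : ∏ i, d i = 1) (hd' : ∏ i, d' i = 1) :
    diagSL d hd = diagSL d' hd' := by
  subst h
  rfl

/-- the Weyl-type element `w(a) = x(a) y(-1/a) x(a)` of the `SL_2` on the coordinates `k, k'` -/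
def wElt {k k' : Fin n} (hkk' : k ≠ k') (a : F) : SLn n F :=
  Matrix.SpecialLinearGroup.transvection hkk' a * Matrix.SpecialLinearGroup.transvection hkk'.symm (-a⁻¹) *
    Matrix.SpecialLinearGroup.transvection hkk' a

omit [Fintype F] in
theorem hElt_eq_wElt {k k' : Fin n} (hkk' : k ≠ k') {a b : F} (ha : a ≠ 0) (hb : b ≠ 0) :
    diagSL (hEltFun k k' (a / b)) (hEltFun_prod hkk' (div_ne_zero ha hb)) =
      wElt hkk' a * wElt hkk' (-b) := by
  rw [hElt_eq_prod_gen hkk' ha hb]
  unfold wElt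
  rw [inv_neg, neg_neg]
  simp only [mul_assoc]

omit [Fintype F] in
theorem hElt_eq_wElt_one {k k' : Fin n} (hkk' : k ≠ k') {t : F} (ht : t ≠ 0) :
    diagSL (hEltFun k k' t) (hEltFun_prod hkk' ht) = wElt hkk' t * wElt hkk' (-1) := by
  rw [← hElt_eq_wElt hkk' ht one_ne_zero]
  exact diagSL_congr (by rw [div_one]) _ _

omit [Fintype F] in
theorem hElt_eq_wElt_neg {k k' : Fin n} (hkk' : k ≠ k') {t : F} (ht : t ≠ 0) :
    diagSL (hEltFun k k' t) (hEltFun_prod hkk' ht) = wElt hkk' (-t) * wElt hkk' 1 := by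
  have h := hElt_eq_wElt hkk' (neg_ne_zero.mpr ht) (neg_ne_zero.mpr (one_ne_zero (α := F)))
  rw [neg_neg] at h
  rw [← h]
  exact diagSL_congr (by rw [neg_div_neg_eq, div_one]) _ _

omit [Fintype F] in
theorem wElt_commute {k k1 k' k'1 : Fin n} (h : k ≠ k1) (h' : k' ≠ k'1) (h1 : k ≠ k') (h2 : k ≠ k'1)
    (h3 : k1 ≠ k') (h4 : k1 ≠ k'1) (a b : F) : Commute (wElt h a) (wElt h' b) := by
  unfold wElt
  have c1 : ∀ x y : F, Commute (Matrix.SpecialLinearGroup.transvection h x : SLn n F)
      (Matrix.SpecialLinearGroup.transvection h' y) := fun x y => tv_commute h h' h3 h2.symm x y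
  have c2 : ∀ x y : F, Commute (Matrix.SpecialLinearGroup.transvection h x : SLn n F)
      (Matrix.SpecialLinearGroup.transvection h'.symm y) := fun x y => tv_commute h h'.symm h4 h1.symm x y
  have c3 : ∀ x y : F, Commute (Matrix.SpecialLinearGroup.transvection h.symm x : SLn n F)
      (Matrix.SpecialLinearGroup.transvection h' y) := fun x y => tv_commute h.symm h' h1 h4.symm x y
  have c4 : ∀ x y : F, Commute (Matrix.SpecialLinearGroup.transvection h.symm x : SLn n F)
      (Matrix.SpecialLinearGroup.transvection h'.symm y) := fun x y => tv_commute h.symm h'.symm h2 h3.symm x y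
  exact (((c1 _ _).mul_right (c2 _ _)).mul_right (c1 _ _)).mul_left
    ((((c3 _ _).mul_right (c4 _ _)).mul_right (c3 _ _))) |>.mul_left
    (((c1 _ _).mul_right (c2 _ _)).mul_right (c1 _ _))

omit [Fintype F] in
theorem three_regroup {G : Type*} [Group G] (a1 a2 a3 b1 b2 b3 : G) (h21 : Commute a2 b1)
    (h31 : Commute a3 b1) (h32 : Commute a3 b2) :
    (a1 * b1) * (a2 * b2) * (a3 * b3) = (a1 * a2 * a3) * (b1 * b2 * b3) := by
  have e1 : b1 * a2 = a2 * b1 := h21.eq.symm
  have e2 : b1 * a3 = a3 * b1 := h31.eq.symm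
  have e3 : b2 * a3 = a3 * b2 := h32.eq.symm
  calc a1 * b1 * (a2 * b2) * (a3 * b3) = a1 * (b1 * a2) * b2 * a3 * b3 := by group
    _ = a1 * (a2 * b1) * b2 * a3 * b3 := by rw [e1]
    _ = a1 * a2 * b1 * (b2 * a3) * b3 := by group
    _ = a1 * a2 * b1 * (a3 * b2) * b3 := by rw [e3]
    _ = a1 * a2 * (b1 * a3) * b2 * b3 := by group
    _ = a1 * a2 * (a3 * b1) * b2 * b3 := by rw [e2]
    _ = a1 * a2 * a3 * (b1 * b2 * b3) := by group

omit [Fintype F] in
theorem single_mulVec_apply' (a b : Fin n) (x : F) (w : Fin n → F) (r : Fin n) :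
    (Matrix.single a b x *ᵥ w) r = if r = a then x * w b else 0 := by
  rw [Matrix.single_mulVec]
  by_cases hr : r = a
  · rw [hr, if_pos rfl, Function.update_self]
  · rw [if_neg hr, Function.update_of_ne hr, Pi.zero_apply]

end Blk

end Cfsg.Agent.Helper88
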