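import Cfsg.Agent.Helper88.SuTorusA
import Cfsg.Agent.Helper99.SuBasic
import Cfsg.Agent.Helper97.UForm

set_option autoImplicit false
set_option linter.unusedSectionVars false

/-!
# Root elements of the unitary group `suG` (antidiagonal form) as products of transvections (helper88)
-/

namespace Cfsg.Agent.Helper88

open Cfsg Matrix Cfsg.Agent.Helper44.PSLn Cfsg.Agent.Helper99
open Cfsg.Agent.Helper5 (frobQ frobQ_apply frobQ_frobQ)

universe u

section SuRoot

variable {K : Type u} [Field K] [Fintype K] {q n : ℕ} (hK : Fintype.card K = q ^ 2)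

theorem vecMulVec_single_single (a b : Fin n) (s t : K) :
    vecMulVec (Pi.single a s) (Pi.single b t) = Matrix.single a b (s * t) := by
  ext x y
  rw [Matrix.vecMulVec_apply, Matrix.single_apply, Pi.single_apply, Pi.single_apply]
  by_cases hx : x = a
  · by_cases hy : y = b
    · rw [if_pos hx, if_pos hy, if_pos ⟨hx.symm, hy.symm⟩]
    · rw [if_neg hy, mul_zero, if_neg (fun h => hy h.2.symm)]
  · rw [if_neg hx, zero_mul, if_neg (fun h => hx h.1.symm)]

theorem suCov_single (j : Fin n) (a : K) :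
    suCov hK (Pi.single j a) = Pi.single (Fin.rev j) (frobQ hK a) := by
  funext i
  unfold suCov
  rw [Pi.single_apply, Pi.single_apply]
  by_cases h : i = Fin.rev j
  · rw [if_pos h, if_pos (by rw [h, Fin.rev_rev])]
  · rw [if_neg h, if_neg (fun h' => h (by rw [← h', Fin.rev_rev])), map_zero]

/-- the Eichler matrix of two coordinate vectors -/
theorem suEmat_single (i j : Fin n) (l c : K) :
    suEmat hK (Pi.single i 1) (Pi.single j l) c =
      1 + Matrix.single j (Fin.rev i) l - Matrix.single i (Fin.rev j) (frobQ hK l)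
        + Matrix.single i (Fin.rev i) c := by
  unfold suEmat
  rw [suCov_single, suCov_single, vecMulVec_single_single, vecMulVec_single_single,
    vecMulVec_single_single, map_one, mul_one, one_mul, one_mul, Matrix.smul_single, smul_eq_mul, mul_one]

theorem suHE_single {i j : Fin n} (hi : Fin.rev i ≠ i) (hij : Fin.rev i ≠ j) (l c : K)
    (hc : c + frobQ hK c + (if Fin.rev j = j then l * frobQ hK l else 0) = 0) :
    SuHE hK (Pi.single i 1) (Pi.single j l) c := by
  refine ⟨?_, ?_, ?_⟩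
  · rw [suH_single_right, map_one, mul_one, Pi.single_apply, if_neg hi]
  · rw [suH_single_right, map_one, mul_one, Pi.single_apply, if_neg hij]
  · rw [suH_single_right, Pi.single_apply]
    by_cases h : Fin.rev j = j
    · rw [if_pos h] at hc ⊢
      exact hc
    · rw [if_neg h] at hc ⊢
      rw [zero_mul]
      exact hc

theorem mem_suG_of_coe {g : SLn n K} {u w : Fin n → K} {c : K} (hg : (g : Mn n K) = suEmat hK u w c)
    (hE : SuHE hK u w c) : g ∈ suG hK n := by
  rw [mem_suG]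
  intro x y
  rw [hg]
  exact suEmat_pres hK hE x y

theorem suEmat_pow {u w : Fin n → K} (c : K) (huu : suH hK n u u = 0) (hwu : suH hK n w u = 0) (k : ℕ) :
    ∃ c' : K, suEmat hK u w c ^ k = suEmat hK u ((k : K) • w) c' := by
  induction k with
  | zero => exact ⟨0, by rw [pow_zero, Nat.cast_zero, zero_smul, suEmat_zero]⟩
  | succ k ih =>
    obtain ⟨c', hc'⟩ := ih
    have h1 : suH hK n ((k : K) • w) u = 0 := by rw [suH_smul_left, hwu, mul_zero]
    refine ⟨c' + c - suH hK n w ((k : K) • w), ?_⟩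
    rw [pow_succ, hc', suEmat_mul hK c' c huu h1 hwu, Nat.cast_succ, add_smul, one_smul]

theorem suEmat_pow_char_sq (p : ℕ) [CharP K p] {u w : Fin n → K} (c : K) (huu : suH hK n u u = 0)
    (hwu : suH hK n w u = 0) : suEmat hK u w c ^ (p ^ 2) = 1 := by
  obtain ⟨c', hc'⟩ := suEmat_pow hK c huu hwu p
  rw [CharP.cast_eq_zero, zero_smul] at hc'
  have h0 : suH hK n (0 : Fin n → K) u = 0 := suH_zero_left hK u
  have h2 : ∀ k : ℕ, suEmat hK u 0 c' ^ k = suEmat hK u 0 ((k : K) * c') := by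
    intro k
    induction k with
    | zero => rw [pow_zero, Nat.cast_zero, zero_mul, suEmat_zero]
    | succ k ih =>
      rw [pow_succ, ih, suEmat_mul hK _ _ huu h0 h0, suH_zero_left, sub_zero, add_zero, Nat.cast_succ]
      congr 1
      ring
  rw [pow_two, pow_mul, hc', h2, CharP.cast_eq_zero, zero_mul, suEmat_zero]

theorem pElt_of_coe (p : ℕ) [CharP K p] {g : SLn n K} {u w : Fin n → K} {c : K}
    (hg : (g : Mn n K) = suEmat hK u w c) (hE : SuHE hK u w c) : ∃ k : ℕ, g ^ p ^ k = 1 := by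
  refine ⟨2, Subtype.ext ?_⟩
  rw [Matrix.SpecialLinearGroup.coe_pow, hg, Matrix.SpecialLinearGroup.coe_one]
  exact suEmat_pow_char_sq hK p c hE.1 hE.2.1

/-- skew elements: `c + c^q = 0` -/
def IsSkew (c : K) : Prop := c + frobQ hK c = 0

theorem IsSkew.neg {c : K} (h : IsSkew hK c) : IsSkew hK (-c) := by
  unfold IsSkew at h ⊢
  rw [map_neg, ← neg_add, h, neg_zero]

theorem IsSkew.inv {c : K} (h : IsSkew hK c) : IsSkew hK c⁻¹ := by
  unfold IsSkew at h ⊢
  have h1 : frobQ hK c = -c := by linear_combination h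
  rw [map_inv₀, h1, inv_neg, add_neg_cancel]

theorem IsSkew.fixed_mul {c s : K} (h : IsSkew hK c) (hs : frobQ hK s = s) : IsSkew hK (s * c) := by
  unfold IsSkew at h ⊢
  rw [map_mul, hs, ← mul_add, h, mul_zero]

theorem exists_isSkew : ∃ c : K, c ≠ 0 ∧ IsSkew hK c := by
  obtain ⟨σ, hσ⟩ := Cfsg.Agent.Helper97.exists_sigma hK
  obtain ⟨c, hc0, hc⟩ := hσ.exists_trace_zero
  refine ⟨c, hc0, ?_⟩
  unfold IsSkew
  rw [frobQ_apply, ← hσ.pow, hc, add_neg_cancel]

theorem exists_norm_eq' (a : K) (ha : frobQ hK a = a) : ∃ l : K, l * frobQ hK l = a := by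
  by_cases ha0 : a = 0
  · exact ⟨0, by rw [zero_mul, ha0]⟩
  · obtain ⟨σ, hσ⟩ := Cfsg.Agent.Helper97.exists_sigma hK
    obtain ⟨l, hl⟩ := hσ.exists_norm_eq hK a (by rw [hσ.pow, ← frobQ_apply hK, ha]) ha0
    exact ⟨l, by rw [frobQ_apply, ← hσ.pow, hl]⟩

/-- long root elements `1 + c E_{i, rev i}` -/
theorem su_tv1 (p : ℕ) [CharP K p] {i : Fin n} (hi : i ≠ Fin.rev i) {c : K} (hc : IsSkew hK c) :
    (Matrix.SpecialLinearGroup.transvection hi c : SLn n K) ∈ suG hK n ∧
      ∃ k : ℕ, (Matrix.SpecialLinearGroup.transvection hi c : SLn n K) ^ p ^ k = 1 := by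
  have hg : ((Matrix.SpecialLinearGroup.transvection hi c : SLn n K) : Mn n K)
      = suEmat hK (Pi.single i 1) (Pi.single i 0) c := by
    rw [suEmat_single, Matrix.SpecialLinearGroup.transvection_coe, map_zero, Matrix.single_zero,
      add_zero, sub_zero]
  have hE : SuHE hK (Pi.single i (1 : K)) (Pi.single i 0) c := by
    apply suHE_single hK hi.symm hi.symm
    rw [if_neg hi.symm, add_zero]
    exact hc
  exact ⟨mem_suG_of_coe hK hg hE, pElt_of_coe hK p hg hE⟩

/-- short root elements `1 + l E_{j, rev i} - l^q E_{i, rev j}` -/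
theorem su_tv2 (p : ℕ) [CharP K p] {i j : Fin n} (h1 : j ≠ Fin.rev i) (h2 : i ≠ Fin.rev j)
    (hi : Fin.rev i ≠ i) (hj : Fin.rev j ≠ j) (l : K) :
    (Matrix.SpecialLinearGroup.transvection h1 l *
      Matrix.SpecialLinearGroup.transvection h2 (-(frobQ hK l)) : SLn n K) ∈ suG hK n ∧
      ∃ k : ℕ, (Matrix.SpecialLinearGroup.transvection h1 l *
        Matrix.SpecialLinearGroup.transvection h2 (-(frobQ hK l)) : SLn n K) ^ p ^ k = 1 := by
  have hg : ((Matrix.SpecialLinearGroup.transvection h1 l *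
      Matrix.SpecialLinearGroup.transvection h2 (-(frobQ hK l)) : SLn n K) : Mn n K)
      = suEmat hK (Pi.single i 1) (Pi.single j l) 0 := by
    rw [suEmat_single, tv2_coe h1 h2 hi, Matrix.single_zero, add_zero, ← Matrix.single_neg, sub_eq_add_neg]
  have hE : SuHE hK (Pi.single i (1 : K)) (Pi.single j l) 0 := by
    apply suHE_single hK hi h1.symm
    rw [if_neg hj, map_zero, add_zero, add_zero]
  exact ⟨mem_suG_of_coe hK hg hE, pElt_of_coe hK p hg hE⟩

/-- root elements of the `SU_3` around a fixed index `m = rev m` -/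
theorem su_tv3 (p : ℕ) [CharP K p] {i m : Fin n} (hm : Fin.rev m = m) (hi : Fin.rev i ≠ i) (him : i ≠ m)
    (h1 : m ≠ Fin.rev i) {μ c : K} (hc : c + frobQ hK c + μ * frobQ hK μ = 0) :
    (Matrix.SpecialLinearGroup.transvection h1 μ *
      Matrix.SpecialLinearGroup.transvection him (-(frobQ hK μ)) *
      Matrix.SpecialLinearGroup.transvection hi.symm c : SLn n K) ∈ suG hK n ∧
      ∃ k : ℕ, (Matrix.SpecialLinearGroup.transvection h1 μ *
        Matrix.SpecialLinearGroup.transvection him (-(frobQ hK μ)) *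
        Matrix.SpecialLinearGroup.transvection hi.symm c : SLn n K) ^ p ^ k = 1 := by
  have hg : ((Matrix.SpecialLinearGroup.transvection h1 μ *
      Matrix.SpecialLinearGroup.transvection him (-(frobQ hK μ)) *
      Matrix.SpecialLinearGroup.transvection hi.symm c : SLn n K) : Mn n K)
      = suEmat hK (Pi.single i 1) (Pi.single m μ) c := by
    rw [suEmat_single, tv3_coe h1 him hi.symm hi hi him.symm, hm, ← Matrix.single_neg, sub_eq_add_neg]
  have hE : SuHE hK (Pi.single i (1 : K)) (Pi.single m μ) c := by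
    apply suHE_single hK hi h1.symm
    rw [if_pos hm]
    exact hc
  exact ⟨mem_suG_of_coe hK hg hE, pElt_of_coe hK p hg hE⟩

/-- `su_tv1` with free indices -/
theorem su_tv1' (p : ℕ) [CharP K p] {a b : Fin n} (hab : a ≠ b) (hb : b = Fin.rev a) {c : K}
    (hc : IsSkew hK c) :
    (Matrix.SpecialLinearGroup.transvection hab c : SLn n K) ∈ suG hK n ∧
      ∃ k : ℕ, (Matrix.SpecialLinearGroup.transvection hab c : SLn n K) ^ p ^ k = 1 := by
  subst hb
  exact su_tv1 hK p hab hc

/-- `su_tv2` with free indices -/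
theorem su_tv2' (p : ℕ) [CharP K p] {a b c d : Fin n} (hab : a ≠ b) (hcd : c ≠ d) (hb : b = Fin.rev c)
    (hd : d = Fin.rev a) (h1 : b ≠ c) (h2 : d ≠ a) (l : K) :
    (Matrix.SpecialLinearGroup.transvection hab l *
      Matrix.SpecialLinearGroup.transvection hcd (-(frobQ hK l)) : SLn n K) ∈ suG hK n ∧
      ∃ k : ℕ, (Matrix.SpecialLinearGroup.transvection hab l *
        Matrix.SpecialLinearGroup.transvection hcd (-(frobQ hK l)) : SLn n K) ^ p ^ k = 1 := by
  subst hb hd
  exact su_tv2 hK p hab hcd h1 h2 l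

/-- `su_tv3` with free indices -/
theorem su_tv3' (p : ℕ) [CharP K p] {a m b : Fin n} (hm : Fin.rev m = m) (hb : b = Fin.rev a)
    (hba : b ≠ a) (ham : a ≠ m) (hmb : m ≠ b) {μ c : K} (hc : c + frobQ hK c + μ * frobQ hK μ = 0) :
    (Matrix.SpecialLinearGroup.transvection hmb μ *
      Matrix.SpecialLinearGroup.transvection ham (-(frobQ hK μ)) *
      Matrix.SpecialLinearGroup.transvection hba.symm c : SLn n K) ∈ suG hK n ∧
      ∃ k : ℕ, (Matrix.SpecialLinearGroup.transvection hmb μ *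
        Matrix.SpecialLinearGroup.transvection ham (-(frobQ hK μ)) *
        Matrix.SpecialLinearGroup.transvection hba.symm c : SLn n K) ^ p ^ k = 1 := by
  subst hb
  exact su_tv3 hK p hm hba ham hmb hc

end SuRoot

section SuGood

variable {K : Type u} [Field K] [Fintype K] {q n : ℕ} (hK : Fintype.card K = q ^ 2)

/-- the set of `p`-elements of `suG` normalizing the block subgroup -/
def suGen (p : ℕ) (lo hi lo' hi' : Fin n) : Set (SLn n K) :=
  {x | x ∈ suG hK n ∧ (∃ k : ℕ, x ^ p ^ k = 1) ∧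
    ∀ u ∈ blkU (F := K) lo hi ⊓ blkU lo' hi', x * u * x⁻¹ ∈ blkU (F := K) lo hi ⊓ blkU lo' hi'}

theorem goodIn_of_blocks (p : ℕ) (lo hi lo' hi' : Fin n) (h : SLn n K)
    (hdiag : ∀ y ∈ UniS n K, h * y * h⁻¹ ∈ UniS n K)
    (hcent : ∀ s ∈ suS hK n, (∀ x ∈ suG hK n ⊓ (blkU lo hi ⊓ blkU lo' hi'), s * x = x * s) →
      s ∈ blkU (F := K) lo hi ⊓ blkU lo' hi')
    (hcl : h ∈ Subgroup.closure (suGen hK p lo hi lo' hi')) :
    GoodIn p (suG hK n) (suS hK n) h := by
  have hh : h ∈ suG hK n := (Subgroup.closure_le _).2 (fun x hx => hx.1) hcl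
  refine ⟨fun y hy => ?_, suG hK n ⊓ (blkU lo hi ⊓ blkU lo' hi'), ?_, ?_, ?_, ?_⟩
  · have hy' := (mem_suS hK y).1 hy
    exact (mem_suS hK _).2 ⟨mul_mem (mul_mem hh hy'.1) (inv_mem hh), hdiag y hy'.2⟩
  · intro x hx
    obtain ⟨hx1, hx2⟩ := Subgroup.mem_inf.mp hx
    obtain ⟨hx3, hx4⟩ := Subgroup.mem_inf.mp hx2
    exact (mem_suS hK x).2 ⟨hx1, hx3.1⟩
  · intro s hs x hx
    have hs' := (mem_suS hK s).1 hs
    obtain ⟨hx1, hx2⟩ := Subgroup.mem_inf.mp hx
    obtain ⟨hx3, hx4⟩ := Subgroup.mem_inf.mp hx2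
    exact Subgroup.mem_inf.mpr ⟨(suG hK n).mul_mem ((suG hK n).mul_mem hs'.1 hx1) ((suG hK n).inv_mem hs'.1),
      Subgroup.mem_inf.mpr ⟨blkU_normal lo hi s hs'.2 x hx3, blkU_normal lo' hi' s hs'.2 x hx4⟩⟩
  · intro s hs hcomm
    exact Subgroup.mem_inf.mpr ⟨((mem_suS hK s).1 hs).1, hcent s hs hcomm⟩
  · refine Subgroup.closure_mono ?_ hcl
    rintro x ⟨hxG, hxp, hxn⟩
    refine ⟨hxG, hxp, fun y hy => ?_⟩
    obtain ⟨hy1, hy2⟩ := Subgroup.mem_inf.mp hy
    exact Subgroup.mem_inf.mpr ⟨(suG hK n).mul_mem ((suG hK n).mul_mem hxG hy1) ((suG hK n).inv_mem hxG),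
      hxn y hy2⟩

theorem conj_mul_mem {B : Subgroup (SLn n K)} {g g' : SLn n K} (hg : ∀ u ∈ B, g * u * g⁻¹ ∈ B)
    (hg' : ∀ u ∈ B, g' * u * g'⁻¹ ∈ B) : ∀ u ∈ B, (g * g') * u * (g * g')⁻¹ ∈ B := by
  intro u hu
  have : (g * g') * u * (g * g')⁻¹ = g * (g' * u * g'⁻¹) * g⁻¹ := by group
  rw [this]
  exact hg _ (hg' u hu)

theorem mem_blkU_pair {k k1 : Fin n} (hk1 : (k1 : ℕ) = (k : ℕ) + 1) {s : SLn n K} (hs : s ∈ UniS n K)
    (h0 : (s : Mn n K) k k1 = 0) : s ∈ blkU (F := K) k k1 := by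
  refine ⟨hs, fun x y hx1 hx2 hy1 hy2 hxy => ?_⟩
  rcases lt_or_gt_of_ne hxy with h | h
  · have hx : x = k := by
      apply Fin.ext
      rw [Fin.lt_def] at h
      rw [Fin.le_def] at hx1 hy2
      omega
    have hy : y = k1 := by
      apply Fin.ext
      rw [Fin.lt_def] at h
      rw [Fin.le_def] at hx1 hy2
      omega
    rw [hx, hy]
    exact h0
  · exact hs.1 x y h

/-- entries of an element commuting with a product of two transvections -/
theorem comm_tv2_entries {a m0 e b : Fin n} (ham0 : a ≠ m0) (heb : e ≠ b) (h1 : m0 ≠ e) (c1 c2 : K)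
    (s : SLn n K)
    (hcomm : s * (Matrix.SpecialLinearGroup.transvection ham0 c1 *
      Matrix.SpecialLinearGroup.transvection heb c2) = (Matrix.SpecialLinearGroup.transvection ham0 c1 *
      Matrix.SpecialLinearGroup.transvection heb c2) * s) :
    (∀ y : Fin n, y ≠ m0 → y ≠ b → a ≠ e → c1 * (s : Mn n K) m0 y = 0) ∧
      (∀ x : Fin n, x ≠ a → x ≠ e → b ≠ m0 → (s : Mn n K) x e * c2 = 0) := by
  obtain ⟨r, hr⟩ : ∃ r : SLn n K, r = Matrix.SpecialLinearGroup.transvection ham0 c1 *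
      Matrix.SpecialLinearGroup.transvection heb c2 := ⟨_, rfl⟩
  rw [← hr] at hcomm
  have hr' : (r : Mn n K) = 1 + Matrix.single a m0 c1 + Matrix.single e b c2 := by
    rw [hr]
    exact tv2_coe ham0 heb h1 c1 c2
  have h2 := congrArg Subtype.val hcomm
  rw [Matrix.SpecialLinearGroup.coe_mul, Matrix.SpecialLinearGroup.coe_mul, hr',
    mul_add, mul_add, mul_one, add_mul, add_mul, one_mul, add_assoc, add_assoc, add_right_inj] at h2
  refine ⟨fun y hy1 hy2 hae => ?_, fun x hx1 hx2 hbm => ?_⟩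
  · have h3 := congrFun (congrFun h2 a) y
    rw [Matrix.add_apply, Matrix.add_apply, Matrix.mul_single_apply_of_ne _ _ _ _ _ hy1,
      Matrix.mul_single_apply_of_ne _ _ _ _ _ hy2, Matrix.single_mul_apply_same,
      Matrix.single_mul_apply_of_ne _ _ _ _ _ hae, add_zero, add_zero] at h3
    exact h3.symm
  · have h3 := congrFun (congrFun h2 x) b
    rw [Matrix.add_apply, Matrix.add_apply, Matrix.mul_single_apply_of_ne _ _ _ _ _ hbm,
      Matrix.mul_single_apply_same, Matrix.single_mul_apply_of_ne _ _ _ _ _ hx1,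
      Matrix.single_mul_apply_of_ne _ _ _ _ _ hx2, add_zero, zero_add] at h3
    exact h3

/-- membership of the upper root element `x_k(c)` in the block subgroup of a disjoint or later block -/
theorem tv2_mem_blkU {a m0 e b : Fin n} (ham0 : a < m0) (heb : e < b) (h1 : m0 ≠ e) (c1 c2 : K)
    (lo hi : Fin n) (hlo : a < lo) (hhi : hi < b) :
    (Matrix.SpecialLinearGroup.transvection (ne_of_lt ham0) c1 *
      Matrix.SpecialLinearGroup.transvection (ne_of_lt heb) c2 : SLn n K) ∈ blkU (F := K) lo hi := by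
  refine ⟨mul_mem (transvection_mem_UniS ham0 c1) (transvection_mem_UniS heb c2), ?_⟩
  intro x y hx1 hx2 hy1 hy2 hxy
  have e1 : ¬ (a = x ∧ m0 = y) := fun h => absurd hx1 (not_le.mpr (h.1 ▸ hlo))
  have e2 : ¬ (e = x ∧ b = y) := fun h => absurd hy2 (not_le.mpr (h.2 ▸ hhi))
  rw [tv2_coe (ne_of_lt ham0) (ne_of_lt heb) h1, Matrix.add_apply, Matrix.add_apply,
    Matrix.one_apply_ne hxy, Matrix.single_apply, Matrix.single_apply, if_neg e1, if_neg e2, add_zero,
    add_zero]

end SuGood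

end Cfsg.Agent.Helper88
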