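import Cfsg.Agent.Helper88.SuTorusB

set_option autoImplicit false
set_option linter.unusedSectionVars false

/-!
# The torus generators of `suG` are good elements (helper88)
-/

namespace Cfsg.Agent.Helper88

open Cfsg Matrix Cfsg.Agent.Helper44.PSLn Cfsg.Agent.Helper99
open Cfsg.Agent.Helper5 (frobQ frobQ_apply frobQ_frobQ)

universe u

section TypeA

variable {K : Type u} [Field K] [Fintype K] {q n : ℕ} (hK : Fintype.card K = q ^ 2)

/-- the torus elements `a_k(t) = diag(t at k, 1/t at k+1, t^q at rev(k+1), t^(-q) at rev k)` are good -/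
theorem goodA (p : ℕ) [CharP K p] {k k1 k' k'1 : Fin n} (hk1 : (k1 : ℕ) = (k : ℕ) + 1)
    (hk' : k' = Fin.rev k1) (hk'1 : k'1 = Fin.rev k) (hlt : k1 < k') {t : K} (ht : t ≠ 0)
    (hkk1 : k ≠ k1) (hk'k'1 : k' ≠ k'1) :
    GoodIn p (suG hK n) (suS hK n)
      (diagSL (hEltFun k k1 t) (hEltFun_prod hkk1 ht) *
        diagSL (hEltFun k' k'1 (frobQ hK t)) (hEltFun_prod hk'k'1 ((map_ne_zero _).mpr ht))) := by
  have v1 : (k' : ℕ) = n - ((k1 : ℕ) + 1) := by rw [hk', Fin.val_rev]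
  have v2 : (k'1 : ℕ) = n - ((k : ℕ) + 1) := by rw [hk'1, Fin.val_rev]
  have hlt' : (k1 : ℕ) < (k' : ℕ) := hlt
  have hk'n := k'.2
  have hk'1n := k'1.2
  have hk'1v : (k'1 : ℕ) = (k' : ℕ) + 1 := by omega
  have hk_lt : k < k1 := by rw [Fin.lt_def]; omega
  have hk'_lt : k' < k'1 := by rw [Fin.lt_def]; omega
  have hkk' : k ≠ k' := (hk_lt.trans hlt).ne
  have hkk'1 : k ≠ k'1 := (hk_lt.trans (hlt.trans hk'_lt)).ne
  have hk1k' : k1 ≠ k' := hlt.ne
  have hk1k'1 : k1 ≠ k'1 := (hlt.trans hk'_lt).ne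
  have hr1 : k1 = Fin.rev k' := by rw [hk', Fin.rev_rev]
  have hr2 : k = Fin.rev k'1 := by rw [hk'1, Fin.rev_rev]
  have hN1 : ∀ {a b : Fin n} (hab : a ≠ b), k ≤ a → a ≤ k1 → k ≤ b → b ≤ k1 → ∀ c : K,
      ∀ u ∈ blkU (F := K) k k1 ⊓ blkU k' k'1, Matrix.SpecialLinearGroup.transvection hab c * u *
        (Matrix.SpecialLinearGroup.transvection hab c)⁻¹ ∈ blkU (F := K) k k1 ⊓ blkU k' k'1 := by
    intro a b hab ha1 ha2 hb1 hb2 c
    exact tv_conj_blkU_inf k k1 k' k'1 hab ha1 ha2 hb1 hb2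
      (fun x hx1 _ => ⟨(lt_of_le_of_lt ha2 (lt_of_lt_of_le hlt hx1)).ne',
        (lt_of_le_of_lt hb2 (lt_of_lt_of_le hlt hx1)).ne'⟩) c
  have hN2 : ∀ {a b : Fin n} (hab : a ≠ b), k' ≤ a → a ≤ k'1 → k' ≤ b → b ≤ k'1 → ∀ c : K,
      ∀ u ∈ blkU (F := K) k k1 ⊓ blkU k' k'1, Matrix.SpecialLinearGroup.transvection hab c * u *
        (Matrix.SpecialLinearGroup.transvection hab c)⁻¹ ∈ blkU (F := K) k k1 ⊓ blkU k' k'1 := by
    intro a b hab ha1 ha2 hb1 hb2 c u hu
    obtain ⟨hu1, hu2⟩ := Subgroup.mem_inf.mp hu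
    have h := tv_conj_blkU_inf k' k'1 k k1 hab ha1 ha2 hb1 hb2
      (fun x _ hx2 => ⟨(lt_of_lt_of_le (lt_of_le_of_lt hx2 hlt) ha1).ne,
        (lt_of_lt_of_le (lt_of_le_of_lt hx2 hlt) hb1).ne⟩) c u (Subgroup.mem_inf.mpr ⟨hu2, hu1⟩)
    obtain ⟨h3, h4⟩ := Subgroup.mem_inf.mp h
    exact Subgroup.mem_inf.mpr ⟨h4, h3⟩
  have hX : ∀ c : K, (Matrix.SpecialLinearGroup.transvection hkk1 c *
      Matrix.SpecialLinearGroup.transvection hk'k'1 (-(frobQ hK c)) : SLn n K) ∈
        suGen hK p k k1 k' k'1 := by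
    intro c
    obtain ⟨h1, h2⟩ := su_tv2' hK p hkk1 hk'k'1 hr1 hk'1 hk1k' hkk'1.symm c
    exact ⟨h1, h2, conj_mul_mem (hN1 hkk1 le_rfl hk_lt.le hk_lt.le le_rfl c)
      (hN2 hk'k'1 le_rfl hk'_lt.le hk'_lt.le le_rfl _)⟩
  have hY : ∀ c : K, (Matrix.SpecialLinearGroup.transvection hkk1.symm c *
      Matrix.SpecialLinearGroup.transvection hk'k'1.symm (-(frobQ hK c)) : SLn n K) ∈
        suGen hK p k k1 k' k'1 := by
    intro c
    obtain ⟨h1, h2⟩ := su_tv2' hK p hkk1.symm hk'k'1.symm hr2 hk' hkk'1 hk1k'.symm c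
    exact ⟨h1, h2, conj_mul_mem (hN1 hkk1.symm hk_lt.le le_rfl le_rfl hk_lt.le c)
      (hN2 hk'k'1.symm hk'_lt.le le_rfl le_rfl hk'_lt.le _)⟩
  have hN : ∀ c : K, wElt hkk1 c * wElt hk'k'1 (-(frobQ hK c)) ∈
      Subgroup.closure (suGen hK p k k1 k' k'1) := by
    intro c
    have e : -(frobQ hK (-c⁻¹)) = -(-(frobQ hK c))⁻¹ := by rw [map_neg, map_inv₀, inv_neg]
    have h3 := three_regroup (Matrix.SpecialLinearGroup.transvection hkk1 c : SLn n K)
      (Matrix.SpecialLinearGroup.transvection hkk1.symm (-c⁻¹))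
      (Matrix.SpecialLinearGroup.transvection hkk1 c)
      (Matrix.SpecialLinearGroup.transvection hk'k'1 (-(frobQ hK c)))
      (Matrix.SpecialLinearGroup.transvection hk'k'1.symm (-(frobQ hK (-c⁻¹))))
      (Matrix.SpecialLinearGroup.transvection hk'k'1 (-(frobQ hK c)))
      (tv_commute hkk1.symm hk'k'1 hkk' hk1k'1.symm _ _)
      (tv_commute hkk1 hk'k'1 hk1k' hkk'1.symm _ _)
      (tv_commute hkk1 hk'k'1.symm hk1k'1 hkk'.symm _ _)
    have h4 : wElt hkk1 c * wElt hk'k'1 (-(frobQ hK c)) =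
        (Matrix.SpecialLinearGroup.transvection hkk1 c *
          Matrix.SpecialLinearGroup.transvection hk'k'1 (-(frobQ hK c))) *
        (Matrix.SpecialLinearGroup.transvection hkk1.symm (-c⁻¹) *
          Matrix.SpecialLinearGroup.transvection hk'k'1.symm (-(frobQ hK (-c⁻¹)))) *
        (Matrix.SpecialLinearGroup.transvection hkk1 c *
          Matrix.SpecialLinearGroup.transvection hk'k'1 (-(frobQ hK c))) := by
      rw [h3, e]
      rfl
    rw [h4]
    exact mul_mem (mul_mem (Subgroup.subset_closure (hX c)) (Subgroup.subset_closure (hY (-c⁻¹))))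
      (Subgroup.subset_closure (hX c))
  have hcl : diagSL (hEltFun k k1 t) (hEltFun_prod hkk1 ht) *
      diagSL (hEltFun k' k'1 (frobQ hK t)) (hEltFun_prod hk'k'1 ((map_ne_zero _).mpr ht)) ∈
      Subgroup.closure (suGen hK p k k1 k' k'1) := by
    rw [hElt_eq_wElt_one hkk1 ht, hElt_eq_wElt_neg hk'k'1 ((map_ne_zero _).mpr ht)]
    have hc := wElt_commute hkk1 hk'k'1 hkk' hkk'1 hk1k' hk1k'1 (-1 : K) (-(frobQ hK t))
    have e1 : (1 : K) = -(frobQ hK (-1)) := by rw [map_neg, map_one, neg_neg]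
    have h5 : wElt hkk1 t * wElt hkk1 (-1) * (wElt hk'k'1 (-(frobQ hK t)) * wElt hk'k'1 1)
        = (wElt hkk1 t * wElt hk'k'1 (-(frobQ hK t))) *
          (wElt hkk1 (-1) * wElt hk'k'1 (-(frobQ hK (-1)))) := by
      rw [← e1]
      calc wElt hkk1 t * wElt hkk1 (-1) * (wElt hk'k'1 (-(frobQ hK t)) * wElt hk'k'1 1)
          = wElt hkk1 t * (wElt hkk1 (-1) * wElt hk'k'1 (-(frobQ hK t))) * wElt hk'k'1 1 := by group
        _ = wElt hkk1 t * (wElt hk'k'1 (-(frobQ hK t)) * wElt hkk1 (-1)) * wElt hk'k'1 1 := by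
            rw [hc.eq]
        _ = _ := by group
    rw [h5]
    exact mul_mem (hN t) (hN (-1))
  have hdiag : ∀ y ∈ UniS n K, diagSL (hEltFun k k1 t) (hEltFun_prod hkk1 ht) *
      diagSL (hEltFun k' k'1 (frobQ hK t)) (hEltFun_prod hk'k'1 ((map_ne_zero _).mpr ht)) * y *
      (diagSL (hEltFun k k1 t) (hEltFun_prod hkk1 ht) *
      diagSL (hEltFun k' k'1 (frobQ hK t)) (hEltFun_prod hk'k'1 ((map_ne_zero _).mpr ht)))⁻¹ ∈
        UniS n K := by
    intro y hy
    have h6 : ∀ d1 d2 : SLn n K, d1 * d2 * y * (d1 * d2)⁻¹ = d1 * (d2 * y * d2⁻¹) * d1⁻¹ := by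
      intro d1 d2
      group
    rw [h6]
    exact diagSL_conj_mem_UniS _ _ (diagSL_conj_mem_UniS _ _ hy)
  have hcent : ∀ s ∈ suS hK n, (∀ x ∈ suG hK n ⊓ (blkU k k1 ⊓ blkU k' k'1), s * x = x * s) →
      s ∈ blkU (F := K) k k1 ⊓ blkU k' k'1 := by
    intro s hs hcomm
    have hs' := (mem_suS hK s).1 hs
    obtain ⟨ε, hε0, hε⟩ := exists_isSkew hK
    obtain ⟨hrG, -⟩ := su_tv1' hK p hk1k' hk' hε
    have hrU : (Matrix.SpecialLinearGroup.transvection hk1k' ε : SLn n K) ∈ UniS n K :=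
      transvection_mem_UniS hlt ε
    have hrQ : (Matrix.SpecialLinearGroup.transvection hk1k' ε : SLn n K) ∈
        suG hK n ⊓ (blkU k k1 ⊓ blkU k' k'1) := by
      refine Subgroup.mem_inf.mpr ⟨hrG, Subgroup.mem_inf.mpr
        ⟨mem_blkU_pair hk1 hrU ?_, mem_blkU_pair hk'1v hrU ?_⟩⟩
      · rw [Matrix.SpecialLinearGroup.transvection_coe, Matrix.add_apply, Matrix.one_apply_ne hkk1,
          Matrix.single_apply, if_neg (fun h => hkk1 h.1.symm), add_zero]
      · rw [Matrix.SpecialLinearGroup.transvection_coe, Matrix.add_apply, Matrix.one_apply_ne hk'k'1,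
          Matrix.single_apply, if_neg (fun h => hk'k'1 h.2), add_zero]
    have h1 := congrArg Subtype.val (hcomm _ hrQ)
    rw [Matrix.SpecialLinearGroup.coe_mul, Matrix.SpecialLinearGroup.coe_mul,
      Matrix.SpecialLinearGroup.transvection_coe, mul_add, add_mul, mul_one, one_mul,
      add_right_inj] at h1
    have h2 := congrFun (congrFun h1 k) k'
    rw [Matrix.mul_single_apply_same, Matrix.single_mul_apply_of_ne _ _ _ _ _ hkk1] at h2
    have h3 := congrFun (congrFun h1 k1) k'1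
    rw [Matrix.mul_single_apply_of_ne _ _ _ _ _ hk'k'1.symm, Matrix.single_mul_apply_same] at h3
    exact Subgroup.mem_inf.mpr ⟨mem_blkU_pair hk1 hs'.2 ((mul_eq_zero.mp h2).resolve_right hε0),
      mem_blkU_pair hk'1v hs'.2 ((mul_eq_zero.mp h3.symm).resolve_left hε0)⟩
  exact goodIn_of_blocks hK p k k1 k' k'1 _ hdiag hcent hcl

/-- centralizer condition for the middle blocks -/
theorem hcent_mid (p : ℕ) [CharP K p] {a m0 e b : Fin n} (ha : (m0 : ℕ) = (a : ℕ) + 1)
    (he : e = Fin.rev m0) (hb : b = Fin.rev a) (hme : m0 < e) (hsmall : (e : ℕ) ≤ (m0 : ℕ) + 2) :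
    ∀ s ∈ suS hK n, (∀ x ∈ suG hK n ⊓ (blkU m0 e ⊓ blkU m0 e), s * x = x * s) →
      s ∈ blkU (F := K) m0 e ⊓ blkU m0 e := by
  intro s hs hcomm
  have hs' := (mem_suS hK s).1 hs
  have v1 : (e : ℕ) = n - ((m0 : ℕ) + 1) := by rw [he, Fin.val_rev]
  have v2 : (b : ℕ) = n - ((a : ℕ) + 1) := by rw [hb, Fin.val_rev]
  have hen := e.2
  have hme' : (m0 : ℕ) < (e : ℕ) := hme
  have ham : a < m0 := by rw [Fin.lt_def]; omega
  have heb : e < b := by rw [Fin.lt_def]; omega
  obtain ⟨hrG, -⟩ := su_tv2' hK p ham.ne heb.ne (by rw [he, Fin.rev_rev]) hb hme.ne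
    (ham.trans (hme.trans heb)).ne' (1 : K)
  have hrB := tv2_mem_blkU (K := K) ham heb hme.ne 1 (-(frobQ hK 1)) m0 e ham heb
  have hrQ := Subgroup.mem_inf.mpr ⟨hrG, Subgroup.mem_inf.mpr ⟨hrB, hrB⟩⟩
  obtain ⟨h1, h2⟩ := comm_tv2_entries ham.ne heb.ne hme.ne 1 (-(frobQ hK 1)) s (hcomm _ hrQ)
  have hB : s ∈ blkU (F := K) m0 e := by
    refine ⟨hs'.2, fun x y hx1 hx2 hy1 hy2 hxy => ?_⟩
    rcases lt_or_gt_of_ne hxy with h | h
    · by_cases hx : x = m0
      · have h3 := h1 y (by rw [← hx]; exact h.ne') (lt_of_le_of_lt hy2 heb).ne (ham.trans hme).ne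
        rw [one_mul] at h3
        rw [hx]
        exact h3
      · have hy : y = e := by
          apply Fin.ext
          rw [Fin.lt_def] at h
          rw [Fin.le_def] at hx1 hy2
          have : (x : ℕ) ≠ (m0 : ℕ) := fun h' => hx (Fin.ext h')
          omega
        have h3 := h2 x (lt_of_lt_of_le ham hx1).ne' (by rw [← hy]; exact h.ne) (hme.trans heb).ne'
        rw [map_one, mul_neg, mul_one, neg_eq_zero] at h3
        rw [hy]
        exact h3
    · exact hs'.2.1 x y h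
  exact Subgroup.mem_inf.mpr ⟨hB, hB⟩

/-- the middle torus elements for even `n`: `diag(s, 1/s)` with `s^q = s` -/
theorem goodB (p : ℕ) [CharP K p] {a m0 m1 b : Fin n} (ha : (m0 : ℕ) = (a : ℕ) + 1)
    (hm1 : (m1 : ℕ) = (m0 : ℕ) + 1) (he : m1 = Fin.rev m0) (hb : b = Fin.rev a) {s : K} (hs0 : s ≠ 0)
    (hs : frobQ hK s = s) (hm : m0 ≠ m1) :
    GoodIn p (suG hK n) (suS hK n) (diagSL (hEltFun m0 m1 s) (hEltFun_prod hm hs0)) := by
  have hlt : m0 < m1 := by rw [Fin.lt_def]; omega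
  have hX : ∀ c : K, IsSkew hK c → (Matrix.SpecialLinearGroup.transvection hm c : SLn n K) ∈
      suGen hK p m0 m1 m0 m1 := by
    intro c hc
    obtain ⟨h1, h2⟩ := su_tv1' hK p hm he hc
    refine ⟨h1, h2, fun u hu => ?_⟩
    have h3 := tv_conj_blkU m0 m1 hm le_rfl hlt.le hlt.le le_rfl c u (Subgroup.mem_inf.mp hu).1
    exact Subgroup.mem_inf.mpr ⟨h3, h3⟩
  have hY : ∀ c : K, IsSkew hK c → (Matrix.SpecialLinearGroup.transvection hm.symm c : SLn n K) ∈
      suGen hK p m0 m1 m0 m1 := by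
    intro c hc
    obtain ⟨h1, h2⟩ := su_tv1' hK p hm.symm (by rw [he, Fin.rev_rev]) hc
    refine ⟨h1, h2, fun u hu => ?_⟩
    have h3 := tv_conj_blkU m0 m1 hm.symm hlt.le le_rfl le_rfl hlt.le c u (Subgroup.mem_inf.mp hu).1
    exact Subgroup.mem_inf.mpr ⟨h3, h3⟩
  have hW : ∀ c : K, IsSkew hK c → wElt hm c ∈ Subgroup.closure (suGen hK p m0 m1 m0 m1) := by
    intro c hc
    unfold wElt
    exact mul_mem (mul_mem (Subgroup.subset_closure (hX c hc))
      (Subgroup.subset_closure (hY _ ((hc.inv hK).neg hK)))) (Subgroup.subset_closure (hX c hc))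
  obtain ⟨ε, hε0, hε⟩ := exists_isSkew hK
  have e : diagSL (hEltFun m0 m1 s) (hEltFun_prod hm hs0) = wElt hm (s * ε) * wElt hm (-ε) := by
    rw [← hElt_eq_wElt hm (mul_ne_zero hs0 hε0) hε0]
    exact diagSL_congr (by rw [mul_div_assoc, div_self hε0, mul_one]) _ _
  refine goodIn_of_blocks hK p m0 m1 m0 m1 _ (fun y hy => diagSL_conj_mem_UniS _ _ hy)
    (hcent_mid hK p ha he hb hlt (by omega)) ?_
  rw [e]
  exact mul_mem (hW _ (hε.fixed_mul hK hs)) (hW _ (hε.neg hK))

end TypeA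

section TypeC

variable {K : Type u} [Field K] [Fintype K] {q n : ℕ} (hK : Fintype.card K = q ^ 2)

theorem U_mulVec {m0 m1 m2 : Fin n} (h01 : m0 ≠ m1) (h12 : m1 ≠ m2) (h02 : m0 ≠ m2) (μ ν c : K)
    (w : Fin n → K) (r : Fin n) :
    (((Matrix.SpecialLinearGroup.transvection h12 μ * Matrix.SpecialLinearGroup.transvection h01 ν *
      Matrix.SpecialLinearGroup.transvection h02 c : SLn n K) : Mn n K) *ᵥ w) r
      = if r = m0 then w m0 + ν * w m1 + c * w m2 else if r = m1 then w m1 + μ * w m2 else w r := by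
  rw [tv3_coe h12 h01 h02 h02.symm h02.symm h01.symm, Matrix.add_mulVec, Matrix.add_mulVec,
    Matrix.add_mulVec, Matrix.one_mulVec, Pi.add_apply, Pi.add_apply, Pi.add_apply,
    single_mulVec_apply', single_mulVec_apply', single_mulVec_apply']
  by_cases hr : r = m0
  · subst hr
    simp only [if_true, if_neg h01]
    ring
  · by_cases hr1 : r = m1
    · subst hr1
      simp only [if_true, if_neg hr, add_zero]
    · simp only [if_neg hr, if_neg hr1, add_zero]

theorem L_mulVec {m0 m1 m2 : Fin n} (h01 : m0 ≠ m1) (h12 : m1 ≠ m2) (h02 : m0 ≠ m2) (μ ν c : K)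
    (w : Fin n → K) (r : Fin n) :
    (((Matrix.SpecialLinearGroup.transvection h01.symm μ * Matrix.SpecialLinearGroup.transvection h12.symm ν *
      Matrix.SpecialLinearGroup.transvection h02.symm c : SLn n K) : Mn n K) *ᵥ w) r
      = if r = m1 then w m1 + μ * w m0 else if r = m2 then w m2 + ν * w m1 + c * w m0 else w r := by
  rw [tv3_coe h01.symm h12.symm h02.symm h02 h02 h12, Matrix.add_mulVec, Matrix.add_mulVec,
    Matrix.add_mulVec, Matrix.one_mulVec, Pi.add_apply, Pi.add_apply, Pi.add_apply,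
    single_mulVec_apply', single_mulVec_apply', single_mulVec_apply']
  by_cases hr : r = m1
  · subst hr
    simp only [if_true, if_neg h12, add_zero]
  · by_cases hr2 : r = m2
    · subst hr2
      simp only [if_true, if_neg hr]
      ring
    · simp only [if_neg hr, if_neg hr2, add_zero]

/-- the `SU_3` Weyl element `L U L` acts antidiagonally -/
theorem N_mulVec {m0 m1 m2 : Fin n} (h01 : m0 ≠ m1) (h12 : m1 ≠ m2) (h02 : m0 ≠ m2) {μ m' c d : K}
    (hc0 : c ≠ 0) (hd0 : d ≠ 0) (hc : c + d + μ * m' = 0) (w : Fin n → K) (r : Fin n) :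
    (((Matrix.SpecialLinearGroup.transvection h01.symm (-μ / c) *
          Matrix.SpecialLinearGroup.transvection h12.symm (m' / d) *
          Matrix.SpecialLinearGroup.transvection h02.symm d⁻¹ *
        (Matrix.SpecialLinearGroup.transvection h12 μ * Matrix.SpecialLinearGroup.transvection h01 (-m') *
          Matrix.SpecialLinearGroup.transvection h02 c) *
        (Matrix.SpecialLinearGroup.transvection h01.symm (-μ / d) *
          Matrix.SpecialLinearGroup.transvection h12.symm (m' / c) *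
          Matrix.SpecialLinearGroup.transvection h02.symm d⁻¹) : SLn n K) : Mn n K) *ᵥ w) r
      = if r = m0 then c * w m2 else if r = m1 then -(d / c) * w m1 else if r = m2 then d⁻¹ * w m0
        else w r := by
  have hd : d = -(c + μ * m') := by linear_combination hc
  subst hd
  have hd1 : c + μ * m' ≠ 0 := fun h => hd0 (by rw [h, neg_zero])
  have hd2 : c + m' * μ ≠ 0 := by rw [mul_comm]; exact hd1
  have hd3 : m' * μ + c ≠ 0 := by rw [add_comm]; exact hd2
  have hd4 : μ * m' + c ≠ 0 := by rw [add_comm]; exact hd1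
  rw [Matrix.SpecialLinearGroup.coe_mul, Matrix.SpecialLinearGroup.coe_mul, ← Matrix.mulVec_mulVec,
    ← Matrix.mulVec_mulVec]
  simp only [L_mulVec h01 h12 h02, U_mulVec h01 h12 h02]
  by_cases hr0 : r = m0
  · subst hr0
    simp only [if_true, if_neg h01, if_neg h02, if_neg h01.symm, if_neg h02.symm, if_neg h12,
      if_neg h12.symm]
    field_simp
    ring
  · by_cases hr1 : r = m1
    · subst hr1
      simp only [if_true, if_neg h01, if_neg h02, if_neg h01.symm, if_neg h02.symm, if_neg h12,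
        if_neg h12.symm]
      field_simp
      ring
    · by_cases hr2 : r = m2
      · subst hr2
        simp only [if_true, if_neg h01, if_neg h02, if_neg h01.symm, if_neg h02.symm, if_neg h12,
          if_neg h12.symm]
        field_simp
        ring
      · simp only [if_neg hr0, if_neg hr1, if_neg hr2]

omit [Fintype K] in
theorem su3_aux1 {c d μ m' : K} (hc0 : c ≠ 0) (hd0 : d ≠ 0) (hc : c + d + μ * m' = 0) :
    d⁻¹ + c⁻¹ + (-μ / c) * (-m' / d) = 0 := by
  field_simp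
  linear_combination hc

omit [Fintype K] in
theorem su3_aux2 {c d μ m' : K} (hc0 : c ≠ 0) (hd0 : d ≠ 0) (hc : c + d + μ * m' = 0) :
    d⁻¹ + c⁻¹ + (-μ / d) * (-m' / c) = 0 := by
  field_simp
  linear_combination hc

/-- the middle torus elements for odd `n`: `diag(t, t^q/t, t^(-q))` -/
theorem goodC (p : ℕ) [CharP K p] {a m0 m1 m2 b : Fin n} (ha : (m0 : ℕ) = (a : ℕ) + 1)
    (hm1 : (m1 : ℕ) = (m0 : ℕ) + 1) (hm2 : (m2 : ℕ) = (m1 : ℕ) + 1) (he : m2 = Fin.rev m0)
    (hb : b = Fin.rev a) {t : K} (ht : t ≠ 0) (h01 : m0 ≠ m1) (h12 : m1 ≠ m2) :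
    GoodIn p (suG hK n) (suS hK n)
      (diagSL (hEltFun m0 m1 t) (hEltFun_prod h01 ht) *
        diagSL (hEltFun m1 m2 (frobQ hK t)) (hEltFun_prod h12 ((map_ne_zero _).mpr ht))) := by
  have hlt01 : m0 < m1 := by rw [Fin.lt_def]; omega
  have hlt12 : m1 < m2 := by rw [Fin.lt_def]; omega
  have hlt02 : m0 < m2 := hlt01.trans hlt12
  have h02 : m0 ≠ m2 := hlt02.ne
  have v : (m2 : ℕ) = n - ((m0 : ℕ) + 1) := by rw [he, Fin.val_rev]
  have hm2n := m2.2
  have hrev1 : Fin.rev m1 = m1 := by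
    apply Fin.ext
    rw [Fin.val_rev]
    omega
  have hrev0 : m0 = Fin.rev m2 := by rw [he, Fin.rev_rev]
  have hNb : ∀ {x y : Fin n} (hxy : x ≠ y), m0 ≤ x → x ≤ m2 → m0 ≤ y → y ≤ m2 → ∀ c : K,
      ∀ u ∈ blkU (F := K) m0 m2 ⊓ blkU m0 m2, Matrix.SpecialLinearGroup.transvection hxy c * u *
        (Matrix.SpecialLinearGroup.transvection hxy c)⁻¹ ∈ blkU (F := K) m0 m2 ⊓ blkU m0 m2 := by
    intro x y hxy hx1 hx2 hy1 hy2 c u hu
    have h3 := tv_conj_blkU m0 m2 hxy hx1 hx2 hy1 hy2 c u (Subgroup.mem_inf.mp hu).1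
    exact Subgroup.mem_inf.mpr ⟨h3, h3⟩
  have hU : ∀ μ ν c : K, ν = -(frobQ hK μ) → c + frobQ hK c + μ * frobQ hK μ = 0 →
      (Matrix.SpecialLinearGroup.transvection h12 μ * Matrix.SpecialLinearGroup.transvection h01 ν *
        Matrix.SpecialLinearGroup.transvection h02 c : SLn n K) ∈ suGen hK p m0 m2 m0 m2 := by
    intro μ ν c hν hc
    subst hν
    obtain ⟨h1, h2⟩ := su_tv3' hK p hrev1 he h02.symm h01 h12 hc
    exact ⟨h1, h2, conj_mul_mem (conj_mul_mem (hNb h12 hlt01.le hlt12.le hlt02.le le_rfl μ)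
      (hNb h01 le_rfl hlt02.le hlt01.le hlt12.le _)) (hNb h02 le_rfl hlt02.le hlt02.le le_rfl c)⟩
  have hL : ∀ μ ν c : K, ν = -(frobQ hK μ) → c + frobQ hK c + μ * frobQ hK μ = 0 →
      (Matrix.SpecialLinearGroup.transvection h01.symm μ * Matrix.SpecialLinearGroup.transvection h12.symm ν *
        Matrix.SpecialLinearGroup.transvection h02.symm c : SLn n K) ∈ suGen hK p m0 m2 m0 m2 := by
    intro μ ν c hν hc
    subst hν
    obtain ⟨h1, h2⟩ := su_tv3' hK p hrev1 hrev0 h02 h12.symm h01.symm hc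
    exact ⟨h1, h2, conj_mul_mem (conj_mul_mem (hNb h01.symm hlt01.le hlt12.le le_rfl hlt02.le μ)
      (hNb h12.symm hlt02.le le_rfl hlt01.le hlt12.le _)) (hNb h02.symm hlt02.le le_rfl le_rfl hlt02.le c)⟩
  have hNmem : ∀ (c d μ m' : K), d = frobQ hK c → m' = frobQ hK μ → c ≠ 0 → c + d + μ * m' = 0 →
      (Matrix.SpecialLinearGroup.transvection h01.symm (-μ / c) *
          Matrix.SpecialLinearGroup.transvection h12.symm (m' / d) *
          Matrix.SpecialLinearGroup.transvection h02.symm d⁻¹ *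
        (Matrix.SpecialLinearGroup.transvection h12 μ * Matrix.SpecialLinearGroup.transvection h01 (-m') *
          Matrix.SpecialLinearGroup.transvection h02 c) *
        (Matrix.SpecialLinearGroup.transvection h01.symm (-μ / d) *
          Matrix.SpecialLinearGroup.transvection h12.symm (m' / c) *
          Matrix.SpecialLinearGroup.transvection h02.symm d⁻¹) : SLn n K) ∈
        Subgroup.closure (suGen hK p m0 m2 m0 m2) := by
    intro c d μ m' hd hm' hc0 hc
    subst hd hm'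
    have hd0 : frobQ hK c ≠ 0 := (map_ne_zero _).mpr hc0
    refine mul_mem (mul_mem (Subgroup.subset_closure (hL _ _ _ ?_ ?_))
      (Subgroup.subset_closure (hU _ _ _ rfl hc))) (Subgroup.subset_closure (hL _ _ _ ?_ ?_))
    · rw [map_div₀, map_neg, neg_div, neg_neg]
    · rw [map_inv₀, frobQ_frobQ, map_div₀, map_neg]
      exact su3_aux1 hc0 hd0 hc
    · rw [map_div₀, map_neg, frobQ_frobQ, neg_div, neg_neg]
    · rw [map_inv₀, frobQ_frobQ, map_div₀, map_neg, frobQ_frobQ]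
      exact su3_aux2 hc0 hd0 hc
  have hσt : frobQ hK t ≠ 0 := (map_ne_zero _).mpr ht
  obtain ⟨μt, hμt⟩ := exists_norm_eq' hK (-(t + frobQ hK t))
    (by rw [map_neg, map_add, frobQ_frobQ, add_comm])
  obtain ⟨μ1, hμ1⟩ := exists_norm_eq' hK (-(1 + 1)) (by rw [map_neg, map_add, map_one])
  have hct : t + frobQ hK t + μt * frobQ hK μt = 0 := by linear_combination hμt
  have hc1 : (1 : K) + 1 + μ1 * frobQ hK μ1 = 0 := by linear_combination hμ1
  obtain ⟨Nt, hNt⟩ : ∃ Nt : SLn n K, Nt = Matrix.SpecialLinearGroup.transvection h01.symm (-μt / t) *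
          Matrix.SpecialLinearGroup.transvection h12.symm (frobQ hK μt / frobQ hK t) *
          Matrix.SpecialLinearGroup.transvection h02.symm (frobQ hK t)⁻¹ *
        (Matrix.SpecialLinearGroup.transvection h12 μt *
          Matrix.SpecialLinearGroup.transvection h01 (-(frobQ hK μt)) *
          Matrix.SpecialLinearGroup.transvection h02 t) *
        (Matrix.SpecialLinearGroup.transvection h01.symm (-μt / frobQ hK t) *
          Matrix.SpecialLinearGroup.transvection h12.symm (frobQ hK μt / t) *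
          Matrix.SpecialLinearGroup.transvection h02.symm (frobQ hK t)⁻¹) := ⟨_, rfl⟩
  obtain ⟨N1, hN1⟩ : ∃ N1 : SLn n K, N1 = Matrix.SpecialLinearGroup.transvection h01.symm (-μ1 / 1) *
          Matrix.SpecialLinearGroup.transvection h12.symm (frobQ hK μ1 / 1) *
          Matrix.SpecialLinearGroup.transvection h02.symm (1 : K)⁻¹ *
        (Matrix.SpecialLinearGroup.transvection h12 μ1 *
          Matrix.SpecialLinearGroup.transvection h01 (-(frobQ hK μ1)) *
          Matrix.SpecialLinearGroup.transvection h02 1) *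
        (Matrix.SpecialLinearGroup.transvection h01.symm (-μ1 / 1) *
          Matrix.SpecialLinearGroup.transvection h12.symm (frobQ hK μ1 / 1) *
          Matrix.SpecialLinearGroup.transvection h02.symm (1 : K)⁻¹) := ⟨_, rfl⟩
  have hNtm : Nt ∈ Subgroup.closure (suGen hK p m0 m2 m0 m2) := by
    rw [hNt]
    exact hNmem t (frobQ hK t) μt (frobQ hK μt) rfl rfl ht hct
  have hN1m : N1 ∈ Subgroup.closure (suGen hK p m0 m2 m0 m2) := by
    rw [hN1]
    exact hNmem 1 1 μ1 (frobQ hK μ1) (map_one _).symm rfl one_ne_zero hc1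
  have hNtv : ∀ (w : Fin n → K) (r : Fin n), ((Nt : Mn n K) *ᵥ w) r
      = if r = m0 then t * w m2 else if r = m1 then -(frobQ hK t / t) * w m1
        else if r = m2 then (frobQ hK t)⁻¹ * w m0 else w r := by
    intro w r
    rw [hNt]
    exact N_mulVec h01 h12 h02 ht hσt hct w r
  have hN1v : ∀ (w : Fin n → K) (r : Fin n), ((N1 : Mn n K) *ᵥ w) r
      = if r = m0 then 1 * w m2 else if r = m1 then -((1 : K) / 1) * w m1
        else if r = m2 then (1 : K)⁻¹ * w m0 else w r := by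
    intro w r
    rw [hN1]
    exact N_mulVec h01 h12 h02 one_ne_zero one_ne_zero hc1 w r
  have key : diagSL (hEltFun m0 m1 t) (hEltFun_prod h01 ht) *
      diagSL (hEltFun m1 m2 (frobQ hK t)) (hEltFun_prod h12 hσt) * N1 = Nt := by
    apply Subtype.ext
    rw [Matrix.ext_iff_mulVec]
    intro w
    ext r
    rw [hNtv, Matrix.SpecialLinearGroup.coe_mul, Matrix.SpecialLinearGroup.coe_mul,
      ← Matrix.mulVec_mulVec, ← Matrix.mulVec_mulVec, diagSL_coe, diagSL_coe, Matrix.mulVec_diagonal,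
      Matrix.mulVec_diagonal, hN1v]
    unfold hEltFun
    by_cases hr0 : r = m0
    · subst hr0
      simp only [if_true, if_neg h01, if_neg h02]
      ring
    · by_cases hr1 : r = m1
      · subst hr1
        simp only [if_true, if_neg hr0, if_neg h12]
        field_simp
      · by_cases hr2 : r = m2
        · subst hr2
          simp only [if_true, if_neg hr0, if_neg hr1]
          field_simp
        · simp only [if_neg hr0, if_neg hr1, if_neg hr2]
          ring
  have hcl : diagSL (hEltFun m0 m1 t) (hEltFun_prod h01 ht) *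
      diagSL (hEltFun m1 m2 (frobQ hK t)) (hEltFun_prod h12 hσt) ∈
      Subgroup.closure (suGen hK p m0 m2 m0 m2) := by
    rw [eq_mul_inv_of_mul_eq key]
    exact mul_mem hNtm (inv_mem hN1m)
  have hdiag : ∀ y ∈ UniS n K, diagSL (hEltFun m0 m1 t) (hEltFun_prod h01 ht) *
      diagSL (hEltFun m1 m2 (frobQ hK t)) (hEltFun_prod h12 hσt) * y *
      (diagSL (hEltFun m0 m1 t) (hEltFun_prod h01 ht) *
      diagSL (hEltFun m1 m2 (frobQ hK t)) (hEltFun_prod h12 hσt))⁻¹ ∈ UniS n K := by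
    intro y hy
    have h6 : ∀ d1 d2 : SLn n K, d1 * d2 * y * (d1 * d2)⁻¹ = d1 * (d2 * y * d2⁻¹) * d1⁻¹ := by
      intro d1 d2
      group
    rw [h6]
    exact diagSL_conj_mem_UniS _ _ (diagSL_conj_mem_UniS _ _ hy)
  exact goodIn_of_blocks hK p m0 m2 m0 m2 _ hdiag (hcent_mid hK p ha he hb hlt02 (by omega)) hcl

end TypeC

end Cfsg.Agent.Helper88
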