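import Cfsg.Agent.Helper88.SuTorusC

set_option autoImplicit false
set_option linter.unusedSectionVars false

/-!
# Every upper triangular element of `suG` is a product of elements of `suS` and good elements (helper88)

Part (B) of the simplicity proof for the fusion system of `PSU_n(q)`, `n ≥ 4`, in helper99's framework
(`Helper99/SuBasic`): main results `su_upper_mem_closure` / `su_diag_mem_closure` (for the group `↥(suG hK n)`)
and their relative versions `su_upper_mem` / `su_diag_mem` (inside `SL_n`).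
-/

namespace Cfsg.Agent.Helper88

open Cfsg Matrix Cfsg.Agent.Helper44.PSLn Cfsg.Agent.Helper99
open Cfsg.Agent.Helper5 (frobQ frobQ_apply frobQ_frobQ)

universe u

theorem goodIn_mem {Ω : Type*} [Group Ω] {p : ℕ} {G S : Subgroup Ω} {h : Ω} (hh : GoodIn p G S h) :
    h ∈ G := by
  obtain ⟨-, Q, -, -, -, hcl⟩ := hh
  exact (Subgroup.closure_le _).2 (fun x hx => hx.1) hcl

section SuFinal

variable {K : Type u} [Field K] [Fintype K] {q n : ℕ} (hK : Fintype.card K = q ^ 2)

theorem diag_unitary {d : Fin n → K} {hd : ∏ i, d i = 1} (h : diagSL d hd ∈ suG hK n) (i : Fin n) :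
    d i * frobQ hK (d (Fin.rev i)) = 1 := by
  have h1 := (mem_suG hK _).1 h (Pi.single i 1) (Pi.single (Fin.rev i) 1)
  rw [diagSL_coe, Matrix.diagonal_mulVec_single, Matrix.diagonal_mulVec_single, mul_one, mul_one,
    suH_single_left, Pi.single_eq_same, suH_single_left, Pi.single_eq_same, map_one, mul_one] at h1
  exact h1

theorem diag_mem_suG (d : Fin n → K) (hd : ∏ i, d i = 1)
    (h : ∀ i, d i * frobQ hK (d (Fin.rev i)) = 1) : diagSL d hd ∈ suG hK n := by
  rw [mem_suG]
  intro u v
  rw [diagSL_coe]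
  unfold suH
  apply Finset.sum_congr rfl
  intro i _
  rw [Matrix.mulVec_diagonal, Matrix.mulVec_diagonal, map_mul]
  linear_combination (u i * frobQ hK (v (Fin.rev i))) * h i

theorem hEltFun_ne_zero (k k' : Fin n) {t : K} (ht : t ≠ 0) (i : Fin n) : hEltFun k k' t i ≠ 0 := by
  unfold hEltFun
  split_ifs
  · exact ht
  · exact inv_ne_zero ht
  · exact one_ne_zero

theorem hEltFun_of_ne {k k' : Fin n} (t : K) {i : Fin n} (h1 : i ≠ k) (h2 : i ≠ k') :
    hEltFun k k' t i = 1 := by
  unfold hEltFun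
  rw [if_neg h1, if_neg h2]

theorem hEltFun_left (k k' : Fin n) (t : K) : hEltFun k k' t k = t := by
  unfold hEltFun
  rw [if_pos rfl]

theorem hEltFun_right {k k' : Fin n} (h : k ≠ k') (t : K) : hEltFun k k' t k' = t⁻¹ := by
  unfold hEltFun
  rw [if_neg h.symm, if_pos rfl]

/-- the subgroup generated by `suS` and the (relatively) good elements -/
abbrev suCl (p : ℕ) (n : ℕ) : Subgroup (SLn n K) :=
  Subgroup.closure (((suS hK n : Subgroup (SLn n K)) : Set (SLn n K)) ∪
    {h | GoodIn p (suG hK n) (suS hK n) h})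

theorem su_diag_aux (p : ℕ) [CharP K p] (hn : 4 ≤ n) :
    ∀ (m : ℕ) (d : Fin n → K) (hd : ∏ i, d i = 1), diagSL d hd ∈ suG hK n →
      (∀ i : Fin n, (i : ℕ) + m < (n - 2) / 2 → d i = 1) → diagSL d hd ∈ suCl hK p n := by
  intro m
  induction m with
  | zero =>
    intro d hd hG h1
    obtain ⟨M, hM⟩ : ∃ M : ℕ, M = (n - 2) / 2 := ⟨_, rfl⟩
    rw [← hM] at h1
    have hM1 : 1 ≤ M := by omega
    obtain ⟨m0, hm0⟩ : ∃ m0 : Fin n, m0 = ⟨M, by omega⟩ := ⟨_, rfl⟩
    obtain ⟨a, ha⟩ : ∃ a : Fin n, a = ⟨M - 1, by omega⟩ := ⟨_, rfl⟩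
    have hm0v : (m0 : ℕ) = M := by rw [hm0]
    have hav : (a : ℕ) = M - 1 := by rw [ha]
    have hlow : ∀ i : Fin n, i < m0 → d i = 1 := fun i hi => h1 i (by
      rw [Fin.lt_def, hm0v] at hi
      omega)
    have huni := diag_unitary hK hG
    have hhigh : ∀ i : Fin n, Fin.rev m0 < i → d i = 1 := by
      intro i hi
      have h2 : Fin.rev i < m0 := by
        rw [Fin.lt_def, Fin.val_rev] at hi ⊢
        have := i.2
        omega
      have h3 := huni (Fin.rev i)
      rw [hlow _ h2, Fin.rev_rev, one_mul] at h3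
      have h4 : frobQ hK (d i) = frobQ hK 1 := by rw [h3, map_one]
      exact (frobQ hK).injective h4
    have hs0 : d m0 ≠ 0 := diagSL_ne_zero d hd m0
    by_cases hpar : n % 2 = 0
    · obtain ⟨m1, hm1⟩ : ∃ m1 : Fin n, m1 = ⟨M + 1, by omega⟩ := ⟨_, rfl⟩
      have hm1v : (m1 : ℕ) = M + 1 := by rw [hm1]
      have he : m1 = Fin.rev m0 := by
        apply Fin.ext
        rw [Fin.val_rev, hm1v, hm0v]
        omega
      have hm : m0 ≠ m1 := fun h => by
        rw [h] at hm0v
        omega
      have hrest : ∀ c : Fin n, c ≠ m0 → c ≠ m1 → d c = 1 := by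
        intro c hc0 hc1
        rcases lt_or_gt_of_ne hc0 with h | h
        · exact hlow c h
        · apply hhigh c
          rw [← he]
          rw [Fin.lt_def] at h ⊢
          have : (c : ℕ) ≠ (m1 : ℕ) := fun h' => hc1 (Fin.ext h')
          omega
      have hprod : d m0 * d m1 = 1 := by
        rw [← hd]
        symm
        apply Finset.prod_eq_mul m0 m1 hm
        · intro c _ hc
          exact hrest c hc.1 hc.2
        · intro h
          exact absurd (Finset.mem_univ _) h
        · intro h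
          exact absurd (Finset.mem_univ _) h
      have hd1 : d m1 = (d m0)⁻¹ := eq_inv_of_mul_eq_one_right hprod
      have hs : frobQ hK (d m0) = d m0 := by
        have h3 := huni m0
        rw [← he, hd1, map_inv₀] at h3
        have h4 : frobQ hK (d m0) ≠ 0 := (map_ne_zero _).mpr hs0
        exact ((mul_inv_eq_one₀ h4).mp h3).symm
      have e : diagSL d hd = diagSL (hEltFun m0 m1 (d m0)) (hEltFun_prod hm hs0) := by
        apply diagSL_congr
        funext i
        by_cases hi0 : i = m0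
        · rw [hi0, hEltFun_left]
        · by_cases hi1 : i = m1
          · rw [hi1, hEltFun_right hm, hd1]
          · rw [hEltFun_of_ne _ hi0 hi1]
            exact hrest i hi0 hi1
      rw [e]
      exact Subgroup.subset_closure (Or.inr (goodB hK p (a := a) (b := Fin.rev a)
        (by rw [hm0v, hav]; omega) (by rw [hm1v, hm0v]) he rfl hs0 hs hm))
    · obtain ⟨m1, hm1⟩ : ∃ m1 : Fin n, m1 = ⟨M + 1, by omega⟩ := ⟨_, rfl⟩
      obtain ⟨m2, hm2⟩ : ∃ m2 : Fin n, m2 = ⟨M + 2, by omega⟩ := ⟨_, rfl⟩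
      have hm1v : (m1 : ℕ) = M + 1 := by rw [hm1]
      have hm2v : (m2 : ℕ) = M + 2 := by rw [hm2]
      have he : m2 = Fin.rev m0 := by
        apply Fin.ext
        rw [Fin.val_rev, hm2v, hm0v]
        omega
      have h01 : m0 ≠ m1 := fun h => by
        rw [h] at hm0v
        omega
      have h12 : m1 ≠ m2 := fun h => by
        rw [h] at hm1v
        omega
      have h02 : m0 ≠ m2 := fun h => by
        rw [h] at hm0v
        omega
      have hrest : ∀ c : Fin n, c ≠ m0 → c ≠ m1 → c ≠ m2 → d c = 1 := by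
        intro c hc0 hc1 hc2
        rcases lt_or_gt_of_ne hc0 with h | h
        · exact hlow c h
        · apply hhigh c
          rw [← he]
          rw [Fin.lt_def] at h ⊢
          have : (c : ℕ) ≠ (m1 : ℕ) := fun h' => hc1 (Fin.ext h')
          have : (c : ℕ) ≠ (m2 : ℕ) := fun h' => hc2 (Fin.ext h')
          omega
      have hσt : frobQ hK (d m0) ≠ 0 := (map_ne_zero _).mpr hs0
      have h5 : d m2 = (frobQ hK (d m0))⁻¹ := by
        have h3 := huni m0
        rw [← he] at h3
        have h4 : frobQ hK (d m2) = (d m0)⁻¹ := eq_inv_of_mul_eq_one_right h3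
        have h6 := congrArg (frobQ hK) h4
        rw [frobQ_frobQ, map_inv₀] at h6
        exact h6
      have hp : d m0 * (d m1 * d m2) = 1 := by
        rw [← hd, ← Finset.mul_prod_erase Finset.univ d (Finset.mem_univ m0)]
        congr 1
        symm
        apply Finset.prod_eq_mul m1 m2 h12
        · intro c hc hc2
          exact hrest c (Finset.mem_erase.mp hc).1 hc2.1 hc2.2
        · intro h
          exact absurd (Finset.mem_erase.mpr ⟨h01.symm, Finset.mem_univ _⟩) h
        · intro h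
          exact absurd (Finset.mem_erase.mpr ⟨h02.symm, Finset.mem_univ _⟩) h
      have h6 : d m1 = (d m0)⁻¹ * frobQ hK (d m0) := by
        rw [h5] at hp
        have h7 : d m1 * (d m0 * (frobQ hK (d m0))⁻¹) = 1 := by
          rw [← hp]
          ring
        rw [eq_inv_of_mul_eq_one_left h7, mul_inv, inv_inv]
      have e : diagSL d hd = diagSL (hEltFun m0 m1 (d m0)) (hEltFun_prod h01 hs0) *
          diagSL (hEltFun m1 m2 (frobQ hK (d m0))) (hEltFun_prod h12 hσt) := by
        apply Subtype.ext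
        rw [Matrix.SpecialLinearGroup.coe_mul, diagSL_coe, diagSL_coe, diagSL_coe,
          Matrix.diagonal_mul_diagonal]
        congr 1
        funext i
        by_cases hi0 : i = m0
        · rw [hi0, hEltFun_left, hEltFun_of_ne _ h01 h02, mul_one]
        · by_cases hi1 : i = m1
          · rw [hi1, hEltFun_right h01, hEltFun_left, h6]
          · by_cases hi2 : i = m2
            · rw [hi2, hEltFun_of_ne _ h02.symm h12.symm, hEltFun_right h12, one_mul, h5]
            · rw [hEltFun_of_ne _ hi0 hi1, hEltFun_of_ne _ hi1 hi2, mul_one]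
              exact hrest i hi0 hi1 hi2
      rw [e]
      exact Subgroup.subset_closure (Or.inr (goodC hK p (a := a) (b := Fin.rev a)
        (by rw [hm0v, hav]; omega) (by rw [hm1v, hm0v]) (by rw [hm2v, hm1v]) he rfl hs0 h01 h12))
  | succ m ih =>
    intro d hd hG h1
    by_cases hm : (n - 2) / 2 ≤ m
    · exact ih d hd hG (fun i hi => by omega)
    · push Not at hm
      obtain ⟨M, hM⟩ : ∃ M : ℕ, M = (n - 2) / 2 := ⟨_, rfl⟩
      rw [← hM] at h1 hm
      obtain ⟨k, hk⟩ : ∃ k : Fin n, k = ⟨M - m - 1, by omega⟩ := ⟨_, rfl⟩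
      obtain ⟨k1, hk1⟩ : ∃ k1 : Fin n, k1 = ⟨M - m, by omega⟩ := ⟨_, rfl⟩
      have hkv : (k : ℕ) = M - m - 1 := by rw [hk]
      have hk1v : (k1 : ℕ) = M - m := by rw [hk1]
      have hk1' : (k1 : ℕ) = (k : ℕ) + 1 := by omega
      obtain ⟨k', hk'⟩ : ∃ k' : Fin n, k' = Fin.rev k1 := ⟨_, rfl⟩
      obtain ⟨k'1, hk'1⟩ : ∃ k'1 : Fin n, k'1 = Fin.rev k := ⟨_, rfl⟩
      have v1 : (k' : ℕ) = n - ((k1 : ℕ) + 1) := by rw [hk', Fin.val_rev]
      have v2 : (k'1 : ℕ) = n - ((k : ℕ) + 1) := by rw [hk'1, Fin.val_rev]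
      have hlt : k1 < k' := by
        rw [Fin.lt_def]
        omega
      have hkk1 : k ≠ k1 := fun h => by
        rw [h] at hk1'
        omega
      have hk'k'1 : k' ≠ k'1 := fun h => by
        have := congrArg Fin.val h
        omega
      have ht : d k ≠ 0 := diagSL_ne_zero d hd k
      have hσt : frobQ hK (d k) ≠ 0 := (map_ne_zero _).mpr ht
      obtain ⟨f, hf⟩ : ∃ f : Fin n → K,
          f = fun i => hEltFun k k1 (d k) i * hEltFun k' k'1 (frobQ hK (d k)) i := ⟨_, rfl⟩
      have hfi : ∀ i, f i = hEltFun k k1 (d k) i * hEltFun k' k'1 (frobQ hK (d k)) i := fun i => by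
        rw [hf]
      have hf0 : ∀ i, f i ≠ 0 := fun i => by
        rw [hfi]
        exact mul_ne_zero (hEltFun_ne_zero _ _ ht i) (hEltFun_ne_zero _ _ hσt i)
      have hfprod : ∏ i, f i = 1 := by
        rw [hf, Finset.prod_mul_distrib, hEltFun_prod hkk1 ht, hEltFun_prod hk'k'1 hσt, one_mul]
      obtain ⟨d', hd'⟩ : ∃ d' : Fin n → K, d' = fun i => (f i)⁻¹ * d i := ⟨_, rfl⟩
      have hd'i : ∀ i, d' i = (f i)⁻¹ * d i := fun i => by rw [hd']
      have hprod' : ∏ i, d' i = 1 := by
        rw [hd', Finset.prod_mul_distrib, Finset.prod_inv_distrib, hfprod, hd, inv_one, one_mul]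
      have hA := goodA hK p hk1' hk' hk'1 hlt ht hkk1 hk'k'1
      have hsplit : diagSL d hd = diagSL (hEltFun k k1 (d k)) (hEltFun_prod hkk1 ht) *
          diagSL (hEltFun k' k'1 (frobQ hK (d k))) (hEltFun_prod hk'k'1 hσt) * diagSL d' hprod' := by
        apply Subtype.ext
        rw [Matrix.SpecialLinearGroup.coe_mul, Matrix.SpecialLinearGroup.coe_mul, diagSL_coe, diagSL_coe,
          diagSL_coe, diagSL_coe, Matrix.diagonal_mul_diagonal, Matrix.diagonal_mul_diagonal]
        congr 1
        funext i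
        rw [hd'i, ← hfi, ← mul_assoc, mul_inv_cancel₀ (hf0 i), one_mul]
      have hG' : diagSL d' hprod' ∈ suG hK n := by
        have h2 : diagSL d' hprod' = (diagSL (hEltFun k k1 (d k)) (hEltFun_prod hkk1 ht) *
            diagSL (hEltFun k' k'1 (frobQ hK (d k))) (hEltFun_prod hk'k'1 hσt))⁻¹ * diagSL d hd := by
          rw [hsplit]
          group
        rw [h2]
        exact mul_mem (inv_mem (goodIn_mem hA)) hG
      rw [hsplit]
      refine mul_mem (Subgroup.subset_closure (Or.inr hA)) (ih d' hprod' hG' ?_)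
      intro i hi
      have hik : (i : ℕ) ≤ (k : ℕ) := by omega
      have hi1 : i ≠ k1 := fun h => by
        rw [h] at hik
        omega
      have hi2 : i ≠ k' := fun h => by
        rw [h] at hik
        omega
      have hi3 : i ≠ k'1 := fun h => by
        rw [h] at hik
        omega
      rw [hd'i, hfi, hEltFun_of_ne _ hi2 hi3, mul_one]
      by_cases hik' : i = k
      · rw [hik', hEltFun_left, inv_mul_cancel₀ ht]
      · rw [hEltFun_of_ne _ hik' hi1, inv_one, one_mul]
        apply h1
        have : (i : ℕ) ≠ (k : ℕ) := fun h => hik' (Fin.ext h)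
        omega

/-- every diagonal element of `suG` lies in the subgroup generated by `suS` and the good elements -/
theorem su_diag_mem (p : ℕ) [CharP K p] (hn : 4 ≤ n) (d : Fin n → K) (hd : ∏ i, d i = 1)
    (h : diagSL d hd ∈ suG hK n) : diagSL d hd ∈ suCl hK p n :=
  su_diag_aux hK p hn ((n - 2) / 2) d hd h (fun i hi => by omega)

/-- diagonal entries of an upper triangular element of `suG` -/
theorem upper_diag_unitary {g : SLn n K} (hg : g ∈ suG hK n)
    (hup : ∀ i j : Fin n, j < i → (g : Mn n K) i j = 0) (i : Fin n) :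
    (g : Mn n K) i i * frobQ hK ((g : Mn n K) (Fin.rev i) (Fin.rev i)) = 1 := by
  have h1 := (mem_suG hK g).1 hg (Pi.single i 1) (Pi.single (Fin.rev i) 1)
  rw [suH_single_left, Pi.single_eq_same, map_one, mul_one] at h1
  refine Eq.trans ?_ h1
  unfold suH
  rw [Finset.sum_eq_single i]
  · rw [su_col, su_col]
  · intro a _ hai
    rw [su_col, su_col]
    rcases lt_or_gt_of_ne hai with h | h
    · have h2 : Fin.rev i < Fin.rev a := Fin.rev_lt_rev.mpr h
      rw [hup _ _ h2, map_zero, mul_zero]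
    · rw [hup _ _ h, zero_mul]
  · intro h
    exact absurd (Finset.mem_univ _) h

/-- every upper triangular element of `suG` lies in the subgroup generated by `suS` and the good elements -/
theorem su_upper_mem (p : ℕ) [CharP K p] (hn : 4 ≤ n) (g : SLn n K) (hg : g ∈ suG hK n)
    (hup : ∀ i j : Fin n, j < i → (g : Mn n K) i j = 0) : g ∈ suCl hK p n := by
  obtain ⟨d, hd, hu⟩ := exists_diag_mul_uni g hup
  obtain ⟨w, hw⟩ : ∃ w : SLn n K, w = (diagSL d hd)⁻¹ * g := ⟨_, rfl⟩
  rw [← hw] at hu
  have h1 : diagSL d hd * w = g := by rw [hw]; group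
  have hdg : ∀ i, d i = (g : Mn n K) i i := by
    intro i
    have h3 := congrArg Subtype.val h1
    rw [Matrix.SpecialLinearGroup.coe_mul, diagSL_coe] at h3
    have h4 := congrFun (congrFun h3 i) i
    rw [Matrix.diagonal_mul, hu.2 i, mul_one] at h4
    exact h4
  have hD : diagSL d hd ∈ suG hK n := by
    apply diag_mem_suG
    intro i
    rw [hdg, hdg]
    exact upper_diag_unitary hK hg hup i
  have hwS : w ∈ suS hK n := by
    refine (mem_suS hK w).2 ⟨?_, hu⟩
    rw [hw]
    exact mul_mem (inv_mem hD) hg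
  rw [← h1]
  exact mul_mem (su_diag_mem hK p hn d hd hD) (Subgroup.subset_closure (Or.inl hwS))

/-- transfer to the group `↥(suG hK n)` -/
theorem mem_closure_subtype (p : ℕ) {x : SLn n K} (hx : x ∈ suCl hK p n) :
    ∃ y : ↥(suG hK n), (y : SLn n K) = x ∧ y ∈ Subgroup.closure
      ((((suS hK n).subgroupOf (suG hK n) : Subgroup ↥(suG hK n)) : Set ↥(suG hK n)) ∪
        {h | GoodElt p ((suS hK n).subgroupOf (suG hK n)) h}) := by
  have hSG : suS hK n ≤ suG hK n := fun y hy => ((mem_suS hK y).1 hy).1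
  induction hx using Subgroup.closure_induction with
  | mem x hx =>
    rcases hx with hx | hx
    · refine ⟨⟨x, hSG hx⟩, rfl, Subgroup.subset_closure (Or.inl ?_)⟩
      show (⟨x, hSG hx⟩ : ↥(suG hK n)) ∈ (suS hK n).subgroupOf (suG hK n)
      rw [Subgroup.mem_subgroupOf]
      exact hx
    · have hx' : GoodIn p (suG hK n) (suS hK n) x := hx
      have hxG : x ∈ suG hK n := goodIn_mem hx'
      have hgood : GoodElt p ((suS hK n).subgroupOf (suG hK n)) (⟨x, hxG⟩ : ↥(suG hK n)) :=
        goodElt_of_goodIn hSG ⟨x, hxG⟩ hx'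
      exact ⟨⟨x, hxG⟩, rfl, Subgroup.subset_closure (Or.inr hgood)⟩
  | one => exact ⟨1, rfl, one_mem _⟩
  | mul a b _ _ iha ihb =>
    obtain ⟨ya, ha, ha'⟩ := iha
    obtain ⟨yb, hb, hb'⟩ := ihb
    exact ⟨ya * yb, by rw [Subgroup.coe_mul, ha, hb], mul_mem ha' hb'⟩
  | inv a _ iha =>
    obtain ⟨ya, ha, ha'⟩ := iha
    exact ⟨ya⁻¹, by rw [Subgroup.coe_inv, ha], inv_mem ha'⟩

/-- **Part (B)**: every upper triangular element of the unitary group `↥(suG hK n)`, `n ≥ 4`, lies in the
subgroup generated by the unitriangular subgroup and the good elements. -/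
theorem su_upper_mem_closure (p : ℕ) [CharP K p] (hn : 4 ≤ n) (g : ↥(suG hK n))
    (hup : ∀ i j : Fin n, j < i → ((g : SLn n K) : Mn n K) i j = 0) :
    g ∈ Subgroup.closure
      ((((suS hK n).subgroupOf (suG hK n) : Subgroup ↥(suG hK n)) : Set ↥(suG hK n)) ∪
        {h | GoodElt p ((suS hK n).subgroupOf (suG hK n)) h}) := by
  obtain ⟨y, hy, h⟩ := mem_closure_subtype hK p (su_upper_mem hK p hn (g : SLn n K) g.2 hup)
  have hyg : y = g := Subtype.ext hy
  rw [← hyg]
  exact h

/-- **Part (B)**, diagonal form. -/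
theorem su_diag_mem_closure (p : ℕ) [CharP K p] (hn : 4 ≤ n) (g : ↥(suG hK n))
    (hdiag : ∀ i j : Fin n, i ≠ j → ((g : SLn n K) : Mn n K) i j = 0) :
    g ∈ Subgroup.closure
      ((((suS hK n).subgroupOf (suG hK n) : Subgroup ↥(suG hK n)) : Set ↥(suG hK n)) ∪
        {h | GoodElt p ((suS hK n).subgroupOf (suG hK n)) h}) :=
  su_upper_mem_closure hK p hn g (fun i j hji => hdiag i j (ne_of_gt hji))

end SuFinal

end Cfsg.Agent.Helper88
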