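import Mathlib
import Cfsg.Agent.Helper95.UBNDefs
import Cfsg.Agent.Helper44.Unitary

/-! helper88: piece FLD of CALL S2546 (helper95). -/

set_option autoImplicit false
open Matrix Cfsg.Agent.Helper95.UBN

namespace Cfsg.Agent.Helper88.UBN

theorem p_FLD {F : Type*} [Field F] [Fintype F] (p : ℕ) [Fact p.Prime] [CharP F p] (q : ℕ)
    (hF : Fintype.card F = q ^ 2) :
    ∃ τ : F →+* F, (∀ x, τ x = x ^ q) ∧ (∀ x, τ (τ x) = x) ∧ (∃ e : F, e ≠ 0 ∧ τ e = -e) ∧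
      (∀ s : F, τ s = s → ∃ u : F, u + τ u = s) := by
  obtain ⟨τ, hτ⟩ := Cfsg.Agent.Helper44.exists_conj hF
  have hττ : ∀ x, τ (τ x) = x := by
    intro x
    rw [hτ, hτ]
    exact Cfsg.Agent.Helper44.conj_conj hF x
  refine ⟨τ, hτ, hττ, ?_, ?_⟩
  · obtain ⟨x, hx⟩ := Cfsg.Agent.Helper44.exists_pow_ne hF
    refine ⟨x - τ x, ?_, ?_⟩
    · rw [hτ]
      intro h
      exact hx (sub_eq_zero.1 h).symm
    · rw [map_sub, hττ]
      ring
  · intro s hs
    obtain ⟨c, hc⟩ := Cfsg.Agent.Helper44.exists_trace_ne hF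
    rw [← hτ] at hc
    have hfix : τ (c + τ c) = c + τ c := by
      rw [map_add, hττ]
      ring
    refine ⟨s * c / (c + τ c), ?_⟩
    rw [map_div₀, map_mul, hs, hfix]
    field_simp

end Cfsg.Agent.Helper88.UBN
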