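import Mathlib
import Cfsg.Agent.Helper95.UBNDefs

/-! helper88: piece TPOW of CALL S2546 (helper95). -/

set_option autoImplicit false
open Matrix Cfsg.Agent.Helper95.UBN

namespace Cfsg.Agent.Helper88.UBN

variable {F : Type*} [Field F] {n : ℕ}

theorem p_TPOW [Fintype F] (p : ℕ) [Fact p.Prime] [CharP F p] (τ : F →+* F)
    (T : Subgroup ↥(UG τ n)) (hT : ∀ t ∈ T, Pat t.1.1 1) : ¬ p ∣ Nat.card T := by
  classical
  intro hdvd
  obtain ⟨t, ht⟩ := exists_prime_orderOf_dvd_card' p hdvd
  have hpat := hT t.1 t.2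
  have hM : t.1.1.1 = Matrix.diagonal (fun a => t.1.1.1 a a) := by
    ext a b
    by_cases hab : a = b
    · subst hab; rw [Matrix.diagonal_apply_eq]
    · rw [Matrix.diagonal_apply_ne _ hab]
      by_contra h
      exact hab (hpat a b h)
  have hne : ∀ a, t.1.1.1 a a ≠ 0 := by
    intro a h0
    have h2 : t.1.1.1 * (t.1.1⁻¹).1 = 1 := by
      have : (t.1.1 * t.1.1⁻¹).1 = 1 := by rw [mul_inv_cancel]; rfl
      exact this
    have h3 := congrFun (congrFun h2 a) a
    rw [Matrix.mul_apply, Matrix.one_apply_eq] at h3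
    rw [Finset.sum_eq_zero] at h3
    · exact zero_ne_one h3
    · intro k _
      by_cases hk : a = k
      · subst hk; rw [h0, zero_mul]
      · have : t.1.1.1 a k = 0 := by
          by_contra h; exact hk (hpat a k h)
        rw [this, zero_mul]
  have hpowM : t.1.1.1 ^ (Fintype.card F - 1) = 1 := by
    rw [hM, Matrix.diagonal_pow]
    rw [← Matrix.diagonal_one]
    congr 1
    funext a
    show t.1.1.1 a a ^ (Fintype.card F - 1) = 1
    exact FiniteField.pow_card_sub_one_eq_one _ (hne a)
  have hpow : t ^ (Fintype.card F - 1) = 1 := by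
    apply Subtype.ext
    apply Subtype.ext
    apply Subtype.ext
    exact hpowM
  have h1 : p ∣ Fintype.card F - 1 := by
    rw [← ht]
    exact orderOf_dvd_of_pow_eq_one hpow
  have h2 : p ∣ Fintype.card F :=
    (CharP.cast_eq_zero_iff F p (Fintype.card F)).1 (FiniteField.cast_card_eq_zero F)
  have h3 : 0 < Fintype.card F := Fintype.card_pos
  have h4 : p ∣ Fintype.card F - (Fintype.card F - 1) := Nat.dvd_sub h2 h1
  have h5 : Fintype.card F - (Fintype.card F - 1) = 1 := by omega
  rw [h5] at h4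
  have h6 := (Fact.out : p.Prime).one_lt
  have h7 := Nat.le_of_dvd one_pos h4
  omega

end Cfsg.Agent.Helper88.UBN
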